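import Cfsg.Agent.JThreeUniq.CertRel
import Cfsg.Agent.JThreeUniq.Cert2.Cert

/-!
The bound for the power 2 of the element of order three.
-/

set_option autoImplicit false
set_option maxRecDepth 100000
set_option Elab.async false
set_option synthInstance.maxSize 20000
set_option synthInstance.maxHeartbeats 400000

namespace Cfsg.Agent.JThreeUniq.Cert2

open Cfsg.Agent.JThreeRecog Cfsg.Agent.DCoset

theorem act_ok : JThreeUniq.actOK tab := by
  unfold JThreeUniq.actOK
  decide +kernel

theorem tab_acts : Acts pr tab lq (bpt [0, 1, 2, 4]) :=
  acts rfl act_ok tab_act_lt (by decide +kernel)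

theorem chain_prod : ((List.range tab.k).map (cover.chain 0).size).prod = 1920 := by decide +kernel

/-- The model. -/
noncomputable def model [Finite W] : QModel W :=
  wModel tab_acts (cover.chain 0) chain_prod
    (fun l a hl ha => valid.chain_gen 0 l a valid.live_zero.1 hl ha)
    (fun l m hl hm => valid.chain_pt 0 l m valid.live_zero.1 hl hm)

theorem rules_ok : ∀ r < rules.nRule, ruleOK tab rules r := by
  unfold ruleOK
  decide +kernel

theorem rels_ok : ∀ r < 2, relOK tab rules 2 r := by
  unfold relOK
  decide +kernel

theorem shape_ok : Shape tab rules 2 where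
  two := rfl
  inv := by decide +kernel
  mul := by decide +kernel
  nrel := rfl
  rule := rules_ok
  rel := rels_ok

universe v

/-- The bound. -/
theorem bound [Finite W] (H : Type v) [Group H] [Finite H] (Φ : W →* H) (g : H) (h : Rel Φ g 2)
    (hg : Subgroup.closure (Set.range Φ ∪ {g}) = ⊤) : Nat.card H ≤ 1920 * 1 :=
  bound_of_cert (P := model) (N := 1) rfl rfl shape_ok steps_ok node_src valid idx_sum H Φ g h hg

end Cfsg.Agent.JThreeUniq.Cert2
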