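import Cfsg.Agent.JThreeUniq.Cert2.RuleData

/-! Generated by tools/dcoset/emit.py: forests and chains. -/

set_option Elab.async false

namespace Cfsg.Agent.JThreeUniq.Cert2

open Cfsg.Agent.DCoset Cfsg.Agent.CosetCert

def parS : Store := (.leaf 0x5000500030003000100080000000600000000)

noncomputable def par : Nat → Nat := get16 parS

def viaS : Store := (.leaf 0x5000700050007000500050005000500010000)

noncomputable def via : Nat → Nat := get16 viaS

def rankS : Store := (.leaf 0x3000300020002000200040001000300010000)

noncomputable def rank : Nat → Nat := get16 rankS

def uForS : Store := (.node 5 (.node 2 (.node 1 (.leaf 0x0) (.leaf 0x0)) (.node 3 (.leaf 0x3040002) (.node 4 (.leaf 0x0) (.leaf 0x703040003)))) (.node 7 (.node 6 (.leaf 0x0) (.leaf 0x503040003)) (.node 8 (.leaf 0x303040003) (.node 9 (.leaf 0x206050003) (.leaf 0x206040003)))))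

def rootFS : Store := (.leaf 0x13181319)

noncomputable def rootF : Nat → Nat := get16 rootFS

def chOffS : Store := (.leaf 0x7000600050000)

noncomputable def chOff : Nat → Nat := get16 chOffS

def chCntS : Store := (.leaf 0x1000200030008)

noncomputable def chCnt : Nat → Nat := get16 chCntS

def chSizeS : Store := (.leaf 0x3000400050020)

noncomputable def chSize : Nat → Nat := get16 chSizeS

def chPtOffS : Store := (.node 2 (.node 1 (.leaf 0x0) (.leaf 0x20)) (.node 3 (.leaf 0x25) (.leaf 0x29)))

def chPtS : Store := (.leaf 0x8000f0004000f000800040002000f00080004000200010017000d001b000e000b0007001d001e001f00030005000900130006000a00150016000c000f0019001a001c0011001200140018000100020004000800100000)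

noncomputable def chPt : Nat → Nat := get16 chPtS

def chParS : Store := (.leaf 0x100000000000100010000000000020002000100000000000e000c000b000b000a000a000a000a000600050005000500040004000400030003000300020002000200020001000100010001000000000000000000000000)

noncomputable def chPar : Nat → Nat := get16 chParS

def chViaS : Store := (.leaf 0x10000000000000002000000000000000000050002000400020007000500040003000500030002000100040002000100040003000100050004000300020004000300020001000400030002000100000000)

noncomputable def chVia : Nat → Nat := get16 chViaS

def chPosS : Store := (.leaf 0xffffffffffffffffffffffffffffffffffffffffffffffffffffffffffffffff0001ffffffffffffffffffffffff0002ffffffffffff0000ffffffffffffffffffffffffffffffffffffffffffffffffffffffffffffffffffffffffffffffff0003ffffffffffffffffffffffff0002ffffffffffff0001ffff0000ffffffffffffffffffffffffffffffffffffffffffffffffffffffffffffffffffffffff0004ffffffffffffffffffffffff0003ffffffffffff0002ffff00010000ffff001700180019000a001d000b000c0006001f000f001000070013000800090001000d001c001e000e001b001100140002001a0012001500030016000400050000)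

noncomputable def chPos : Nat → Nat := get16 chPosS

def idxS : Store := (.leaf 0x1)


end Cfsg.Agent.JThreeUniq.Cert2
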