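import Cfsg.Agent.JThreeUniq.Cert2.Table

/-! Generated by tools/dcoset/emit.py: rules and relators. -/

set_option Elab.async false

namespace Cfsg.Agent.JThreeUniq.Cert2

open Cfsg.Agent.DCoset Cfsg.Agent.CosetCert

def rSS : Store := (.leaf 0x100010001000100010001000100010000000000000000000000000000000000000000)

noncomputable def rS : Nat → Nat := get16 rSS

def rDS : Store := (.leaf 0x100010001000100010001000100010000000000000000000000000000000000000000)

noncomputable def rD : Nat → Nat := get16 rDS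

def rUS : Store := (.node 13 (.node 6 (.node 3 (.node 1 (.leaf 0x1) (.node 2 (.leaf 0x10001) (.leaf 0x20001))) (.node 4 (.leaf 0x30001) (.node 5 (.leaf 0x40001) (.leaf 0x50001)))) (.node 9 (.node 7 (.leaf 0x60001) (.node 8 (.leaf 0x70001) (.leaf 0x80001))) (.node 11 (.node 10 (.leaf 0x90001) (.leaf 0x1)) (.node 12 (.leaf 0x40001) (.leaf 0x50001))))) (.node 19 (.node 16 (.node 14 (.leaf 0x60001) (.node 15 (.leaf 0x7090002) (.leaf 0x9080002))) (.node 17 (.leaf 0x2010002) (.node 18 (.leaf 0x1020002) (.leaf 0x1)))) (.node 22 (.node 20 (.leaf 0x40001) (.node 21 (.leaf 0x50001) (.leaf 0x60001))) (.node 24 (.node 23 (.leaf 0x7090002) (.leaf 0x9080002)) (.node 25 (.leaf 0x2010002) (.leaf 0x1020002))))))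

def rVS : Store := (.node 13 (.node 6 (.node 3 (.node 1 (.leaf 0x1) (.node 2 (.leaf 0x10001) (.leaf 0x20001))) (.node 4 (.leaf 0x30001) (.node 5 (.leaf 0x40001) (.leaf 0x50001)))) (.node 9 (.node 7 (.leaf 0x60001) (.node 8 (.leaf 0x70001) (.leaf 0x80001))) (.node 11 (.node 10 (.leaf 0x90001) (.leaf 0x40001)) (.node 12 (.leaf 0x1) (.leaf 0x50001))))) (.node 19 (.node 16 (.node 14 (.leaf 0x60001) (.node 15 (.leaf 0x9040108050005) (.leaf 0x7060301080005))) (.node 17 (.leaf 0x7040905020005) (.node 18 (.leaf 0x7090501030005) (.leaf 0x1)))) (.node 22 (.node 20 (.leaf 0x40001) (.node 21 (.leaf 0x50001) (.leaf 0x60001))) (.node 24 (.node 23 (.leaf 0x7090002) (.leaf 0x9080002)) (.node 25 (.leaf 0x2010002) (.leaf 0x1020002))))))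

def invTS : Store := (.leaf 0x10000)

noncomputable def invT : Nat → Nat := get16 invTS

def mulTS : Store := (.leaf 0x1000200020001)

noncomputable def mulT : Nat → Nat := get16 mulTS

def relHdS : Store := (.leaf 0x10001)

noncomputable def relHd : Nat → Nat := get16 relHdS

def relLenS : Store := (.leaf 0x70002)

noncomputable def relLen : Nat → Nat := get16 relLenS

def relWS : Store := (.node 7 (.node 3 (.node 1 (.leaf 0x804070003) (.node 2 (.leaf 0x804070003) (.leaf 0x0))) (.node 5 (.node 4 (.leaf 0x0) (.leaf 0x0)) (.node 6 (.leaf 0x0) (.leaf 0x0)))) (.node 10 (.node 8 (.leaf 0x90001) (.node 9 (.leaf 0x90002) (.leaf 0x90001))) (.node 12 (.node 11 (.leaf 0x90002) (.leaf 0x90001)) (.node 13 (.leaf 0x90002) (.leaf 0x90001)))))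

def relTS : Store := (.leaf 0x10001000100010001000100010000000000000000000000010001)

noncomputable def relT : Nat → Nat := get16 relTS

def relTlS : Store := (.node 1 (.leaf 0x804070003) (.leaf 0x906000003))

/-- The rules and relators. -/
noncomputable def rules : Rules where
  nT := 2
  invT := invT
  mulT a b := mulT (Nat.add (Nat.mul a 2) b)
  nRule := 26
  rS := rS
  rD := rD
  rU := rUS.get
  rV := rVS.get
  nRel := 2
  relHd := relHd
  relLen := relLen
  relW r m := relWS.get (Nat.add (Nat.mul r 7) m)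
  relT r m := relT (Nat.add (Nat.mul r 7) m)
  relTl := relTlS.get

end Cfsg.Agent.JThreeUniq.Cert2
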