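import Cfsg.Agent.JThreeUniq.Cert2.RuleData

/-! Generated by tools/dcoset/emit.py: step words. -/

set_option Elab.async false

namespace Cfsg.Agent.JThreeUniq.Cert2

open Cfsg.Agent.DCoset Cfsg.Agent.CosetCert

def argWS_1 : Store := (.node 9 (.node 4 (.node 2 (.node 1 (.leaf 0x1) (.leaf 0x10001)) (.node 3 (.leaf 0x20001) (.leaf 0x30001))) (.node 6 (.node 5 (.leaf 0x40001) (.leaf 0x50001)) (.node 7 (.leaf 0x50001) (.node 8 (.leaf 0x0) (.leaf 0x70001))))) (.node 14 (.node 11 (.node 10 (.leaf 0x20001) (.leaf 0x0)) (.node 12 (.leaf 0x70001) (.node 13 (.leaf 0x0) (.leaf 0x10001)))) (.node 16 (.node 15 (.leaf 0x0) (.leaf 0x1040002)) (.node 17 (.leaf 0x0) (.node 18 (.leaf 0x10001) (.leaf 0x0))))))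

def argWS_2 : Store := (.node 28 (.node 23 (.node 21 (.node 20 (.leaf 0x20001) (.leaf 0x0)) (.node 22 (.leaf 0x2010002) (.leaf 0x0))) (.node 25 (.node 24 (.leaf 0x20001) (.leaf 0x0)) (.node 26 (.leaf 0x2030002) (.node 27 (.leaf 0x0) (.leaf 0x40001))))) (.node 33 (.node 30 (.node 29 (.leaf 0x0) (.leaf 0x4020002)) (.node 31 (.leaf 0x0) (.node 32 (.leaf 0x20001) (.leaf 0x0)))) (.node 35 (.node 34 (.leaf 0x0) (.leaf 0x20001)) (.node 36 (.leaf 0x0) (.node 37 (.leaf 0x2050002) (.leaf 0x0))))))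

def argWS_3 : Store := (.node 19 argWS_1 argWS_2)

def argWS_4 : Store := (.node 47 (.node 42 (.node 40 (.node 39 (.leaf 0x70001) (.leaf 0x0)) (.node 41 (.leaf 0x7050002) (.leaf 0x0))) (.node 44 (.node 43 (.leaf 0x7050002) (.leaf 0x0)) (.node 45 (.leaf 0x7050003) (.node 46 (.leaf 0x0) (.leaf 0x4020002))))) (.node 52 (.node 49 (.node 48 (.leaf 0x0) (.leaf 0x2000002)) (.node 50 (.leaf 0x0) (.node 51 (.leaf 0x2030002) (.leaf 0x0)))) (.node 54 (.node 53 (.leaf 0x30207050004) (.leaf 0x0)) (.node 55 (.leaf 0x7050003) (.node 56 (.leaf 0x0) (.leaf 0x20007050004))))))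

def argWS_5 : Store := (.node 66 (.node 61 (.node 59 (.node 58 (.leaf 0x0) (.leaf 0x1)) (.node 60 (.leaf 0x0) (.leaf 0x20001))) (.node 63 (.node 62 (.leaf 0x0) (.leaf 0x50001)) (.node 64 (.leaf 0x0) (.node 65 (.leaf 0x4050002) (.leaf 0x0))))) (.node 71 (.node 68 (.node 67 (.leaf 0x70001) (.leaf 0x0)) (.node 69 (.leaf 0x1070002) (.node 70 (.leaf 0x0) (.leaf 0x70001)))) (.node 73 (.node 72 (.leaf 0x0) (.leaf 0x701070003)) (.node 74 (.leaf 0x0) (.node 75 (.leaf 0x2050002) (.leaf 0x0))))))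

def argWS_6 : Store := (.node 57 argWS_4 argWS_5)

def argWS_7 : Store := (.node 38 argWS_3 argWS_6)

def argWS_8 : Store := (.node 85 (.node 80 (.node 78 (.node 77 (.leaf 0x204060003) (.leaf 0x0)) (.node 79 (.leaf 0x7050003) (.leaf 0x0))) (.node 82 (.node 81 (.leaf 0x10007050004) (.leaf 0x0)) (.node 83 (.leaf 0x204060003) (.node 84 (.leaf 0x0) (.leaf 0x70102080004))))) (.node 90 (.node 87 (.node 86 (.leaf 0x0) (.leaf 0x701070003)) (.node 88 (.leaf 0x0) (.node 89 (.leaf 0x5070705080006) (.leaf 0x0)))) (.node 92 (.node 91 (.leaf 0x2010002) (.leaf 0x0)) (.node 93 (.leaf 0x10205070705080007) (.node 94 (.leaf 0x0) (.leaf 0x5070705080006))))))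

def argWS_9 : Store := (.node 104 (.node 99 (.node 97 (.node 96 (.leaf 0x0) (.leaf 0x20005070705080007)) (.node 98 (.leaf 0x0) (.leaf 0x701070003))) (.node 101 (.node 100 (.leaf 0x0) (.leaf 0x70107050004)) (.node 102 (.leaf 0x0) (.node 103 (.leaf 0x70001) (.leaf 0x0))))) (.node 109 (.node 106 (.node 105 (.leaf 0x40607060607090007) (.leaf 0x0)) (.node 107 (.leaf 0x70107050004) (.node 108 (.leaf 0x0) (.leaf 0x701060707090006)))) (.node 111 (.node 110 (.leaf 0x0) (.leaf 0x30001)) (.node 112 (.leaf 0x0) (.node 113 (.leaf 0x20307050004) (.leaf 0x0))))))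

def argWS_10 : Store := (.node 95 argWS_8 argWS_9)

def argWS_11 : Store := (.node 123 (.node 118 (.node 116 (.node 115 (.leaf 0x2050002) (.leaf 0x0)) (.node 117 (.leaf 0x20006070705080007) (.leaf 0x0))) (.node 120 (.node 119 (.leaf 0x70102080004) (.leaf 0x0)) (.node 121 (.leaf 0x407050003) (.node 122 (.leaf 0x0) (.leaf 0x407050003))))) (.node 128 (.node 125 (.node 124 (.leaf 0x0) (.leaf 0x80001)) (.node 126 (.leaf 0x0) (.node 127 (.leaf 0x20005070705080007) (.leaf 0x0)))) (.node 130 (.node 129 (.leaf 0x40301060004) (.leaf 0x0)) (.node 131 (.leaf 0x0) (.node 132 (.leaf 0x1020002) (.leaf 0x1020002))))))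

def argWS_12 : Store := (.node 142 (.node 137 (.node 135 (.node 134 (.leaf 0x0) (.leaf 0x0)) (.node 136 (.leaf 0x607060607090006) (.leaf 0x607060607090006))) (.node 139 (.node 138 (.leaf 0x0) (.leaf 0x0)) (.node 140 (.leaf 0x50001) (.node 141 (.leaf 0x50001) (.leaf 0x0))))) (.node 147 (.node 144 (.node 143 (.leaf 0x10001) (.leaf 0x0)) (.node 145 (.leaf 0x1070002) (.node 146 (.leaf 0x0) (.leaf 0x105070705080006)))) (.node 149 (.node 148 (.leaf 0x0) (.leaf 0x10507060607090007)) (.node 150 (.leaf 0x0) (.node 151 (.leaf 0x70001) (.leaf 0x0))))))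

def argWS_13 : Store := (.node 133 argWS_11 argWS_12)

def argWS_14 : Store := (.node 114 argWS_10 argWS_13)

def argWS_15 : Store := (.node 76 argWS_7 argWS_14)

def argWS_16 : Store := (.node 161 (.node 156 (.node 154 (.node 153 (.leaf 0x5070705080005) (.leaf 0x0)) (.node 155 (.leaf 0x507060607090006) (.leaf 0x0))) (.node 158 (.node 157 (.leaf 0x0) (.leaf 0x0)) (.node 159 (.leaf 0x10001) (.node 160 (.leaf 0x0) (.leaf 0x0))))) (.node 166 (.node 163 (.node 162 (.leaf 0x10001) (.leaf 0x1000002)) (.node 164 (.leaf 0x0) (.node 165 (.leaf 0xa0001) (.leaf 0x0)))) (.node 168 (.node 167 (.leaf 0x0) (.leaf 0x10507060607090007)) (.node 169 (.leaf 0x0) (.node 170 (.leaf 0x0) (.leaf 0x10507060607090007))))))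

def argWS_17 : Store := (.node 180 (.node 175 (.node 173 (.node 172 (.leaf 0x1040507060607090008) (.leaf 0x0)) (.node 174 (.leaf 0xb0a0002) (.leaf 0x0))) (.node 177 (.node 176 (.leaf 0x0) (.leaf 0x1070002)) (.node 178 (.leaf 0x0) (.node 179 (.leaf 0x0) (.leaf 0x2080002))))) (.node 185 (.node 182 (.node 181 (.leaf 0x107050003) (.leaf 0x0)) (.node 183 (.leaf 0xe110f0f0c0005) (.node 184 (.leaf 0x0) (.leaf 0x0)))) (.node 187 (.node 186 (.leaf 0x70001) (.leaf 0x0)) (.node 188 (.leaf 0x0) (.node 189 (.leaf 0x2080002) (.leaf 0x3070002))))))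

def argWS_18 : Store := (.node 171 argWS_16 argWS_17)

def argWS_19 : Store := (.node 199 (.node 194 (.node 192 (.node 191 (.leaf 0x0) (.leaf 0xf100e0003)) (.node 193 (.leaf 0x0) (.leaf 0x0))) (.node 196 (.node 195 (.leaf 0x50709080004) (.leaf 0x0)) (.node 197 (.leaf 0xd0d0e0003) (.node 198 (.leaf 0x0) (.leaf 0x0))))) (.node 204 (.node 201 (.node 200 (.leaf 0x0) (.leaf 0x0)) (.node 202 (.leaf 0x40001) (.node 203 (.leaf 0x0) (.leaf 0x0)))) (.node 206 (.node 205 (.leaf 0x4000002) (.leaf 0x0)) (.node 207 (.leaf 0x0) (.node 208 (.leaf 0x302050003) (.leaf 0x0))))))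

def argWS_20 : Store := (.node 218 (.node 213 (.node 211 (.node 210 (.leaf 0x0) (.leaf 0x203060607090006)) (.node 212 (.leaf 0x0) (.leaf 0x0))) (.node 215 (.node 214 (.leaf 0x7010208050705080008) (.leaf 0x40001)) (.node 216 (.leaf 0x0) (.node 217 (.leaf 0x110d0f0c0004) (.leaf 0x0))))) (.node 223 (.node 220 (.node 219 (.leaf 0x10001) (.leaf 0x302010607090006)) (.node 221 (.leaf 0x0) (.node 222 (.leaf 0xc100d0d0e0005) (.leaf 0x0)))) (.node 225 (.node 224 (.leaf 0xde) (.leaf 0xb0a0f0c0004)) (.node 226 (.leaf 0x40001) (.node 227 (.leaf 0x0) (.leaf 0x0))))))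

def argWS_21 : Store := (.node 209 argWS_19 argWS_20)

def argWS_22 : Store := (.node 190 argWS_18 argWS_21)

def argWS_23 : Store := (.node 237 (.node 232 (.node 230 (.node 229 (.leaf 0x0) (.leaf 0x40001)) (.node 231 (.leaf 0x0) (.leaf 0xa0001))) (.node 234 (.node 233 (.leaf 0x80001) (.leaf 0x0)) (.node 235 (.leaf 0x0) (.node 236 (.leaf 0x302050705080006) (.leaf 0x0))))) (.node 242 (.node 239 (.node 238 (.leaf 0xd0001) (.leaf 0x80001)) (.node 240 (.leaf 0x0) (.node 241 (.leaf 0x0) (.leaf 0x7010208050005)))) (.node 244 (.node 243 (.leaf 0x0) (.leaf 0xc100c0003)) (.node 245 (.leaf 0x80001) (.node 246 (.leaf 0x0) (.leaf 0x0))))))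

def argWS_24 : Store := (.node 256 (.node 251 (.node 249 (.node 248 (.leaf 0x0) (.leaf 0x0)) (.node 250 (.leaf 0x40001) (.leaf 0x0))) (.node 253 (.node 252 (.leaf 0x0) (.leaf 0x50001)) (.node 254 (.leaf 0x0) (.node 255 (.leaf 0x0) (.leaf 0x204010607090006))))) (.node 261 (.node 258 (.node 257 (.leaf 0x50001) (.leaf 0x0)) (.node 259 (.leaf 0x40001) (.node 260 (.leaf 0x0) (.leaf 0x4050002)))) (.node 263 (.node 262 (.leaf 0x0) (.leaf 0x4050002)) (.node 264 (.leaf 0x0) (.node 265 (.leaf 0x50001) (.leaf 0x0))))))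

def argWS_25 : Store := (.node 247 argWS_23 argWS_24)

def argWS_26 : Store := (.node 275 (.node 270 (.node 268 (.node 267 (.leaf 0xf100b0e0004) (.leaf 0x0)) (.node 269 (.leaf 0x40001) (.leaf 0x1050709080005))) (.node 272 (.node 271 (.leaf 0x0) (.leaf 0x110d0d0e0004)) (.node 273 (.leaf 0x0) (.node 274 (.leaf 0x110) (.leaf 0xd0d0e0003))))) (.node 280 (.node 277 (.node 276 (.leaf 0x0) (.leaf 0x0)) (.node 278 (.leaf 0x40001) (.node 279 (.leaf 0x0) (.leaf 0xd110002)))) (.node 282 (.node 281 (.leaf 0x80001) (.leaf 0x0)) (.node 283 (.leaf 0x0) (.node 284 (.leaf 0x0) (.leaf 0x0))))))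

def argWS_27 : Store := (.node 295 (.node 290 (.node 287 (.node 286 (.leaf 0x301060705080006) (.leaf 0x301060705080006)) (.node 288 (.leaf 0x0) (.node 289 (.leaf 0xd100f0c0004) (.leaf 0x0)))) (.node 292 (.node 291 (.leaf 0x40001) (.leaf 0x1040709080607090008)) (.node 293 (.leaf 0x0) (.node 294 (.leaf 0xf100b0d0d0e0006) (.leaf 0x0))))) (.node 300 (.node 297 (.node 296 (.leaf 0x126) (.leaf 0xb0d0002)) (.node 298 (.leaf 0x301060705080006) (.node 299 (.leaf 0x0) (.leaf 0x0)))) (.node 302 (.node 301 (.leaf 0x0) (.leaf 0x0)) (.node 303 (.leaf 0x0) (.node 304 (.leaf 0x110b0e0003) (.leaf 0x0))))))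

def argWS_28 : Store := (.node 285 argWS_26 argWS_27)

def argWS_29 : Store := (.node 266 argWS_25 argWS_28)

def argWS_30 : Store := (.node 228 argWS_22 argWS_29)

def argWS_31 : Store := (.node 152 argWS_15 argWS_30)

def argWS_32 : Store := (.node 314 (.node 309 (.node 307 (.node 306 (.leaf 0x2040109080607090008) (.leaf 0x2030108060705080008)) (.node 308 (.leaf 0x0) (.leaf 0xf100b0e0004))) (.node 311 (.node 310 (.leaf 0x0) (.leaf 0x135)) (.node 312 (.leaf 0xc100e0003) (.node 313 (.leaf 0x0) (.leaf 0xe110f0c0004))))) (.node 319 (.node 316 (.node 315 (.leaf 0x0) (.leaf 0x0)) (.node 317 (.leaf 0xd110002) (.node 318 (.leaf 0x8060002) (.leaf 0x0)))) (.node 321 (.node 320 (.leaf 0x0) (.leaf 0x0)) (.node 322 (.leaf 0x0) (.node 323 (.leaf 0x301060705080006) (.leaf 0x0))))))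

def argWS_33 : Store := (.node 333 (.node 328 (.node 326 (.node 325 (.leaf 0x0) (.leaf 0xf100d0f0c0005)) (.node 327 (.leaf 0x108060003) (.leaf 0x0))) (.node 330 (.node 329 (.leaf 0x0) (.leaf 0x0)) (.node 331 (.leaf 0x0) (.node 332 (.leaf 0x1020607090005) (.leaf 0xa0001))))) (.node 338 (.node 335 (.node 334 (.leaf 0xd110c0003) (.leaf 0x14d)) (.node 336 (.leaf 0x100c0f0c0004) (.node 337 (.leaf 0x0) (.leaf 0x0)))) (.node 340 (.node 339 (.leaf 0x0) (.leaf 0x0)) (.node 341 (.leaf 0x0) (.node 342 (.leaf 0x0) (.leaf 0xf100f0003))))))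

def argWS_34 : Store := (.node 324 argWS_32 argWS_33)

def argWS_35 : Store := (.node 352 (.node 347 (.node 345 (.node 344 (.leaf 0xe110d0d0e0005) (.leaf 0x157)) (.node 346 (.leaf 0xd0f0c0003) (.leaf 0x0))) (.node 349 (.node 348 (.leaf 0x0) (.leaf 0x0)) (.node 350 (.leaf 0x110c0f0c0004) (.node 351 (.leaf 0xb0a0002) (.leaf 0x15e))))) (.node 357 (.node 354 (.node 353 (.leaf 0xd110c0003) (.leaf 0x0)) (.node 355 (.leaf 0x0) (.node 356 (.leaf 0x0) (.leaf 0x0)))) (.node 359 (.node 358 (.leaf 0x0) (.leaf 0x0)) (.node 360 (.leaf 0xd110d0e0004) (.node 361 (.leaf 0x110b0002) (.leaf 0x168))))))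

def argWS_36 : Store := (.node 371 (.node 366 (.node 364 (.node 363 (.leaf 0xf0f0c0003) (.leaf 0x0)) (.node 365 (.leaf 0x0) (.leaf 0x0))) (.node 368 (.node 367 (.leaf 0xd110e0003) (.leaf 0xd100f0d0e0005)) (.node 369 (.leaf 0x16f) (.node 370 (.leaf 0xc100c0003) (.leaf 0x0))))) (.node 376 (.node 373 (.node 372 (.leaf 0x0) (.leaf 0x0)) (.node 374 (.leaf 0x0) (.node 375 (.leaf 0x0) (.leaf 0x110e0002)))) (.node 378 (.node 377 (.leaf 0x100f0d0e0004) (.leaf 0x178)) (.node 379 (.leaf 0xc100002) (.node 380 (.leaf 0xc100b0f0d0e0006) (.leaf 0xe110d0f0c0005))))))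

def argWS_37 : Store := (.node 362 argWS_35 argWS_36)

def argWS_38 : Store := (.node 343 argWS_34 argWS_37)

def argWS_39 : Store := (.node 390 (.node 385 (.node 383 (.node 382 (.leaf 0xd110f0d0e0005) (.leaf 0xd110f0003)) (.node 384 (.leaf 0x0) (.leaf 0x302050705080006))) (.node 387 (.node 386 (.leaf 0x20407060607090007) (.leaf 0x0)) (.node 388 (.leaf 0xc100b0f0d0e0006) (.node 389 (.leaf 0x0) (.leaf 0x0))))) (.node 395 (.node 392 (.node 391 (.leaf 0x702010809080006) (.leaf 0x304090003)) (.node 393 (.leaf 0x0) (.node 394 (.leaf 0xd110c0003) (.leaf 0x0)))) (.node 397 (.node 396 (.leaf 0x0) (.leaf 0x301060705080006)) (.node 398 (.leaf 0x4030809080607090008) (.node 399 (.leaf 0x0) (.leaf 0xf100e0003))))))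

def argWS_40 : Store := (.node 409 (.node 404 (.node 402 (.node 401 (.leaf 0x0) (.leaf 0x19000018a00018400017e00017d00017c)) (.node 403 (.leaf 0x110b0002) (.leaf 0x0))) (.node 406 (.node 405 (.leaf 0x0) (.leaf 0x30107050004)) (.node 407 (.leaf 0x0) (.node 408 (.leaf 0x0) (.leaf 0x0))))) (.node 414 (.node 411 (.node 410 (.leaf 0x0) (.leaf 0xe100e0003)) (.node 412 (.leaf 0xf100b0f0004) (.node 413 (.leaf 0x110f0d0e0004) (.leaf 0xf100d0e0004)))) (.node 416 (.node 415 (.leaf 0x0) (.leaf 0x207060607090006)) (.node 417 (.leaf 0x104080607090006) (.node 418 (.leaf 0x0) (.leaf 0xb0a0e0003))))))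

def argWS_41 : Store := (.node 400 argWS_39 argWS_40)

def argWS_42 : Store := (.node 428 (.node 423 (.node 421 (.node 420 (.leaf 0x0) (.leaf 0x0)) (.node 422 (.leaf 0x40301060004) (.leaf 0x30208050004))) (.node 425 (.node 424 (.leaf 0x0) (.leaf 0xf100e0003)) (.node 426 (.leaf 0x0) (.node 427 (.leaf 0x0) (.leaf 0x4050002))))) (.node 433 (.node 430 (.node 429 (.leaf 0x40208060004) (.leaf 0x0)) (.node 431 (.leaf 0xf100e0003) (.node 432 (.leaf 0x0) (.leaf 0x1af0001a90001a300019d00019c00019b)))) (.node 435 (.node 434 (.leaf 0x110b0002) (.leaf 0x0)) (.node 436 (.leaf 0x0) (.node 437 (.leaf 0x30107060004) (.leaf 0x0))))))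

def argWS_43 : Store := (.node 448 (.node 443 (.node 440 (.node 439 (.leaf 0x0) (.leaf 0x0)) (.node 441 (.leaf 0x110d0002) (.node 442 (.leaf 0x110e0002) (.leaf 0x1b9)))) (.node 445 (.node 444 (.leaf 0xc100b0c0f0c0006) (.leaf 0x0)) (.node 446 (.leaf 0xc100e0003) (.node 447 (.leaf 0x0) (.leaf 0x7010009080607090008))))) (.node 453 (.node 450 (.node 449 (.leaf 0x10005080004) (.leaf 0x0)) (.node 451 (.leaf 0xc100f0d0e0005) (.node 452 (.leaf 0x0) (.leaf 0xe110d0f0c0005)))) (.node 455 (.node 454 (.leaf 0xd100f0d0e0005) (.leaf 0x100b0f0f0c0005)) (.node 456 (.leaf 0x0) (.node 457 (.leaf 0x40301060004) (.leaf 0x40809080607090007))))))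

def argWS_44 : Store := (.node 438 argWS_42 argWS_43)

def argWS_45 : Store := (.node 419 argWS_41 argWS_44)

def argWS_46 : Store := (.node 381 argWS_38 argWS_45)

def argWS_47 : Store := (.node 467 (.node 462 (.node 460 (.node 459 (.leaf 0x0) (.leaf 0xe100d0d0e0005)) (.node 461 (.leaf 0x0) (.leaf 0x100d0002))) (.node 464 (.node 463 (.leaf 0x1cd0001cc0001c60001c50001c40001c3) (.leaf 0xd100d0003)) (.node 465 (.leaf 0x0) (.node 466 (.leaf 0x0) (.leaf 0x3000507060005))))) (.node 472 (.node 469 (.node 468 (.leaf 0x0) (.leaf 0x0)) (.node 470 (.leaf 0x0) (.node 471 (.leaf 0x0) (.leaf 0x301060705080006)))) (.node 474 (.node 473 (.leaf 0x0) (.leaf 0x110b0f0f0c0005)) (.node 475 (.leaf 0x80001) (.node 476 (.leaf 0x0) (.leaf 0x0))))))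

def argWS_48 : Store := (.node 486 (.node 481 (.node 479 (.node 478 (.leaf 0x0) (.leaf 0x0)) (.node 480 (.leaf 0x4050705080005) (.leaf 0x0))) (.node 483 (.node 482 (.leaf 0x0) (.leaf 0x1000507060607090008)) (.node 484 (.leaf 0x0) (.node 485 (.leaf 0xb0d0d0e0004) (.leaf 0x70001))))) (.node 491 (.node 488 (.node 487 (.leaf 0x0) (.leaf 0x0)) (.node 489 (.leaf 0x0) (.node 490 (.leaf 0x0) (.leaf 0x7020108050705080008)))) (.node 493 (.node 492 (.leaf 0x100f0002) (.leaf 0x0)) (.node 494 (.leaf 0x2040109080607090008) (.node 495 (.leaf 0x304090003) (.leaf 0x0))))))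

def argWS_49 : Store := (.node 477 argWS_47 argWS_48)

def argWS_50 : Store := (.node 505 (.node 500 (.node 498 (.node 497 (.leaf 0xa0d0002) (.leaf 0x0)) (.node 499 (.leaf 0x1f1) (.leaf 0xd100d0003))) (.node 502 (.node 501 (.leaf 0x0) (.leaf 0xe110f0c0004)) (.node 503 (.leaf 0x0) (.node 504 (.leaf 0x0) (.leaf 0xb0a0c0f0c0005))))) (.node 510 (.node 507 (.node 506 (.leaf 0x70001) (.leaf 0x0)) (.node 508 (.leaf 0x0) (.node 509 (.leaf 0x0) (.leaf 0x0)))) (.node 512 (.node 511 (.leaf 0x1020905080005) (.leaf 0x0)) (.node 513 (.leaf 0x0) (.node 514 (.leaf 0xd110d0f0c0005) (.leaf 0x1070002))))))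

def argWS_51 : Store := (.node 524 (.node 519 (.node 517 (.node 516 (.leaf 0x0) (.leaf 0x0)) (.node 518 (.leaf 0x0) (.leaf 0x0))) (.node 521 (.node 520 (.leaf 0x400060607090006) (.leaf 0x110c0f0c0004)) (.node 522 (.leaf 0xb0a0002) (.node 523 (.leaf 0x209) (.leaf 0xd110c0003))))) (.node 529 (.node 526 (.node 525 (.leaf 0x0) (.leaf 0x0)) (.node 527 (.leaf 0x0) (.node 528 (.leaf 0x0) (.leaf 0x0)))) (.node 531 (.node 530 (.leaf 0x0) (.leaf 0xe100f0d0e0005)) (.node 532 (.leaf 0xe100e0003) (.node 533 (.leaf 0x213) (.leaf 0xf100d0f0c0005))))))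

def argWS_52 : Store := (.node 515 argWS_50 argWS_51)

def argWS_53 : Store := (.node 496 argWS_49 argWS_52)

def argWS_54 : Store := (.node 543 (.node 538 (.node 536 (.node 535 (.leaf 0x0) (.leaf 0xb0a0c0003)) (.node 537 (.leaf 0x110b0e0003) (.leaf 0xf100b0d0f0c0006))) (.node 540 (.node 539 (.leaf 0x0) (.leaf 0x2040109080607090008)) (.node 541 (.leaf 0x2030108060705080008) (.node 542 (.leaf 0x0) (.leaf 0xf100b0e0004))))) (.node 548 (.node 545 (.node 544 (.leaf 0x0) (.leaf 0x110b0002)) (.node 546 (.leaf 0x0) (.node 547 (.leaf 0x20709080004) (.leaf 0x40105080004)))) (.node 550 (.node 549 (.leaf 0x0) (.leaf 0x110b0f0d0e0005)) (.node 551 (.leaf 0x0) (.node 552 (.leaf 0xd100e0003) (.leaf 0x22700022600022000021f000219000218))))))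

def argWS_55 : Store := (.node 562 (.node 557 (.node 555 (.node 554 (.leaf 0xa0001) (.leaf 0x0)) (.node 556 (.leaf 0x0) (.leaf 0x4090002))) (.node 559 (.node 558 (.leaf 0x0) (.leaf 0x0)) (.node 560 (.leaf 0x0) (.node 561 (.leaf 0x0) (.leaf 0x0))))) (.node 567 (.node 564 (.node 563 (.leaf 0x0) (.leaf 0x0)) (.node 565 (.leaf 0x0) (.node 566 (.leaf 0x0) (.leaf 0x100b0002)))) (.node 569 (.node 568 (.leaf 0xb0a0f0f0c0005) (.leaf 0x237)) (.node 570 (.leaf 0xd110d0e0004) (.node 571 (.leaf 0x0) (.leaf 0x0))))))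

def argWS_56 : Store := (.node 553 argWS_54 argWS_55)

def argWS_57 : Store := (.node 581 (.node 576 (.node 574 (.node 573 (.leaf 0x0) (.leaf 0x0)) (.node 575 (.leaf 0x0) (.leaf 0x0))) (.node 578 (.node 577 (.leaf 0xd0d0e0003) (.leaf 0xe110d0e0004)) (.node 579 (.leaf 0x241) (.node 580 (.leaf 0x100b0d0d0e0005) (.leaf 0x0))))) (.node 586 (.node 583 (.node 582 (.leaf 0x0) (.leaf 0x0)) (.node 584 (.leaf 0xd110f0c0004) (.node 585 (.leaf 0xe110d0003) (.leaf 0x248)))) (.node 588 (.node 587 (.leaf 0xf100d0e0004) (.leaf 0x0)) (.node 589 (.leaf 0x0) (.node 590 (.leaf 0x0) (.leaf 0x0))))))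

def argWS_58 : Store := (.node 601 (.node 596 (.node 593 (.node 592 (.leaf 0x0) (.leaf 0x0)) (.node 594 (.leaf 0xe110f0d0e0005) (.node 595 (.leaf 0xd110f0d0e0005) (.leaf 0x252)))) (.node 598 (.node 597 (.leaf 0xf100b0d0f0c0006) (.leaf 0x0)) (.node 599 (.leaf 0x0) (.node 600 (.leaf 0x0) (.leaf 0x0))))) (.node 606 (.node 603 (.node 602 (.leaf 0x0) (.leaf 0x0)) (.node 604 (.leaf 0x0) (.node 605 (.leaf 0x0) (.leaf 0x0)))) (.node 608 (.node 607 (.leaf 0x0) (.leaf 0x0)) (.node 609 (.leaf 0x0) (.node 610 (.leaf 0x0) (.leaf 0x0))))))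

def argWS_59 : Store := (.node 591 argWS_57 argWS_58)

def argWS_60 : Store := (.node 572 argWS_56 argWS_59)

def argWS_61 : Store := (.node 534 argWS_53 argWS_60)

def argWS_62 : Store := (.node 458 argWS_46 argWS_61)

def argWS_63 : Store := (.node 305 argWS_31 argWS_62)

def argWS_64 : Store := (.node 620 (.node 615 (.node 613 (.node 612 (.leaf 0x0) (.leaf 0x0)) (.node 614 (.leaf 0x0) (.leaf 0x0))) (.node 617 (.node 616 (.leaf 0x0) (.leaf 0x0)) (.node 618 (.leaf 0x0) (.node 619 (.leaf 0x0) (.leaf 0x0))))) (.node 625 (.node 622 (.node 621 (.leaf 0x0) (.leaf 0x0)) (.node 623 (.leaf 0xd0001) (.node 624 (.leaf 0xc0f0c0003) (.leaf 0xc100b0003)))) (.node 627 (.node 626 (.leaf 0xf100c0f0c0005) (.leaf 0x0)) (.node 628 (.leaf 0x1000507060607090008) (.node 629 (.leaf 0x10408050705080007) (.leaf 0x0))))))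

def argWS_65 : Store := (.node 639 (.node 634 (.node 632 (.node 631 (.leaf 0xb0e0002) (.leaf 0x0)) (.node 633 (.leaf 0x0) (.leaf 0x2040109080607090008))) (.node 636 (.node 635 (.leaf 0x1040607050005) (.leaf 0x0)) (.node 637 (.leaf 0x100f0d0e0004) (.node 638 (.leaf 0x0) (.leaf 0xe100c0f0c0005))))) (.node 644 (.node 641 (.node 640 (.leaf 0x27e00027d00027700027100027000026f) (.leaf 0x0)) (.node 642 (.leaf 0x0) (.node 643 (.leaf 0x80905080005) (.leaf 0xe100e0003)))) (.node 646 (.node 645 (.leaf 0xf100b0f0004) (.leaf 0x110f0d0e0004)) (.node 647 (.leaf 0xf100d0e0004) (.node 648 (.leaf 0x0) (.leaf 0x4050002))))))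

def argWS_66 : Store := (.node 630 argWS_64 argWS_65)

def argWS_67 : Store := (.node 658 (.node 653 (.node 651 (.node 650 (.leaf 0x1040507060607090008) (.leaf 0x0)) (.node 652 (.leaf 0x100b0d0d0e0005) (.leaf 0x0))) (.node 655 (.node 654 (.leaf 0x100001) (.leaf 0xd110d0003)) (.node 656 (.leaf 0x28e00028d00028c000286000285000284) (.node 657 (.leaf 0x0) (.leaf 0x4050705080005))))) (.node 663 (.node 660 (.node 659 (.leaf 0x30408050705080007) (.leaf 0x0)) (.node 661 (.leaf 0x0) (.node 662 (.leaf 0x0) (.leaf 0x110001)))) (.node 665 (.node 664 (.leaf 0x0) (.leaf 0xb0f0d0e0004)) (.node 666 (.leaf 0x0) (.node 667 (.leaf 0x0) (.leaf 0x0))))))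

def argWS_68 : Store := (.node 677 (.node 672 (.node 670 (.node 669 (.leaf 0x0) (.leaf 0x0)) (.node 671 (.leaf 0x0) (.leaf 0x0))) (.node 674 (.node 673 (.leaf 0xc100e0003) (.leaf 0xf100b0f0c0005)) (.node 675 (.leaf 0x2a1) (.node 676 (.leaf 0xc100b0d0004) (.leaf 0x0))))) (.node 682 (.node 679 (.node 678 (.leaf 0x0) (.leaf 0x0)) (.node 680 (.leaf 0x0) (.node 681 (.leaf 0x0) (.leaf 0x0)))) (.node 684 (.node 683 (.leaf 0x0) (.leaf 0x0)) (.node 685 (.leaf 0x0) (.node 686 (.leaf 0x0) (.leaf 0x0))))))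

def argWS_69 : Store := (.node 668 argWS_67 argWS_68)

def argWS_70 : Store := (.node 649 argWS_66 argWS_69)

def argWS_71 : Store := (.node 696 (.node 691 (.node 689 (.node 688 (.leaf 0x0) (.leaf 0x0)) (.node 690 (.leaf 0x0) (.leaf 0xe100f0f0c0005))) (.node 693 (.node 692 (.leaf 0xf100b0d0e0005) (.leaf 0x0)) (.node 694 (.leaf 0x4050002) (.node 695 (.leaf 0x203010809080006) (.leaf 0x0))))) (.node 701 (.node 698 (.node 697 (.leaf 0xb0a0c0003) (.leaf 0x0)) (.node 699 (.leaf 0x0) (.node 700 (.leaf 0x2040109080607090008) (.leaf 0x701000607050705080009)))) (.node 703 (.node 702 (.leaf 0x0) (.leaf 0xd110d0003)) (.node 704 (.leaf 0x0) (.node 705 (.leaf 0xe100d0d0e0005) (.leaf 0x0))))))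

def argWS_72 : Store := (.node 715 (.node 710 (.node 708 (.node 707 (.leaf 0x20709080004) (.leaf 0x102080607090006)) (.node 709 (.leaf 0x0) (.leaf 0xa0f0f0c0004))) (.node 712 (.node 711 (.leaf 0x0) (.leaf 0x110001)) (.node 713 (.leaf 0x2c70002c60002c00002bf0002b90002b3) (.node 714 (.leaf 0x100b0d0003) (.leaf 0x0))))) (.node 720 (.node 717 (.node 716 (.leaf 0x0) (.leaf 0x301060705080006)) (.node 718 (.leaf 0x40307060705080007) (.node 719 (.leaf 0x0) (.leaf 0x110b0d0f0c0005)))) (.node 722 (.node 721 (.leaf 0x0) (.leaf 0x0)) (.node 723 (.leaf 0x0) (.node 724 (.leaf 0x0) (.leaf 0x7010002))))))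

def argWS_73 : Store := (.node 706 argWS_71 argWS_72)

def argWS_74 : Store := (.node 734 (.node 729 (.node 727 (.node 726 (.leaf 0x0) (.leaf 0x0)) (.node 728 (.leaf 0xe100c0f0c0005) (.leaf 0x10001))) (.node 731 (.node 730 (.leaf 0x0) (.leaf 0x0)) (.node 732 (.leaf 0x110b0f0d0e0005) (.node 733 (.leaf 0x0) (.leaf 0x1080002))))) (.node 739 (.node 736 (.node 735 (.leaf 0x0) (.leaf 0x0)) (.node 737 (.leaf 0xb0f0c0003) (.node 738 (.leaf 0x0) (.leaf 0x0)))) (.node 741 (.node 740 (.leaf 0x0) (.leaf 0x0)) (.node 742 (.leaf 0x0) (.node 743 (.leaf 0x0) (.leaf 0x200050003))))))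

def argWS_75 : Store := (.node 753 (.node 748 (.node 746 (.node 745 (.leaf 0x300060003) (.leaf 0x0)) (.node 747 (.leaf 0x0) (.leaf 0x0))) (.node 750 (.node 749 (.leaf 0x0) (.leaf 0x0)) (.node 751 (.leaf 0xc100b0d0f0c0006) (.node 752 (.leaf 0xe100002) (.leaf 0x2ef))))) (.node 758 (.node 755 (.node 754 (.leaf 0xb0f0002) (.leaf 0x0)) (.node 756 (.leaf 0x0) (.node 757 (.leaf 0x0) (.leaf 0xb0d0f0c0004)))) (.node 760 (.node 759 (.leaf 0x100b0002) (.leaf 0xd100d0003)) (.node 761 (.leaf 0x0) (.node 762 (.leaf 0x60001) (.leaf 0x2010507060705080008))))))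

def argWS_76 : Store := (.node 744 argWS_74 argWS_75)

def argWS_77 : Store := (.node 725 argWS_73 argWS_76)

def argWS_78 : Store := (.node 687 argWS_70 argWS_77)

def argWS_79 : Store := (.node 772 (.node 767 (.node 765 (.node 764 (.leaf 0x0) (.leaf 0x100f0002)) (.node 766 (.leaf 0x0) (.leaf 0x100001))) (.node 769 (.node 768 (.leaf 0xd100d0003) (.leaf 0x110d0002)) (.node 770 (.leaf 0x3000002ff0002fe0002fd0002f70002f6) (.node 771 (.leaf 0x100b0d0003) (.leaf 0x0))))) (.node 777 (.node 774 (.node 773 (.leaf 0xf100d0e0004) (.leaf 0x0)) (.node 775 (.leaf 0x0) (.node 776 (.leaf 0x0) (.leaf 0xb0f0d0e0004)))) (.node 779 (.node 778 (.leaf 0xe110f0c0004) (.leaf 0xe110d0d0e0005)) (.node 780 (.leaf 0xb0a0f0c0004) (.node 781 (.leaf 0x100d0002) (.leaf 0x110b0d0003))))))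

def argWS_80 : Store := (.node 791 (.node 786 (.node 784 (.node 783 (.leaf 0xf100b0f0f0c0006) (.leaf 0x30e00030d00030c00030b00030a000309)) (.node 785 (.leaf 0x110b0002) (.leaf 0x0))) (.node 788 (.node 787 (.leaf 0xb0a0f0f0c0005) (.leaf 0x0)) (.node 789 (.leaf 0x0) (.node 790 (.leaf 0x0) (.leaf 0x7010002))))) (.node 796 (.node 793 (.node 792 (.leaf 0x0) (.leaf 0x0)) (.node 794 (.leaf 0xf100002) (.node 795 (.leaf 0x10001) (.leaf 0x0)))) (.node 798 (.node 797 (.leaf 0x0) (.leaf 0xc100f0f0c0005)) (.node 799 (.leaf 0x0) (.node 800 (.leaf 0x0) (.leaf 0x0))))))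

def argWS_81 : Store := (.node 782 argWS_79 argWS_80)

def argWS_82 : Store := (.node 810 (.node 805 (.node 803 (.node 802 (.leaf 0x0) (.leaf 0x0)) (.node 804 (.leaf 0x0) (.leaf 0x0))) (.node 807 (.node 806 (.leaf 0x110d0f0c0004) (.leaf 0xc100d0d0e0005)) (.node 808 (.leaf 0x326) (.node 809 (.leaf 0xb0a0f0c0004) (.leaf 0x0))))) (.node 815 (.node 812 (.node 811 (.leaf 0x0) (.leaf 0x0)) (.node 813 (.leaf 0x0) (.node 814 (.leaf 0x110f0c0003) (.leaf 0x110b0f0c0004)))) (.node 817 (.node 816 (.leaf 0x32e) (.leaf 0xf100c0f0c0005)) (.node 818 (.leaf 0x0) (.node 819 (.leaf 0x0) (.leaf 0x0))))))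

def argWS_83 : Store := (.node 829 (.node 824 (.node 822 (.node 821 (.leaf 0xf0001) (.leaf 0x110d0e0003)) (.node 823 (.leaf 0x335) (.leaf 0x100b0d0003))) (.node 826 (.node 825 (.leaf 0x100b0f0d0e0005) (.leaf 0x110b0f0d0e0005)) (.node 827 (.leaf 0xf100d0e0004) (.node 828 (.leaf 0x110b0d0003) (.leaf 0xe100d0d0e0005))))) (.node 834 (.node 831 (.node 830 (.leaf 0x110d0002) (.leaf 0xc100b0003)) (.node 832 (.leaf 0x33e00033d00033c00033b00033a000339) (.node 833 (.leaf 0xc100d0003) (.leaf 0x0)))) (.node 836 (.node 835 (.leaf 0xf100d0003) (.leaf 0x0)) (.node 837 (.leaf 0x4050705080005) (.node 838 (.leaf 0x40108050705080007) (.leaf 0x0))))))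

def argWS_84 : Store := (.node 820 argWS_82 argWS_83)

def argWS_85 : Store := (.node 801 argWS_81 argWS_84)

def argWS_86 : Store := (.node 848 (.node 843 (.node 841 (.node 840 (.leaf 0xd110c0003) (.leaf 0x0)) (.node 842 (.leaf 0xf100b0003) (.leaf 0x349))) (.node 845 (.node 844 (.leaf 0xb0e0002) (.leaf 0x0)) (.node 846 (.leaf 0x0) (.node 847 (.leaf 0x4050705080005) (.leaf 0x4050707090005))))) (.node 853 (.node 850 (.node 849 (.leaf 0x0) (.leaf 0x0)) (.node 851 (.leaf 0x0) (.node 852 (.leaf 0xd110e0003) (.leaf 0xd110d0e0004)))) (.node 855 (.node 854 (.leaf 0xc100f0f0c0005) (.leaf 0xb0c0002)) (.node 856 (.leaf 0x0) (.node 857 (.leaf 0x80905080005) (.leaf 0x80905080005))))))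

def argWS_87 : Store := (.node 867 (.node 862 (.node 860 (.node 859 (.leaf 0x0) (.leaf 0x0)) (.node 861 (.leaf 0xa0f0c0003) (.leaf 0x100d0002))) (.node 864 (.node 863 (.leaf 0xd110d0003) (.leaf 0x35e00035d00035c00035b000356000355)) (.node 865 (.leaf 0x100b0c0003) (.node 866 (.leaf 0x0) (.leaf 0x0))))) (.node 872 (.node 869 (.node 868 (.leaf 0x0) (.leaf 0x0)) (.node 870 (.leaf 0x0) (.node 871 (.leaf 0x0) (.leaf 0x0)))) (.node 874 (.node 873 (.leaf 0xf100b0c0004) (.leaf 0x0)) (.node 875 (.leaf 0x7010009080607090008) (.node 876 (.leaf 0x7010507060705080008) (.leaf 0x0))))))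

def argWS_88 : Store := (.node 858 argWS_86 argWS_87)

def argWS_89 : Store := (.node 886 (.node 881 (.node 879 (.node 878 (.leaf 0xa0d0002) (.leaf 0x0)) (.node 880 (.leaf 0xe110f0d0e0005) (.leaf 0x0))) (.node 883 (.node 882 (.leaf 0x4050002) (.leaf 0x70105070705080007)) (.node 884 (.leaf 0x0) (.node 885 (.leaf 0xe100f0d0e0005) (.leaf 0x0))))) (.node 891 (.node 888 (.node 887 (.leaf 0xa0001) (.leaf 0xe100e0003)) (.node 889 (.leaf 0x110b0f0f0c0005) (.node 890 (.leaf 0x37800037700037600037500036f00036e) (.leaf 0xe110f0c0004)))) (.node 893 (.node 892 (.leaf 0x0) (.leaf 0x0)) (.node 894 (.leaf 0x0) (.node 895 (.leaf 0x0) (.leaf 0x0))))))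

def argWS_90 : Store := (.node 906 (.node 901 (.node 898 (.node 897 (.leaf 0x0) (.leaf 0x0)) (.node 899 (.leaf 0x0) (.node 900 (.leaf 0xf100f0f0c0005) (.leaf 0xf100f0c0004)))) (.node 903 (.node 902 (.leaf 0xf100d0003) (.leaf 0xe110f0c0004)) (.node 904 (.leaf 0xe110d0d0e0005) (.node 905 (.leaf 0xf100d0003) (.leaf 0xe100f0c0004))))) (.node 911 (.node 908 (.node 907 (.leaf 0x389000388000387000386000385000384) (.leaf 0xc100002)) (.node 909 (.leaf 0x0) (.node 910 (.leaf 0xd110d0d0e0005) (.leaf 0x0)))) (.node 913 (.node 912 (.leaf 0x0) (.leaf 0x0)) (.node 914 (.leaf 0x0) (.node 915 (.leaf 0x209080003) (.leaf 0x0))))))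

def argWS_91 : Store := (.node 896 argWS_89 argWS_90)

def argWS_92 : Store := (.node 877 argWS_88 argWS_91)

def argWS_93 : Store := (.node 839 argWS_85 argWS_92)

def argWS_94 : Store := (.node 763 argWS_78 argWS_93)

def argWS_95 : Store := (.node 925 (.node 920 (.node 918 (.node 917 (.leaf 0x0) (.leaf 0x0)) (.node 919 (.leaf 0xf100b0d0d0e0006) (.leaf 0x100e0002))) (.node 922 (.node 921 (.leaf 0xd0001) (.leaf 0xf0d0e0003)) (.node 923 (.leaf 0x0) (.node 924 (.leaf 0x301060003) (.leaf 0x30407060705080007))))) (.node 930 (.node 927 (.node 926 (.leaf 0x0) (.leaf 0x100b0f0f0c0005)) (.node 928 (.leaf 0x0) (.node 929 (.leaf 0x0) (.leaf 0x60001)))) (.node 932 (.node 931 (.leaf 0x809080607090006) (.leaf 0x0)) (.node 933 (.leaf 0xd0001) (.node 934 (.leaf 0x0) (.leaf 0xa0f0d0e0004))))))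

def argWS_96 : Store := (.node 944 (.node 939 (.node 937 (.node 936 (.leaf 0x3a60003a500039f000399000398000397) (.leaf 0x110c0002)) (.node 938 (.leaf 0x0) (.leaf 0x0))) (.node 941 (.node 940 (.leaf 0x2010607050005) (.leaf 0x0)) (.node 942 (.leaf 0x0) (.node 943 (.leaf 0x0) (.leaf 0x0))))) (.node 949 (.node 946 (.node 945 (.leaf 0x0) (.leaf 0x100b0d0d0e0005)) (.node 947 (.leaf 0x0) (.node 948 (.leaf 0x7010009080607090008) (.leaf 0x3020105070908060709000a)))) (.node 951 (.node 950 (.leaf 0x0) (.leaf 0xb0a0c0003)) (.node 952 (.leaf 0x0) (.node 953 (.leaf 0x100b0e0003) (.leaf 0x0))))))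

def argWS_97 : Store := (.node 935 argWS_95 argWS_96)

def argWS_98 : Store := (.node 963 (.node 958 (.node 956 (.node 955 (.leaf 0x50001) (.leaf 0x507060607090006)) (.node 957 (.leaf 0x0) (.leaf 0xd0d0e0003))) (.node 960 (.node 959 (.leaf 0x0) (.leaf 0x0)) (.node 961 (.leaf 0x301060705080006) (.node 962 (.leaf 0x2040809080607090008) (.leaf 0x0))))) (.node 968 (.node 965 (.node 964 (.leaf 0x110001) (.leaf 0x0)) (.node 966 (.leaf 0xf100b0f0f0c0006) (.node 967 (.leaf 0x110b0002) (.leaf 0x3c60003c50003c40003be0003b80003b7)))) (.node 970 (.node 969 (.leaf 0x110b0d0003) (.leaf 0x0)) (.node 971 (.leaf 0x0) (.node 972 (.leaf 0x400060607090006) (.leaf 0x4020707090005))))))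

def argWS_99 : Store := (.node 982 (.node 977 (.node 975 (.node 974 (.leaf 0x0) (.leaf 0x0)) (.node 976 (.leaf 0x0) (.leaf 0xc100b0d0f0c0006))) (.node 979 (.node 978 (.leaf 0x0) (.leaf 0x0)) (.node 980 (.leaf 0x0) (.node 981 (.leaf 0x0) (.leaf 0x0))))) (.node 987 (.node 984 (.node 983 (.leaf 0x0) (.leaf 0x0)) (.node 985 (.leaf 0x0) (.node 986 (.leaf 0x0) (.leaf 0x0)))) (.node 989 (.node 988 (.leaf 0x0) (.leaf 0x100f0002)) (.node 990 (.leaf 0xf100b0d0f0c0006) (.node 991 (.leaf 0x3dd) (.leaf 0x110d0e0003))))))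

def argWS_100 : Store := (.node 973 argWS_98 argWS_99)

def argWS_101 : Store := (.node 954 argWS_97 argWS_100)

def argWS_102 : Store := (.node 1001 (.node 996 (.node 994 (.node 993 (.leaf 0x0) (.leaf 0x0)) (.node 995 (.leaf 0x0) (.leaf 0x0))) (.node 998 (.node 997 (.leaf 0x0) (.leaf 0xf100b0d0004)) (.node 999 (.leaf 0x1080002) (.node 1000 (.leaf 0x0) (.leaf 0x0))))) (.node 1006 (.node 1003 (.node 1002 (.leaf 0x0) (.leaf 0x0)) (.node 1004 (.leaf 0x40905080004) (.node 1005 (.leaf 0x100f0d0e0004) (.leaf 0x100b0f0d0e0005)))) (.node 1008 (.node 1007 (.leaf 0x100b0f0d0e0005) (.leaf 0x100b0d0f0c0005)) (.node 1009 (.leaf 0x0) (.node 1010 (.leaf 0x301060705080006) (.leaf 0x30201080004))))))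

def argWS_103 : Store := (.node 1020 (.node 1015 (.node 1013 (.node 1012 (.leaf 0x0) (.leaf 0xf100b0d0e0005)) (.node 1014 (.leaf 0x0) (.leaf 0x100b0d0003))) (.node 1017 (.node 1016 (.leaf 0xd100d0003) (.leaf 0x3f70003f60003f50003ef0003ee0003ed)) (.node 1018 (.leaf 0xf100f0f0c0005) (.node 1019 (.leaf 0x0) (.leaf 0xa0e0002))))) (.node 1025 (.node 1022 (.node 1021 (.leaf 0xc100f0d0e0005) (.leaf 0xe100d0f0c0005)) (.node 1023 (.leaf 0x110b0f0003) (.node 1024 (.leaf 0xf100d0e0004) (.leaf 0x0)))) (.node 1027 (.node 1026 (.leaf 0x7010009080607090008) (.leaf 0x104080607090006)) (.node 1028 (.leaf 0x0) (.node 1029 (.leaf 0x110b0f0003) (.leaf 0x0))))))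

def argWS_104 : Store := (.node 1011 argWS_102 argWS_103)

def argWS_105 : Store := (.node 1039 (.node 1034 (.node 1032 (.node 1031 (.leaf 0x0) (.leaf 0x2040109080607090008)) (.node 1033 (.leaf 0x70201050709080007) (.leaf 0x0))) (.node 1036 (.node 1035 (.leaf 0xb0d0f0c0004) (.leaf 0x0)) (.node 1037 (.leaf 0xb0001) (.node 1038 (.leaf 0x40c00040b0004050003ff0003fe0003fd) (.leaf 0xa0f0002))))) (.node 1044 (.node 1041 (.node 1040 (.leaf 0x0) (.leaf 0x0)) (.node 1042 (.leaf 0x0) (.node 1043 (.leaf 0x0) (.leaf 0x1030705080005)))) (.node 1046 (.node 1045 (.leaf 0x0) (.leaf 0x0)) (.node 1047 (.leaf 0xd110d0d0e0005) (.node 1048 (.leaf 0x0) (.leaf 0x0))))))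

def argWS_106 : Store := (.node 1059 (.node 1054 (.node 1051 (.node 1050 (.leaf 0x0) (.leaf 0x0)) (.node 1052 (.leaf 0xb0d0f0c0004) (.node 1053 (.leaf 0x110001) (.leaf 0x41c)))) (.node 1056 (.node 1055 (.leaf 0xf100d0d0e0005) (.leaf 0x0)) (.node 1057 (.leaf 0xc100d0d0e0005) (.node 1058 (.leaf 0xf0c0002) (.leaf 0xe100d0d0e0005))))) (.node 1064 (.node 1061 (.node 1060 (.leaf 0x110d0002) (.leaf 0x0)) (.node 1062 (.leaf 0x4060002) (.node 1063 (.leaf 0x40107060705080007) (.leaf 0x0)))) (.node 1066 (.node 1065 (.leaf 0xc100b0f0d0e0006) (.leaf 0x0)) (.node 1067 (.leaf 0x0) (.node 1068 (.leaf 0x2040109080607090008) (.leaf 0x304090003))))))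

def argWS_107 : Store := (.node 1049 argWS_105 argWS_106)

def argWS_108 : Store := (.node 1030 argWS_104 argWS_107)

def argWS_109 : Store := (.node 992 argWS_101 argWS_108)

def argWS_110 : Store := (.node 1078 (.node 1073 (.node 1071 (.node 1070 (.leaf 0x0) (.leaf 0xa0d0002)) (.node 1072 (.leaf 0x0) (.leaf 0x110b0f0d0e0005))) (.node 1075 (.node 1074 (.leaf 0x43000042f000429000423000422000421) (.leaf 0xc100f0003)) (.node 1076 (.leaf 0x0) (.node 1077 (.leaf 0x0) (.leaf 0x0))))) (.node 1083 (.node 1080 (.node 1079 (.leaf 0x8060705080006) (.leaf 0x0)) (.node 1081 (.leaf 0x0) (.node 1082 (.leaf 0x110001) (.leaf 0x10001)))) (.node 1085 (.node 1084 (.leaf 0x0) (.leaf 0x0)) (.node 1086 (.leaf 0x100001) (.node 1087 (.leaf 0xc100d0e0004) (.leaf 0xf100b0d0e0005))))))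

def argWS_111 : Store := (.node 1097 (.node 1092 (.node 1090 (.node 1089 (.leaf 0xc100b0f0d0e0006) (.leaf 0xe110e0003)) (.node 1091 (.leaf 0xf0f0c0003) (.leaf 0xb0001))) (.node 1094 (.node 1093 (.leaf 0xf0001) (.leaf 0x44400044300044200044100044000043f)) (.node 1095 (.leaf 0xb0c0002) (.node 1096 (.leaf 0x0) (.leaf 0x0))))) (.node 1102 (.node 1099 (.node 1098 (.leaf 0x1020905080005) (.leaf 0x10008060004)) (.node 1100 (.leaf 0x0) (.node 1101 (.leaf 0x0) (.leaf 0x0)))) (.node 1104 (.node 1103 (.leaf 0xe100f0c0004) (.leaf 0xe110002)) (.node 1105 (.leaf 0xc100b0d0d0e0006) (.node 1106 (.leaf 0x450) (.leaf 0xb0a0d0e0004))))))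

def argWS_112 : Store := (.node 1088 argWS_110 argWS_111)

def argWS_113 : Store := (.node 1116 (.node 1111 (.node 1109 (.node 1108 (.leaf 0x0) (.leaf 0x100b0c0f0c0005)) (.node 1110 (.leaf 0x0) (.leaf 0x0))) (.node 1113 (.node 1112 (.leaf 0xd110d0003) (.leaf 0xd110e0003)) (.node 1114 (.leaf 0x458) (.node 1115 (.leaf 0xc100b0d0e0005) (.leaf 0x0))))) (.node 1121 (.node 1118 (.node 1117 (.leaf 0x0) (.leaf 0x0)) (.node 1119 (.leaf 0x100d0002) (.node 1120 (.leaf 0xc0001) (.leaf 0xf100f0003)))) (.node 1123 (.node 1122 (.leaf 0xd100f0f0c0005) (.leaf 0xe100d0f0c0005)) (.node 1124 (.leaf 0xf100b0d0004) (.node 1125 (.leaf 0xe110f0c0004) (.leaf 0x402010607090006))))))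

def argWS_114 : Store := (.node 1135 (.node 1130 (.node 1128 (.node 1127 (.leaf 0x0) (.leaf 0x46600046300046200046100046000045f)) (.node 1129 (.leaf 0xd110e0003) (.leaf 0x0))) (.node 1132 (.node 1131 (.leaf 0x0) (.leaf 0x0)) (.node 1133 (.leaf 0x3080905080005) (.node 1134 (.leaf 0x0) (.leaf 0x0))))) (.node 1140 (.node 1137 (.node 1136 (.leaf 0x0) (.leaf 0x0)) (.node 1138 (.leaf 0x0) (.node 1139 (.leaf 0x0) (.leaf 0x0)))) (.node 1142 (.node 1141 (.leaf 0xd110d0e0004) (.leaf 0xc100f0f0c0005)) (.node 1143 (.leaf 0xc0001) (.node 1144 (.leaf 0xc100b0d0e0005) (.leaf 0x401060003))))))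

def argWS_115 : Store := (.node 1126 argWS_113 argWS_114)

def argWS_116 : Store := (.node 1107 argWS_112 argWS_115)

def argWS_117 : Store := (.node 1154 (.node 1149 (.node 1147 (.node 1146 (.leaf 0x0) (.leaf 0xf100f0c0004)) (.node 1148 (.leaf 0xf0001) (.leaf 0x110b0d0003))) (.node 1151 (.node 1150 (.leaf 0x47c00047b00047a000479000476000475) (.leaf 0x110b0d0003)) (.node 1152 (.leaf 0x0) (.node 1153 (.leaf 0xf100b0f0c0005) (.leaf 0x0))))) (.node 1159 (.node 1156 (.node 1155 (.leaf 0x0) (.leaf 0x0)) (.node 1157 (.leaf 0x701070607090006) (.node 1158 (.leaf 0x108060003) (.leaf 0x0)))) (.node 1161 (.node 1160 (.leaf 0x0) (.leaf 0x100001)) (.node 1162 (.leaf 0x0) (.node 1163 (.leaf 0x0) (.leaf 0x0))))))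

def argWS_118 : Store := (.node 1173 (.node 1168 (.node 1166 (.node 1165 (.leaf 0x0) (.leaf 0x0)) (.node 1167 (.leaf 0x0) (.leaf 0x0))) (.node 1170 (.node 1169 (.leaf 0xe100f0d0e0005) (.leaf 0xe100e0003)) (.node 1171 (.leaf 0x491) (.node 1172 (.leaf 0xf100d0f0c0005) (.leaf 0x0))))) (.node 1178 (.node 1175 (.node 1174 (.leaf 0x0) (.leaf 0x0)) (.node 1176 (.leaf 0x0) (.node 1177 (.leaf 0xc100b0e0004) (.leaf 0xc0001)))) (.node 1180 (.node 1179 (.leaf 0xa0e0002) (.leaf 0x0)) (.node 1181 (.leaf 0x20309080004) (.node 1182 (.leaf 0x2030607060005) (.leaf 0x0))))))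

def argWS_119 : Store := (.node 1164 argWS_117 argWS_118)

def argWS_120 : Store := (.node 1192 (.node 1187 (.node 1185 (.node 1184 (.leaf 0xf100b0d0e0005) (.leaf 0x0)) (.node 1186 (.leaf 0x0) (.leaf 0x301060705080006))) (.node 1189 (.node 1188 (.leaf 0x401080607090006) (.leaf 0x0)) (.node 1190 (.leaf 0xf100002) (.node 1191 (.leaf 0x0) (.leaf 0x110b0c0003))))) (.node 1197 (.node 1194 (.node 1193 (.leaf 0xf100b0f0f0c0006) (.leaf 0x4a80004a70004a60004a000049a000499)) (.node 1195 (.leaf 0x110b0002) (.node 1196 (.leaf 0x0) (.leaf 0x0)))) (.node 1199 (.node 1198 (.leaf 0x7020108050705080008) (.leaf 0x402070607090006)) (.node 1200 (.leaf 0x0) (.node 1201 (.leaf 0x0) (.leaf 0x0))))))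

def argWS_121 : Store := (.node 1212 (.node 1207 (.node 1204 (.node 1203 (.leaf 0xe100e0003) (.leaf 0x0)) (.node 1205 (.leaf 0x0) (.node 1206 (.leaf 0x0) (.leaf 0x0)))) (.node 1209 (.node 1208 (.leaf 0x0) (.leaf 0x0)) (.node 1210 (.leaf 0x0) (.node 1211 (.leaf 0xc100b0d0e0005) (.leaf 0x0))))) (.node 1217 (.node 1214 (.node 1213 (.leaf 0x4050705080005) (.leaf 0x20008060004)) (.node 1215 (.leaf 0x0) (.node 1216 (.leaf 0xc100b0003) (.leaf 0x0)))) (.node 1219 (.node 1218 (.leaf 0x110b0f0d0e0005) (.leaf 0xd110e0003)) (.node 1220 (.leaf 0xc100b0d0004) (.node 1221 (.leaf 0xf100e0003) (.leaf 0x4030607090005))))))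

def argWS_122 : Store := (.node 1202 argWS_120 argWS_121)

def argWS_123 : Store := (.node 1183 argWS_119 argWS_122)

def argWS_124 : Store := (.node 1145 argWS_116 argWS_123)

def argWS_125 : Store := (.node 1069 argWS_109 argWS_124)

def argWS_126 : Store := (.node 916 argWS_94 argWS_125)

def argWS_127 : Store := (.node 611 argWS_63 argWS_126)

def argWS_128 : Store := (.node 1231 (.node 1226 (.node 1224 (.node 1223 (.leaf 0x0) (.leaf 0xf100b0d0f0c0006)) (.node 1225 (.leaf 0x4c70004c60004c30004c20004c10004c0) (.leaf 0x100001))) (.node 1228 (.node 1227 (.leaf 0x0) (.leaf 0x0)) (.node 1229 (.leaf 0x7020108050705080008) (.node 1230 (.leaf 0x7060607090006) (.leaf 0x0))))) (.node 1236 (.node 1233 (.node 1232 (.leaf 0x110f0f0c0004) (.leaf 0x0)) (.node 1234 (.leaf 0x0) (.node 1235 (.leaf 0x0) (.leaf 0x0)))) (.node 1238 (.node 1237 (.leaf 0x0) (.leaf 0x400050705080006)) (.node 1239 (.leaf 0x0) (.node 1240 (.leaf 0x0) (.leaf 0xb0a0c0f0c0005))))))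

def argWS_129 : Store := (.node 1250 (.node 1245 (.node 1243 (.node 1242 (.leaf 0x0) (.leaf 0x0)) (.node 1244 (.leaf 0x0) (.leaf 0x0))) (.node 1247 (.node 1246 (.leaf 0x0) (.leaf 0x0)) (.node 1248 (.leaf 0x0) (.node 1249 (.leaf 0x0) (.leaf 0x0))))) (.node 1255 (.node 1252 (.node 1251 (.leaf 0x0) (.leaf 0x0)) (.node 1253 (.leaf 0x100b0d0e0004) (.node 1254 (.leaf 0xf100f0f0c0005) (.leaf 0x4e5)))) (.node 1257 (.node 1256 (.leaf 0xa0e0002) (.leaf 0x0)) (.node 1258 (.leaf 0x0) (.node 1259 (.leaf 0x0) (.leaf 0x0))))))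

def argWS_130 : Store := (.node 1241 argWS_128 argWS_129)

def argWS_131 : Store := (.node 1269 (.node 1264 (.node 1262 (.node 1261 (.leaf 0x0) (.leaf 0x0)) (.node 1263 (.leaf 0x0) (.leaf 0x0))) (.node 1266 (.node 1265 (.leaf 0x0) (.leaf 0x0)) (.node 1267 (.leaf 0x0) (.node 1268 (.leaf 0x0) (.leaf 0x0))))) (.node 1274 (.node 1271 (.node 1270 (.leaf 0x0) (.leaf 0x0)) (.node 1272 (.leaf 0x0) (.node 1273 (.leaf 0x0) (.leaf 0x0)))) (.node 1276 (.node 1275 (.leaf 0x0) (.leaf 0x0)) (.node 1277 (.leaf 0x0) (.node 1278 (.leaf 0xd100d0f0c0005) (.leaf 0x110b0d0d0e0005))))))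

def argWS_132 : Store := (.node 1288 (.node 1283 (.node 1281 (.node 1280 (.leaf 0x4fe) (.leaf 0xa0d0d0e0004)) (.node 1282 (.leaf 0x0) (.leaf 0x0))) (.node 1285 (.node 1284 (.leaf 0x0) (.leaf 0x0)) (.node 1286 (.leaf 0x0) (.node 1287 (.leaf 0x0) (.leaf 0x0))))) (.node 1293 (.node 1290 (.node 1289 (.leaf 0x100b0002) (.leaf 0xb0a0f0f0c0005)) (.node 1291 (.leaf 0x509) (.node 1292 (.leaf 0xd110d0e0004) (.leaf 0x0)))) (.node 1295 (.node 1294 (.leaf 0x0) (.leaf 0x0)) (.node 1296 (.leaf 0x0) (.node 1297 (.leaf 0x0) (.leaf 0x0))))))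

def argWS_133 : Store := (.node 1279 argWS_131 argWS_132)

def argWS_134 : Store := (.node 1260 argWS_130 argWS_133)

def argWS_135 : Store := (.node 1307 (.node 1302 (.node 1300 (.node 1299 (.leaf 0x0) (.leaf 0x0)) (.node 1301 (.leaf 0x0) (.leaf 0x0))) (.node 1304 (.node 1303 (.leaf 0x0) (.leaf 0x0)) (.node 1305 (.leaf 0x0) (.node 1306 (.leaf 0x0) (.leaf 0x0))))) (.node 1312 (.node 1309 (.node 1308 (.leaf 0x0) (.leaf 0x0)) (.node 1310 (.leaf 0x0) (.node 1311 (.leaf 0x0) (.leaf 0xf100f0003)))) (.node 1314 (.node 1313 (.leaf 0x110f0d0e0004) (.leaf 0xa0f0d0e0004)) (.node 1315 (.leaf 0xc100002) (.node 1316 (.leaf 0xf100e0003) (.leaf 0xf100b0d0f0c0006))))))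

def argWS_136 : Store := (.node 1326 (.node 1321 (.node 1319 (.node 1318 (.leaf 0x100001) (.leaf 0x525000524000523000522000521000520)) (.node 1320 (.leaf 0xf100d0f0c0005) (.leaf 0x0))) (.node 1323 (.node 1322 (.leaf 0xe0001) (.leaf 0x0)) (.node 1324 (.leaf 0x0) (.node 1325 (.leaf 0x0) (.leaf 0x0))))) (.node 1331 (.node 1328 (.node 1327 (.leaf 0x0) (.leaf 0x0)) (.node 1329 (.leaf 0x0) (.node 1330 (.leaf 0x0) (.leaf 0x0)))) (.node 1333 (.node 1332 (.leaf 0x0) (.leaf 0x0)) (.node 1334 (.leaf 0x0) (.node 1335 (.leaf 0x0) (.leaf 0xf100c0f0c0005))))))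

def argWS_137 : Store := (.node 1317 argWS_135 argWS_136)

def argWS_138 : Store := (.node 1345 (.node 1340 (.node 1338 (.node 1337 (.leaf 0xd0e0002) (.leaf 0x538)) (.node 1339 (.leaf 0xe110c0f0c0005) (.leaf 0x0))) (.node 1342 (.node 1341 (.leaf 0x0) (.leaf 0x0)) (.node 1343 (.leaf 0x0) (.node 1344 (.leaf 0x0) (.leaf 0x0))))) (.node 1350 (.node 1347 (.node 1346 (.leaf 0xf100b0e0004) (.leaf 0x100f0d0e0004)) (.node 1348 (.leaf 0x110b0c0f0c0005) (.node 1349 (.leaf 0xc100f0f0c0005) (.leaf 0xf0c0002)))) (.node 1352 (.node 1351 (.leaf 0x0) (.leaf 0x1000507060607090008)) (.node 1353 (.leaf 0x402080607090006) (.node 1354 (.leaf 0x0) (.leaf 0xe100d0003))))))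

def argWS_139 : Store := (.node 1364 (.node 1359 (.node 1357 (.node 1356 (.leaf 0x0) (.leaf 0x0)) (.node 1358 (.leaf 0x7020108050705080008) (.leaf 0x30108060607090007))) (.node 1361 (.node 1360 (.leaf 0x0) (.leaf 0x100b0f0f0c0005)) (.node 1362 (.leaf 0x0) (.node 1363 (.leaf 0x55100054b000545000544000543000542) (.leaf 0xc0001))))) (.node 1369 (.node 1366 (.node 1365 (.leaf 0x0) (.leaf 0x100b0e0003)) (.node 1367 (.leaf 0x0) (.node 1368 (.leaf 0x0) (.leaf 0x0)))) (.node 1371 (.node 1370 (.leaf 0x0) (.leaf 0x1060705080005)) (.node 1372 (.leaf 0x0) (.node 1373 (.leaf 0x0) (.leaf 0x0))))))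

def argWS_140 : Store := (.node 1355 argWS_138 argWS_139)

def argWS_141 : Store := (.node 1336 argWS_137 argWS_140)

def argWS_142 : Store := (.node 1298 argWS_134 argWS_141)

def argWS_143 : Store := (.node 1383 (.node 1378 (.node 1376 (.node 1375 (.leaf 0x0) (.leaf 0x0)) (.node 1377 (.leaf 0x0) (.leaf 0x0))) (.node 1380 (.node 1379 (.leaf 0x0) (.leaf 0x0)) (.node 1381 (.leaf 0x0) (.node 1382 (.leaf 0x0) (.leaf 0x0))))) (.node 1388 (.node 1385 (.node 1384 (.leaf 0x0) (.leaf 0x0)) (.node 1386 (.leaf 0x0) (.node 1387 (.leaf 0x0) (.leaf 0x0)))) (.node 1390 (.node 1389 (.leaf 0x0) (.leaf 0x0)) (.node 1391 (.leaf 0x0) (.node 1392 (.leaf 0x0) (.leaf 0x0))))))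

def argWS_144 : Store := (.node 1402 (.node 1397 (.node 1395 (.node 1394 (.leaf 0x0) (.leaf 0x0)) (.node 1396 (.leaf 0x110b0d0e0004) (.leaf 0xc100b0003))) (.node 1399 (.node 1398 (.leaf 0x574) (.leaf 0xb0a0e0003)) (.node 1400 (.leaf 0x0) (.node 1401 (.leaf 0x0) (.leaf 0xc100b0f0d0e0006))))) (.node 1407 (.node 1404 (.node 1403 (.leaf 0xe110e0003) (.leaf 0xd110f0c0004)) (.node 1405 (.leaf 0xf100b0f0004) (.node 1406 (.leaf 0x110f0d0e0004) (.leaf 0xf100d0e0004)))) (.node 1409 (.node 1408 (.leaf 0x100b0d0003) (.leaf 0x57f00057e00057d00057c00057b00057a)) (.node 1410 (.leaf 0xc100c0003) (.node 1411 (.leaf 0x0) (.leaf 0xd100d0d0e0005))))))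

def argWS_145 : Store := (.node 1393 argWS_143 argWS_144)

def argWS_146 : Store := (.node 1421 (.node 1416 (.node 1414 (.node 1413 (.leaf 0x0) (.leaf 0x0)) (.node 1415 (.leaf 0x0) (.leaf 0x0))) (.node 1418 (.node 1417 (.leaf 0x0) (.leaf 0x0)) (.node 1419 (.leaf 0x0) (.node 1420 (.leaf 0x0) (.leaf 0x110b0d0e0004))))) (.node 1426 (.node 1423 (.node 1422 (.leaf 0xc100f0d0e0005) (.leaf 0xc100b0f0f0c0006)) (.node 1424 (.leaf 0xc0001) (.node 1425 (.leaf 0xa0f0f0c0004) (.leaf 0x103060607090006)))) (.node 1428 (.node 1427 (.leaf 0x0) (.leaf 0xf100f0c0004)) (.node 1429 (.leaf 0xf100d0003) (.node 1430 (.leaf 0x59400059300059200058f00058e00058d) (.leaf 0xe110f0c0004))))))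

def argWS_147 : Store := (.node 1440 (.node 1435 (.node 1433 (.node 1432 (.leaf 0x0) (.leaf 0x0)) (.node 1434 (.leaf 0x30205070004) (.leaf 0x0))) (.node 1437 (.node 1436 (.leaf 0x701070705080006) (.leaf 0x8060002)) (.node 1438 (.leaf 0x0) (.node 1439 (.leaf 0x110d0e0003) (.leaf 0x0))))) (.node 1445 (.node 1442 (.node 1441 (.leaf 0x0) (.leaf 0x0)) (.node 1443 (.leaf 0x0) (.node 1444 (.leaf 0x0) (.leaf 0x701070705080006)))) (.node 1447 (.node 1446 (.leaf 0x108060003) (.leaf 0x0)) (.node 1448 (.leaf 0xd0e0002) (.node 1449 (.leaf 0x0) (.leaf 0x0))))))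

def argWS_148 : Store := (.node 1431 argWS_146 argWS_147)

def argWS_149 : Store := (.node 1412 argWS_145 argWS_148)

def argWS_150 : Store := (.node 1459 (.node 1454 (.node 1452 (.node 1451 (.leaf 0x0) (.leaf 0x0)) (.node 1453 (.leaf 0x10001) (.leaf 0x10001))) (.node 1456 (.node 1455 (.leaf 0x0) (.leaf 0x0)) (.node 1457 (.leaf 0x0) (.node 1458 (.leaf 0x110b0f0d0e0005) (.leaf 0x0))))) (.node 1464 (.node 1461 (.node 1460 (.leaf 0x0) (.leaf 0x0)) (.node 1462 (.leaf 0x0) (.node 1463 (.leaf 0xa0f0f0c0004) (.leaf 0xe100d0f0c0005)))) (.node 1466 (.node 1465 (.leaf 0x5b7) (.leaf 0x100001)) (.node 1467 (.leaf 0x0) (.node 1468 (.leaf 0x0) (.leaf 0x0))))))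

def argWS_151 : Store := (.node 1478 (.node 1473 (.node 1471 (.node 1470 (.leaf 0x0) (.leaf 0x0)) (.node 1472 (.leaf 0x0) (.leaf 0x0))) (.node 1475 (.node 1474 (.leaf 0x0) (.leaf 0x0)) (.node 1476 (.leaf 0x0) (.node 1477 (.leaf 0x0) (.leaf 0x0))))) (.node 1483 (.node 1480 (.node 1479 (.leaf 0x0) (.leaf 0xb0a0f0c0004)) (.node 1481 (.leaf 0xc100b0f0004) (.node 1482 (.leaf 0x5c8) (.leaf 0x110b0d0f0c0005)))) (.node 1485 (.node 1484 (.leaf 0x0) (.leaf 0x0)) (.node 1486 (.leaf 0x0) (.node 1487 (.leaf 0x0) (.leaf 0x0))))))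

def argWS_152 : Store := (.node 1469 argWS_150 argWS_151)

def argWS_153 : Store := (.node 1497 (.node 1492 (.node 1490 (.node 1489 (.leaf 0x0) (.leaf 0x0)) (.node 1491 (.leaf 0x0) (.leaf 0x0))) (.node 1494 (.node 1493 (.leaf 0x0) (.leaf 0x0)) (.node 1495 (.leaf 0x0) (.node 1496 (.leaf 0x0) (.leaf 0x0))))) (.node 1502 (.node 1499 (.node 1498 (.leaf 0x0) (.leaf 0x0)) (.node 1500 (.leaf 0x0) (.node 1501 (.leaf 0x0) (.leaf 0x0)))) (.node 1504 (.node 1503 (.leaf 0x0) (.leaf 0x0)) (.node 1505 (.leaf 0x0) (.node 1506 (.leaf 0x0) (.leaf 0x0))))))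

def argWS_154 : Store := (.node 1517 (.node 1512 (.node 1509 (.node 1508 (.leaf 0xc100f0003) (.leaf 0xd110002)) (.node 1510 (.leaf 0xb0d0d0e0004) (.node 1511 (.leaf 0xb0a0d0003) (.leaf 0x0)))) (.node 1514 (.node 1513 (.leaf 0x7020108050705080008) (.leaf 0x2040507060607090008)) (.node 1515 (.leaf 0x0) (.node 1516 (.leaf 0xe110e0003) (.leaf 0x0))))) (.node 1522 (.node 1519 (.node 1518 (.leaf 0xc100b0f0004) (.leaf 0xd110d0e0004)) (.node 1520 (.leaf 0x5ee0005ed0005ec0005e60005e50005e4) (.node 1521 (.leaf 0xf100b0f0004) (.leaf 0x0)))) (.node 1524 (.node 1523 (.leaf 0x0) (.leaf 0x0)) (.node 1525 (.leaf 0x0) (.node 1526 (.leaf 0xc100d0e0004) (.leaf 0xe100f0d0e0005))))))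

def argWS_155 : Store := (.node 1507 argWS_153 argWS_154)

def argWS_156 : Store := (.node 1488 argWS_152 argWS_155)

def argWS_157 : Store := (.node 1450 argWS_149 argWS_156)

def argWS_158 : Store := (.node 1374 argWS_142 argWS_157)

def argWS_159 : Store := (.node 1536 (.node 1531 (.node 1529 (.node 1528 (.leaf 0x110001) (.leaf 0xf100b0f0f0c0006)) (.node 1530 (.leaf 0xd110d0e0004) (.leaf 0xc100f0f0c0005))) (.node 1533 (.node 1532 (.leaf 0xb0c0002) (.leaf 0x5fb0005fa0005f90005f80005f70005f6)) (.node 1534 (.leaf 0xa0f0f0c0004) (.node 1535 (.leaf 0x0) (.leaf 0x0))))) (.node 1541 (.node 1538 (.node 1537 (.leaf 0x0) (.leaf 0x0)) (.node 1539 (.leaf 0x0) (.node 1540 (.leaf 0x0) (.leaf 0x0)))) (.node 1543 (.node 1542 (.leaf 0x0) (.leaf 0x0)) (.node 1544 (.leaf 0x0) (.node 1545 (.leaf 0xe100f0f0c0005) (.leaf 0xa0d0002))))))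

def argWS_160 : Store := (.node 1555 (.node 1550 (.node 1548 (.node 1547 (.leaf 0x609) (.leaf 0xd100d0003)) (.node 1549 (.leaf 0x0) (.leaf 0x0))) (.node 1552 (.node 1551 (.leaf 0x0) (.leaf 0x0)) (.node 1553 (.leaf 0x0) (.node 1554 (.leaf 0x0) (.leaf 0x100b0f0d0e0005))))) (.node 1560 (.node 1557 (.node 1556 (.leaf 0x110b0d0e0004) (.leaf 0xf100d0d0e0005)) (.node 1558 (.leaf 0x110f0f0c0004) (.node 1559 (.leaf 0xb0d0d0e0004) (.leaf 0xb0a0d0003)))) (.node 1562 (.node 1561 (.leaf 0x100b0f0d0e0005) (.leaf 0x618000617000616000615000614000613)) (.node 1563 (.leaf 0x100b0d0f0c0005) (.node 1564 (.leaf 0x0) (.leaf 0x100b0f0c0004))))))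

def argWS_161 : Store := (.node 1546 argWS_159 argWS_160)

def argWS_162 : Store := (.node 1574 (.node 1569 (.node 1567 (.node 1566 (.leaf 0x0) (.leaf 0x0)) (.node 1568 (.leaf 0x0) (.leaf 0x0))) (.node 1571 (.node 1570 (.leaf 0x0) (.leaf 0x0)) (.node 1572 (.leaf 0x0) (.node 1573 (.leaf 0x0) (.leaf 0x0))))) (.node 1579 (.node 1576 (.node 1575 (.leaf 0x0) (.leaf 0x0)) (.node 1577 (.leaf 0x0) (.node 1578 (.leaf 0x0) (.leaf 0x0)))) (.node 1581 (.node 1580 (.leaf 0x0) (.leaf 0x0)) (.node 1582 (.leaf 0x0) (.node 1583 (.leaf 0x0) (.leaf 0x0))))))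

def argWS_163 : Store := (.node 1593 (.node 1588 (.node 1586 (.node 1585 (.leaf 0x0) (.leaf 0x0)) (.node 1587 (.leaf 0x0) (.leaf 0x0))) (.node 1590 (.node 1589 (.leaf 0x0) (.leaf 0x0)) (.node 1591 (.leaf 0x0) (.node 1592 (.leaf 0x0) (.leaf 0x0))))) (.node 1598 (.node 1595 (.node 1594 (.leaf 0x0) (.leaf 0x0)) (.node 1596 (.leaf 0x0) (.node 1597 (.leaf 0x0) (.leaf 0x0)))) (.node 1600 (.node 1599 (.leaf 0x0) (.leaf 0x0)) (.node 1601 (.leaf 0x0) (.node 1602 (.leaf 0x0) (.leaf 0x0))))))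

def argWS_164 : Store := (.node 1584 argWS_162 argWS_163)

def argWS_165 : Store := (.node 1565 argWS_161 argWS_164)

def argWS_166 : Store := (.node 1612 (.node 1607 (.node 1605 (.node 1604 (.leaf 0x0) (.leaf 0x0)) (.node 1606 (.leaf 0x0) (.leaf 0x0))) (.node 1609 (.node 1608 (.leaf 0x0) (.leaf 0x0)) (.node 1610 (.leaf 0x0) (.node 1611 (.leaf 0x0) (.leaf 0x0))))) (.node 1617 (.node 1614 (.node 1613 (.leaf 0x0) (.leaf 0x0)) (.node 1615 (.leaf 0xe100e0003) (.node 1616 (.leaf 0xf100b0f0c0005) (.leaf 0x110f0002)))) (.node 1619 (.node 1618 (.leaf 0xe100f0003) (.leaf 0x0)) (.node 1620 (.leaf 0x301060705080006) (.node 1621 (.leaf 0x3050709080005) (.leaf 0x0))))))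

def argWS_167 : Store := (.node 1631 (.node 1626 (.node 1624 (.node 1623 (.leaf 0x100e0002) (.leaf 0x0)) (.node 1625 (.leaf 0xa0d0002) (.leaf 0x110b0f0d0e0005))) (.node 1628 (.node 1627 (.leaf 0x65900065800065700065100065000064f) (.leaf 0xe110d0003)) (.node 1629 (.leaf 0x0) (.node 1630 (.leaf 0xb0a0f0003) (.leaf 0x0))))) (.node 1636 (.node 1633 (.node 1632 (.leaf 0x0) (.leaf 0x0)) (.node 1634 (.leaf 0x0) (.node 1635 (.leaf 0x0) (.leaf 0x0)))) (.node 1638 (.node 1637 (.leaf 0x0) (.leaf 0x0)) (.node 1639 (.leaf 0x0) (.node 1640 (.leaf 0x0) (.leaf 0x0))))))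

def argWS_168 : Store := (.node 1622 argWS_166 argWS_167)

def argWS_169 : Store := (.node 1650 (.node 1645 (.node 1643 (.node 1642 (.leaf 0x0) (.leaf 0x0)) (.node 1644 (.leaf 0x0) (.leaf 0x0))) (.node 1647 (.node 1646 (.leaf 0x0) (.leaf 0x0)) (.node 1648 (.leaf 0x0) (.node 1649 (.leaf 0x0) (.leaf 0x0))))) (.node 1655 (.node 1652 (.node 1651 (.leaf 0x0) (.leaf 0x0)) (.node 1653 (.leaf 0x0) (.node 1654 (.leaf 0x0) (.leaf 0x0)))) (.node 1657 (.node 1656 (.leaf 0x0) (.leaf 0x0)) (.node 1658 (.leaf 0x0) (.node 1659 (.leaf 0x0) (.leaf 0x0))))))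

def argWS_170 : Store := (.node 1670 (.node 1665 (.node 1662 (.node 1661 (.leaf 0x0) (.leaf 0x0)) (.node 1663 (.leaf 0x0) (.node 1664 (.leaf 0x110e0002) (.leaf 0x100f0d0e0004)))) (.node 1667 (.node 1666 (.leaf 0x680) (.leaf 0xc100002)) (.node 1668 (.leaf 0x0) (.node 1669 (.leaf 0x0) (.leaf 0x0))))) (.node 1675 (.node 1672 (.node 1671 (.leaf 0xe110e0003) (.leaf 0xa0f0f0c0004)) (.node 1673 (.leaf 0x110001) (.node 1674 (.leaf 0xf100b0f0f0c0006) (.leaf 0xc100b0003)))) (.node 1677 (.node 1676 (.leaf 0xd110c0003) (.leaf 0xd110002)) (.node 1678 (.leaf 0x68c00068b00068a000689000688000687) (.node 1679 (.leaf 0x100b0c0003) (.leaf 0x0))))))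

def argWS_171 : Store := (.node 1660 argWS_169 argWS_170)

def argWS_172 : Store := (.node 1641 argWS_168 argWS_171)

def argWS_173 : Store := (.node 1603 argWS_165 argWS_172)

def argWS_174 : Store := (.node 1689 (.node 1684 (.node 1682 (.node 1681 (.leaf 0xf100002) (.leaf 0x0)) (.node 1683 (.leaf 0x0) (.leaf 0x0))) (.node 1686 (.node 1685 (.leaf 0x0) (.leaf 0x0)) (.node 1687 (.leaf 0x0) (.node 1688 (.leaf 0x0) (.leaf 0x0))))) (.node 1694 (.node 1691 (.node 1690 (.leaf 0x0) (.leaf 0x0)) (.node 1692 (.leaf 0x0) (.node 1693 (.leaf 0x0) (.leaf 0x0)))) (.node 1696 (.node 1695 (.leaf 0x0) (.leaf 0x0)) (.node 1697 (.leaf 0x0) (.node 1698 (.leaf 0x0) (.leaf 0x0))))))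

def argWS_175 : Store := (.node 1708 (.node 1703 (.node 1701 (.node 1700 (.leaf 0x0) (.leaf 0x0)) (.node 1702 (.leaf 0x0) (.leaf 0x0))) (.node 1705 (.node 1704 (.leaf 0x0) (.leaf 0x0)) (.node 1706 (.leaf 0x0) (.node 1707 (.leaf 0x0) (.leaf 0x0))))) (.node 1713 (.node 1710 (.node 1709 (.leaf 0x0) (.leaf 0x0)) (.node 1711 (.leaf 0x0) (.node 1712 (.leaf 0x0) (.leaf 0x0)))) (.node 1715 (.node 1714 (.leaf 0x0) (.leaf 0x0)) (.node 1716 (.leaf 0x0) (.node 1717 (.leaf 0xf100d0e0004) (.leaf 0xc100b0e0004))))))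

def argWS_176 : Store := (.node 1699 argWS_174 argWS_175)

def argWS_177 : Store := (.node 1727 (.node 1722 (.node 1720 (.node 1719 (.leaf 0x100f0002) (.leaf 0x110001)) (.node 1721 (.leaf 0x0) (.leaf 0x301060705080006))) (.node 1724 (.node 1723 (.leaf 0x401070705080006) (.leaf 0x0)) (.node 1725 (.leaf 0x110f0f0c0004) (.node 1726 (.leaf 0x0) (.leaf 0xf100b0d0f0c0006))))) (.node 1732 (.node 1729 (.node 1728 (.leaf 0x110b0002) (.leaf 0x6bf0006be0006bd0006b70006b60006b5)) (.node 1730 (.leaf 0x110b0d0003) (.node 1731 (.leaf 0x0) (.leaf 0x0)))) (.node 1734 (.node 1733 (.leaf 0x0) (.leaf 0xd100f0d0e0005)) (.node 1735 (.leaf 0xc100b0c0f0c0006) (.node 1736 (.leaf 0xb0d0f0c0004) (.leaf 0xf0d0e0003))))))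

def argWS_178 : Store := (.node 1746 (.node 1741 (.node 1739 (.node 1738 (.leaf 0x0) (.leaf 0x7020105080005)) (.node 1740 (.leaf 0x3040809080005) (.leaf 0x0))) (.node 1743 (.node 1742 (.leaf 0xb0f0f0c0004) (.leaf 0x0)) (.node 1744 (.leaf 0x0) (.node 1745 (.leaf 0x400060607090006) (.leaf 0x10408060004))))) (.node 1751 (.node 1748 (.node 1747 (.leaf 0x0) (.leaf 0xd110f0d0e0005)) (.node 1749 (.leaf 0x0) (.node 1750 (.leaf 0xd100f0f0c0005) (.leaf 0x6d50006d40006ce0006c80006c70006c6)))) (.node 1753 (.node 1752 (.leaf 0xa0001) (.leaf 0x0)) (.node 1754 (.leaf 0xf100b0d0f0c0006) (.node 1755 (.leaf 0x0) (.leaf 0x0))))))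

def argWS_179 : Store := (.node 1737 argWS_177 argWS_178)

def argWS_180 : Store := (.node 1718 argWS_176 argWS_179)

def argWS_181 : Store := (.node 1765 (.node 1760 (.node 1758 (.node 1757 (.leaf 0x0) (.leaf 0x0)) (.node 1759 (.leaf 0x0) (.leaf 0x0))) (.node 1762 (.node 1761 (.leaf 0x0) (.leaf 0x0)) (.node 1763 (.leaf 0x110b0d0d0e0005) (.node 1764 (.leaf 0x100f0002) (.leaf 0x6e3))))) (.node 1770 (.node 1767 (.node 1766 (.leaf 0xb0a0002) (.leaf 0x0)) (.node 1768 (.leaf 0x0) (.node 1769 (.leaf 0x0) (.leaf 0x0)))) (.node 1772 (.node 1771 (.leaf 0x0) (.leaf 0x0)) (.node 1773 (.leaf 0x0) (.node 1774 (.leaf 0x0) (.leaf 0x0))))))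

def argWS_182 : Store := (.node 1784 (.node 1779 (.node 1777 (.node 1776 (.leaf 0x0) (.leaf 0x0)) (.node 1778 (.leaf 0x0) (.leaf 0x0))) (.node 1781 (.node 1780 (.leaf 0x0) (.leaf 0x0)) (.node 1782 (.leaf 0x0) (.node 1783 (.leaf 0x0) (.leaf 0x0))))) (.node 1789 (.node 1786 (.node 1785 (.leaf 0x0) (.leaf 0x0)) (.node 1787 (.leaf 0x0) (.node 1788 (.leaf 0x0) (.leaf 0x0)))) (.node 1791 (.node 1790 (.leaf 0x0) (.leaf 0x0)) (.node 1792 (.leaf 0x0) (.node 1793 (.leaf 0x0) (.leaf 0x0))))))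

def argWS_183 : Store := (.node 1775 argWS_181 argWS_182)

def argWS_184 : Store := (.node 1803 (.node 1798 (.node 1796 (.node 1795 (.leaf 0x0) (.leaf 0x0)) (.node 1797 (.leaf 0x0) (.leaf 0x0))) (.node 1800 (.node 1799 (.leaf 0x0) (.leaf 0x0)) (.node 1801 (.leaf 0x0) (.node 1802 (.leaf 0x0) (.leaf 0x0))))) (.node 1808 (.node 1805 (.node 1804 (.leaf 0x0) (.leaf 0x0)) (.node 1806 (.leaf 0x0) (.node 1807 (.leaf 0x0) (.leaf 0x0)))) (.node 1810 (.node 1809 (.leaf 0x0) (.leaf 0x0)) (.node 1811 (.leaf 0x0) (.node 1812 (.leaf 0x0) (.leaf 0x0))))))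

def argWS_185 : Store := (.node 1823 (.node 1818 (.node 1815 (.node 1814 (.leaf 0x0) (.leaf 0x0)) (.node 1816 (.leaf 0x0) (.node 1817 (.leaf 0x0) (.leaf 0x0)))) (.node 1820 (.node 1819 (.leaf 0x0) (.leaf 0x0)) (.node 1821 (.leaf 0x0) (.node 1822 (.leaf 0x0) (.leaf 0x0))))) (.node 1828 (.node 1825 (.node 1824 (.leaf 0x0) (.leaf 0x0)) (.node 1826 (.leaf 0x0) (.node 1827 (.leaf 0x0) (.leaf 0x0)))) (.node 1830 (.node 1829 (.leaf 0x0) (.leaf 0x0)) (.node 1831 (.leaf 0x0) (.node 1832 (.leaf 0x0) (.leaf 0x0))))))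

def argWS_186 : Store := (.node 1813 argWS_184 argWS_185)

def argWS_187 : Store := (.node 1794 argWS_183 argWS_186)

def argWS_188 : Store := (.node 1756 argWS_180 argWS_187)

def argWS_189 : Store := (.node 1680 argWS_173 argWS_188)

def argWS_190 : Store := (.node 1527 argWS_158 argWS_189)

def argWS_191 : Store := (.node 1842 (.node 1837 (.node 1835 (.node 1834 (.leaf 0x0) (.leaf 0x0)) (.node 1836 (.leaf 0x0) (.leaf 0x0))) (.node 1839 (.node 1838 (.leaf 0x0) (.leaf 0x0)) (.node 1840 (.leaf 0x0) (.node 1841 (.leaf 0x701070705080006) (.leaf 0x3000707090005))))) (.node 1847 (.node 1844 (.node 1843 (.leaf 0x0) (.leaf 0xd110f0d0e0005)) (.node 1845 (.leaf 0x0) (.node 1846 (.leaf 0xd110f0003) (.leaf 0x110b0e0003)))) (.node 1849 (.node 1848 (.leaf 0x203010607090006) (.leaf 0x0)) (.node 1850 (.leaf 0x0) (.node 1851 (.leaf 0x20709080004) (.leaf 0x7010607060705080008))))))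

def argWS_192 : Store := (.node 1861 (.node 1856 (.node 1854 (.node 1853 (.leaf 0x0) (.leaf 0xe100c0003)) (.node 1855 (.leaf 0x0) (.leaf 0xf100f0003))) (.node 1858 (.node 1857 (.leaf 0x110f0d0e0004) (.leaf 0xc100f0003)) (.node 1859 (.leaf 0x74100074000073f00073e000738000735) (.node 1860 (.leaf 0x100c0002) (.leaf 0x0))))) (.node 1866 (.node 1863 (.node 1862 (.leaf 0x0) (.leaf 0x701070705080006)) (.node 1864 (.leaf 0x203010507060705080009) (.node 1865 (.leaf 0x0) (.leaf 0xd110d0d0e0005)))) (.node 1868 (.node 1867 (.leaf 0x0) (.leaf 0x0)) (.node 1869 (.leaf 0x0) (.node 1870 (.leaf 0x0) (.leaf 0x70001))))))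

def argWS_193 : Store := (.node 1852 argWS_191 argWS_192)

def argWS_194 : Store := (.node 1880 (.node 1875 (.node 1873 (.node 1872 (.leaf 0x80001) (.leaf 0x0)) (.node 1874 (.leaf 0x0) (.leaf 0x110f0002))) (.node 1877 (.node 1876 (.leaf 0x0) (.leaf 0x110b0002)) (.node 1878 (.leaf 0xb0c0002) (.node 1879 (.leaf 0xf100f0003) (.leaf 0xd100f0f0c0005))))) (.node 1885 (.node 1882 (.node 1881 (.leaf 0xf0001) (.leaf 0xf100b0d0004)) (.node 1883 (.leaf 0x759000758000588000757000756000755) (.node 1884 (.leaf 0xf100b0d0f0c0006) (.leaf 0x0)))) (.node 1887 (.node 1886 (.leaf 0xd110002) (.leaf 0x0)) (.node 1888 (.leaf 0x0) (.node 1889 (.leaf 0x0) (.leaf 0x0))))))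

def argWS_195 : Store := (.node 1899 (.node 1894 (.node 1892 (.node 1891 (.leaf 0x0) (.leaf 0x0)) (.node 1893 (.leaf 0x0) (.leaf 0x0))) (.node 1896 (.node 1895 (.leaf 0x0) (.leaf 0x0)) (.node 1897 (.leaf 0x0) (.node 1898 (.leaf 0x0) (.leaf 0x0))))) (.node 1904 (.node 1901 (.node 1900 (.leaf 0x0) (.leaf 0x0)) (.node 1902 (.leaf 0x0) (.node 1903 (.leaf 0x0) (.leaf 0x0)))) (.node 1906 (.node 1905 (.leaf 0x0) (.leaf 0x0)) (.node 1907 (.leaf 0x0) (.node 1908 (.leaf 0x0) (.leaf 0x0))))))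

def argWS_196 : Store := (.node 1890 argWS_194 argWS_195)

def argWS_197 : Store := (.node 1871 argWS_193 argWS_196)

def argWS_198 : Store := (.node 1918 (.node 1913 (.node 1911 (.node 1910 (.leaf 0x0) (.leaf 0x0)) (.node 1912 (.leaf 0x0) (.leaf 0x0))) (.node 1915 (.node 1914 (.leaf 0x0) (.leaf 0x0)) (.node 1916 (.leaf 0x0) (.node 1917 (.leaf 0x0) (.leaf 0x0))))) (.node 1923 (.node 1920 (.node 1919 (.leaf 0xe100f0c0004) (.leaf 0x110f0002)) (.node 1921 (.leaf 0xe110d0e0004) (.node 1922 (.leaf 0x100b0f0c0004) (.leaf 0x1020705080005)))) (.node 1925 (.node 1924 (.leaf 0x0) (.leaf 0xc100b0f0c0005)) (.node 1926 (.leaf 0xd100d0f0c0005) (.node 1927 (.leaf 0x56600078500078400078300078000077f) (.leaf 0xe0001))))))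

def argWS_199 : Store := (.node 1937 (.node 1932 (.node 1930 (.node 1929 (.leaf 0x0) (.leaf 0xc100b0f0c0005)) (.node 1931 (.leaf 0x0) (.leaf 0x0))) (.node 1934 (.node 1933 (.leaf 0x0) (.leaf 0x0)) (.node 1935 (.leaf 0x0) (.node 1936 (.leaf 0x0) (.leaf 0x0))))) (.node 1942 (.node 1939 (.node 1938 (.leaf 0xf100b0f0f0c0006) (.leaf 0xb0001)) (.node 1940 (.leaf 0x100f0002) (.node 1941 (.leaf 0x0) (.leaf 0x20709080004)))) (.node 1944 (.node 1943 (.leaf 0x1080002) (.leaf 0x0)) (.node 1945 (.leaf 0xc100f0f0c0005) (.node 1946 (.leaf 0x0) (.leaf 0xb0f0c0003))))))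

def argWS_200 : Store := (.node 1928 argWS_198 argWS_199)

def argWS_201 : Store := (.node 1956 (.node 1951 (.node 1949 (.node 1948 (.leaf 0xb0a0d0003) (.leaf 0x100b0f0d0e0005)) (.node 1950 (.leaf 0x79c00079b00079a000799000793000792) (.leaf 0x100b0d0f0c0005))) (.node 1953 (.node 1952 (.leaf 0x0) (.leaf 0x110b0c0003)) (.node 1954 (.leaf 0x0) (.node 1955 (.leaf 0x0) (.leaf 0x0))))) (.node 1961 (.node 1958 (.node 1957 (.leaf 0xf100b0d0e0005) (.leaf 0xd100f0f0c0005)) (.node 1959 (.leaf 0x7a5) (.node 1960 (.leaf 0xc100e0003) (.leaf 0x0)))) (.node 1963 (.node 1962 (.leaf 0x110d0e0003) (.leaf 0x0)) (.node 1964 (.leaf 0x0) (.node 1965 (.leaf 0x0) (.leaf 0x0))))))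

def argWS_202 : Store := (.node 1976 (.node 1971 (.node 1968 (.node 1967 (.leaf 0x0) (.leaf 0x0)) (.node 1969 (.leaf 0x0) (.node 1970 (.leaf 0x0) (.leaf 0x0)))) (.node 1973 (.node 1972 (.leaf 0x0) (.leaf 0x0)) (.node 1974 (.leaf 0x0) (.node 1975 (.leaf 0x0) (.leaf 0x0))))) (.node 1981 (.node 1978 (.node 1977 (.leaf 0x0) (.leaf 0x0)) (.node 1979 (.leaf 0x0) (.node 1980 (.leaf 0x0) (.leaf 0x0)))) (.node 1983 (.node 1982 (.leaf 0x0) (.leaf 0x0)) (.node 1984 (.leaf 0x0) (.node 1985 (.leaf 0x0) (.leaf 0x0))))))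

def argWS_203 : Store := (.node 1966 argWS_201 argWS_202)

def argWS_204 : Store := (.node 1947 argWS_200 argWS_203)

def argWS_205 : Store := (.node 1909 argWS_197 argWS_204)

def argWS_206 : Store := (.node 1995 (.node 1990 (.node 1988 (.node 1987 (.leaf 0x0) (.leaf 0x0)) (.node 1989 (.leaf 0x0) (.leaf 0x0))) (.node 1992 (.node 1991 (.leaf 0xc100e0003) (.leaf 0xf100b0f0c0005)) (.node 1993 (.leaf 0x7c7) (.node 1994 (.leaf 0xc100b0d0004) (.leaf 0x0))))) (.node 2000 (.node 1997 (.node 1996 (.leaf 0x0) (.leaf 0x0)) (.node 1998 (.leaf 0x0) (.node 1999 (.leaf 0x0) (.leaf 0x0)))) (.node 2002 (.node 2001 (.leaf 0xf100f0f0c0005) (.leaf 0xa0f0002)) (.node 2003 (.leaf 0x7d1) (.node 2004 (.leaf 0xd100c0f0c0005) (.leaf 0x0))))))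

def argWS_207 : Store := (.node 2014 (.node 2009 (.node 2007 (.node 2006 (.leaf 0x0) (.leaf 0x0)) (.node 2008 (.leaf 0x0) (.leaf 0x0))) (.node 2011 (.node 2010 (.leaf 0x0) (.leaf 0x0)) (.node 2012 (.leaf 0x0) (.node 2013 (.leaf 0x0) (.leaf 0x0))))) (.node 2019 (.node 2016 (.node 2015 (.leaf 0x0) (.leaf 0x0)) (.node 2017 (.leaf 0x0) (.node 2018 (.leaf 0x0) (.leaf 0x0)))) (.node 2021 (.node 2020 (.leaf 0x0) (.leaf 0x0)) (.node 2022 (.leaf 0x0) (.node 2023 (.leaf 0x0) (.leaf 0x0))))))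

def argWS_208 : Store := (.node 2005 argWS_206 argWS_207)

def argWS_209 : Store := (.node 2033 (.node 2028 (.node 2026 (.node 2025 (.leaf 0x0) (.leaf 0x0)) (.node 2027 (.leaf 0x0) (.leaf 0x0))) (.node 2030 (.node 2029 (.leaf 0x0) (.leaf 0x0)) (.node 2031 (.leaf 0x0) (.node 2032 (.leaf 0x0) (.leaf 0x0))))) (.node 2038 (.node 2035 (.node 2034 (.leaf 0x0) (.leaf 0x0)) (.node 2036 (.leaf 0x0) (.node 2037 (.leaf 0x0) (.leaf 0x0)))) (.node 2040 (.node 2039 (.leaf 0x0) (.leaf 0x0)) (.node 2041 (.leaf 0x0) (.node 2042 (.leaf 0x0) (.leaf 0x0))))))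

def argWS_210 : Store := (.node 2052 (.node 2047 (.node 2045 (.node 2044 (.leaf 0x0) (.leaf 0x0)) (.node 2046 (.leaf 0x0) (.leaf 0x0))) (.node 2049 (.node 2048 (.leaf 0x0) (.leaf 0x0)) (.node 2050 (.leaf 0x0) (.node 2051 (.leaf 0x0) (.leaf 0x0))))) (.node 2057 (.node 2054 (.node 2053 (.leaf 0x0) (.leaf 0x0)) (.node 2055 (.leaf 0x0) (.node 2056 (.leaf 0x0) (.leaf 0x0)))) (.node 2059 (.node 2058 (.leaf 0x0) (.leaf 0x0)) (.node 2060 (.leaf 0x0) (.node 2061 (.leaf 0x0) (.leaf 0x0))))))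

def argWS_211 : Store := (.node 2043 argWS_209 argWS_210)

def argWS_212 : Store := (.node 2024 argWS_208 argWS_211)

def argWS_213 : Store := (.node 2071 (.node 2066 (.node 2064 (.node 2063 (.leaf 0x0) (.leaf 0x0)) (.node 2065 (.leaf 0x0) (.leaf 0x0))) (.node 2068 (.node 2067 (.leaf 0x0) (.leaf 0x0)) (.node 2069 (.leaf 0x0) (.node 2070 (.leaf 0x0) (.leaf 0x0))))) (.node 2076 (.node 2073 (.node 2072 (.leaf 0x0) (.leaf 0x0)) (.node 2074 (.leaf 0x0) (.node 2075 (.leaf 0x0) (.leaf 0x0)))) (.node 2078 (.node 2077 (.leaf 0x0) (.leaf 0x0)) (.node 2079 (.leaf 0x0) (.node 2080 (.leaf 0x0) (.leaf 0x0))))))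

def argWS_214 : Store := (.node 2090 (.node 2085 (.node 2083 (.node 2082 (.leaf 0x0) (.leaf 0x0)) (.node 2084 (.leaf 0x0) (.leaf 0x0))) (.node 2087 (.node 2086 (.leaf 0x0) (.leaf 0x0)) (.node 2088 (.leaf 0x0) (.node 2089 (.leaf 0xe110f0f0c0005) (.leaf 0x100f0d0e0004))))) (.node 2095 (.node 2092 (.node 2091 (.leaf 0x110b0f0d0e0005) (.leaf 0xc100f0003)) (.node 2093 (.leaf 0x10309080607090007) (.node 2094 (.leaf 0x0) (.leaf 0x100b0d0e0004)))) (.node 2097 (.node 2096 (.leaf 0x0) (.leaf 0x701070705080006)) (.node 2098 (.leaf 0x701020507050006) (.node 2099 (.leaf 0x0) (.leaf 0xb0a0f0f0c0005))))))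

def argWS_215 : Store := (.node 2081 argWS_213 argWS_214)

def argWS_216 : Store := (.node 2109 (.node 2104 (.node 2102 (.node 2101 (.leaf 0x0) (.leaf 0x100001)) (.node 2103 (.leaf 0x83500083400082e00082d00082a000829) (.leaf 0xf100d0f0c0005))) (.node 2106 (.node 2105 (.leaf 0x0) (.leaf 0xc100b0e0004)) (.node 2107 (.leaf 0x0) (.node 2108 (.leaf 0x0) (.leaf 0x0))))) (.node 2114 (.node 2111 (.node 2110 (.leaf 0x0) (.leaf 0x905080003)) (.node 2112 (.leaf 0x100b0f0003) (.node 2113 (.leaf 0x100001) (.leaf 0x0)))) (.node 2116 (.node 2115 (.leaf 0x701070705080006) (.leaf 0x20307060607090007)) (.node 2117 (.leaf 0x0) (.node 2118 (.leaf 0xb0a0c0f0c0005) (.leaf 0x0))))))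

def argWS_217 : Store := (.node 2129 (.node 2124 (.node 2121 (.node 2120 (.leaf 0x0) (.leaf 0x20709080004)) (.node 2122 (.leaf 0x205080003) (.node 2123 (.leaf 0x0) (.leaf 0xf0d0e0003)))) (.node 2126 (.node 2125 (.leaf 0x0) (.leaf 0xe110c0003)) (.node 2127 (.leaf 0xe100f0c0004) (.node 2128 (.leaf 0x100d0002) (.leaf 0x84f00084e00084d00084c000846000840))))) (.node 2134 (.node 2131 (.node 2130 (.leaf 0xf100d0f0c0005) (.leaf 0x0)) (.node 2132 (.leaf 0x0) (.node 2133 (.leaf 0xf100b0f0004) (.leaf 0x100f0d0e0004)))) (.node 2136 (.node 2135 (.leaf 0x110b0f0d0e0005) (.leaf 0xc100f0c0004)) (.node 2137 (.leaf 0x0) (.node 2138 (.leaf 0x301060705080006) (.leaf 0x1050709080005))))))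

def argWS_218 : Store := (.node 2119 argWS_216 argWS_217)

def argWS_219 : Store := (.node 2100 argWS_215 argWS_218)

def argWS_220 : Store := (.node 2062 argWS_212 argWS_219)

def argWS_221 : Store := (.node 1986 argWS_205 argWS_220)

def argWS_222 : Store := (.node 2148 (.node 2143 (.node 2141 (.node 2140 (.leaf 0x0) (.leaf 0xd100d0d0e0005)) (.node 2142 (.leaf 0x0) (.leaf 0xf100f0f0c0005))) (.node 2145 (.node 2144 (.leaf 0x100b0002) (.leaf 0x85f00085e00085d000857000856000855)) (.node 2146 (.leaf 0xc100c0003) (.node 2147 (.leaf 0x0) (.leaf 0xd110d0d0e0005))))) (.node 2153 (.node 2150 (.node 2149 (.leaf 0x0) (.leaf 0x0)) (.node 2151 (.leaf 0x0) (.node 2152 (.leaf 0xa0d0f0c0004) (.leaf 0xd110e0003)))) (.node 2155 (.node 2154 (.leaf 0xd110f0d0e0005) (.leaf 0xd110f0003)) (.node 2156 (.leaf 0x0) (.node 2157 (.leaf 0x301060705080006) (.leaf 0x204070705080006))))))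

def argWS_223 : Store := (.node 2167 (.node 2162 (.node 2160 (.node 2159 (.leaf 0x0) (.leaf 0xa0f0f0c0004)) (.node 2161 (.leaf 0x0) (.leaf 0xd110c0003))) (.node 2164 (.node 2163 (.leaf 0xe100c0003) (.leaf 0x87200087100087000086a000869000868)) (.node 2165 (.leaf 0xc100002) (.node 2166 (.leaf 0x0) (.leaf 0x0))))) (.node 2172 (.node 2169 (.node 2168 (.leaf 0x0) (.leaf 0x0)) (.node 2170 (.leaf 0x4030107090005) (.node 2171 (.leaf 0x0) (.leaf 0x0)))) (.node 2174 (.node 2173 (.leaf 0x110f0d0e0004) (.leaf 0x0)) (.node 2175 (.leaf 0x0) (.node 2176 (.leaf 0x0) (.leaf 0x0))))))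

def argWS_224 : Store := (.node 2158 argWS_222 argWS_223)

def argWS_225 : Store := (.node 2186 (.node 2181 (.node 2179 (.node 2178 (.leaf 0x0) (.leaf 0x0)) (.node 2180 (.leaf 0x0) (.leaf 0x0))) (.node 2183 (.node 2182 (.leaf 0x0) (.leaf 0x0)) (.node 2184 (.leaf 0xd110d0e0004) (.node 2185 (.leaf 0xd110d0e0004) (.leaf 0xd100f0d0e0005))))) (.node 2191 (.node 2188 (.node 2187 (.leaf 0x0) (.leaf 0x301060705080006)) (.node 2189 (.leaf 0x4010607050705080008) (.node 2190 (.leaf 0x0) (.leaf 0x110d0e0003)))) (.node 2193 (.node 2192 (.leaf 0x0) (.leaf 0xc100f0d0e0005)) (.node 2194 (.leaf 0xf100b0003) (.node 2195 (.leaf 0x110b0c0003) (.leaf 0x89200089100089000088f000889000888))))))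

def argWS_226 : Store := (.node 2205 (.node 2200 (.node 2198 (.node 2197 (.leaf 0x110b0d0003) (.leaf 0x0)) (.node 2199 (.leaf 0xa0f0f0c0004) (.leaf 0x0))) (.node 2202 (.node 2201 (.leaf 0x0) (.leaf 0x0)) (.node 2203 (.leaf 0x0) (.node 2204 (.leaf 0x103060607090006) (.leaf 0x10001))))) (.node 2210 (.node 2207 (.node 2206 (.leaf 0x0) (.leaf 0x0)) (.node 2208 (.leaf 0xd0d0e0003) (.node 2209 (.leaf 0x0) (.leaf 0x0)))) (.node 2212 (.node 2211 (.leaf 0x0) (.leaf 0x0)) (.node 2213 (.leaf 0x0) (.node 2214 (.leaf 0x0) (.leaf 0x0))))))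

def argWS_227 : Store := (.node 2196 argWS_225 argWS_226)

def argWS_228 : Store := (.node 2177 argWS_224 argWS_227)

def argWS_229 : Store := (.node 2224 (.node 2219 (.node 2217 (.node 2216 (.leaf 0x0) (.leaf 0x0)) (.node 2218 (.leaf 0x0) (.leaf 0x0))) (.node 2221 (.node 2220 (.leaf 0x0) (.leaf 0x0)) (.node 2222 (.leaf 0x0) (.node 2223 (.leaf 0x0) (.leaf 0x0))))) (.node 2229 (.node 2226 (.node 2225 (.leaf 0x0) (.leaf 0x0)) (.node 2227 (.leaf 0x0) (.node 2228 (.leaf 0x0) (.leaf 0x0)))) (.node 2231 (.node 2230 (.leaf 0x0) (.leaf 0x0)) (.node 2232 (.leaf 0x0) (.node 2233 (.leaf 0x0) (.leaf 0x0))))))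

def argWS_230 : Store := (.node 2243 (.node 2238 (.node 2236 (.node 2235 (.leaf 0x0) (.leaf 0x0)) (.node 2237 (.leaf 0x0) (.leaf 0x0))) (.node 2240 (.node 2239 (.leaf 0x0) (.leaf 0x0)) (.node 2241 (.leaf 0x0) (.node 2242 (.leaf 0x0) (.leaf 0x0))))) (.node 2248 (.node 2245 (.node 2244 (.leaf 0x0) (.leaf 0x0)) (.node 2246 (.leaf 0x0) (.node 2247 (.leaf 0x0) (.leaf 0x0)))) (.node 2250 (.node 2249 (.leaf 0x0) (.leaf 0x0)) (.node 2251 (.leaf 0x0) (.node 2252 (.leaf 0x0) (.leaf 0x0))))))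

def argWS_231 : Store := (.node 2234 argWS_229 argWS_230)

def argWS_232 : Store := (.node 2262 (.node 2257 (.node 2255 (.node 2254 (.leaf 0x0) (.leaf 0x0)) (.node 2256 (.leaf 0x0) (.leaf 0x0))) (.node 2259 (.node 2258 (.leaf 0xe0001) (.leaf 0xf100b0c0004)) (.node 2260 (.leaf 0x8d2) (.node 2261 (.leaf 0x100b0f0003) (.leaf 0x0))))) (.node 2267 (.node 2264 (.node 2263 (.leaf 0x0) (.leaf 0x0)) (.node 2265 (.leaf 0x0) (.node 2266 (.leaf 0x0) (.leaf 0x0)))) (.node 2269 (.node 2268 (.leaf 0x0) (.leaf 0x0)) (.node 2270 (.leaf 0x0) (.node 2271 (.leaf 0x0) (.leaf 0x0))))))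

def argWS_233 : Store := (.node 2282 (.node 2277 (.node 2274 (.node 2273 (.leaf 0x0) (.leaf 0x0)) (.node 2275 (.leaf 0x0) (.node 2276 (.leaf 0x0) (.leaf 0x0)))) (.node 2279 (.node 2278 (.leaf 0x0) (.leaf 0x0)) (.node 2280 (.leaf 0x0) (.node 2281 (.leaf 0x0) (.leaf 0x0))))) (.node 2287 (.node 2284 (.node 2283 (.leaf 0x0) (.leaf 0x0)) (.node 2285 (.leaf 0x0) (.node 2286 (.leaf 0x0) (.leaf 0xb0d0d0e0004)))) (.node 2289 (.node 2288 (.leaf 0x0) (.leaf 0x40905080004)) (.node 2290 (.leaf 0x7010007060607090008) (.node 2291 (.leaf 0x0) (.leaf 0xf100b0f0004))))))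

def argWS_234 : Store := (.node 2272 argWS_232 argWS_233)

def argWS_235 : Store := (.node 2253 argWS_231 argWS_234)

def argWS_236 : Store := (.node 2215 argWS_228 argWS_235)

def argWS_237 : Store := (.node 2301 (.node 2296 (.node 2294 (.node 2293 (.leaf 0x0) (.leaf 0x8f4)) (.node 2295 (.leaf 0x110b0c0003) (.leaf 0x0))) (.node 2298 (.node 2297 (.leaf 0xa0e0002) (.leaf 0x0)) (.node 2299 (.leaf 0x0) (.node 2300 (.leaf 0x0) (.leaf 0x0))))) (.node 2306 (.node 2303 (.node 2302 (.leaf 0x0) (.leaf 0x0)) (.node 2304 (.leaf 0x0) (.node 2305 (.leaf 0x0) (.leaf 0x0)))) (.node 2308 (.node 2307 (.leaf 0x0) (.leaf 0x0)) (.node 2309 (.leaf 0x0) (.node 2310 (.leaf 0x0) (.leaf 0x0))))))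

def argWS_238 : Store := (.node 2320 (.node 2315 (.node 2313 (.node 2312 (.leaf 0x0) (.leaf 0x0)) (.node 2314 (.leaf 0x0) (.leaf 0x0))) (.node 2317 (.node 2316 (.leaf 0x0) (.leaf 0x0)) (.node 2318 (.leaf 0x100b0d0003) (.node 2319 (.leaf 0x110b0e0003) (.leaf 0x90e))))) (.node 2325 (.node 2322 (.node 2321 (.leaf 0xf100b0d0d0e0006) (.leaf 0x0)) (.node 2323 (.leaf 0x0) (.node 2324 (.leaf 0x0) (.leaf 0x0)))) (.node 2327 (.node 2326 (.leaf 0x0) (.leaf 0x0)) (.node 2328 (.leaf 0x0) (.node 2329 (.leaf 0x0) (.leaf 0x0))))))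

def argWS_239 : Store := (.node 2311 argWS_237 argWS_238)

def argWS_240 : Store := (.node 2339 (.node 2334 (.node 2332 (.node 2331 (.leaf 0x0) (.leaf 0x0)) (.node 2333 (.leaf 0xd100f0f0c0005) (.leaf 0xc100f0d0e0005))) (.node 2336 (.node 2335 (.leaf 0xe110d0f0c0005) (.leaf 0x110b0f0c0004)) (.node 2337 (.leaf 0xf100b0e0004) (.node 2338 (.leaf 0x100b0002) (.leaf 0xd100d0003))))) (.node 2344 (.node 2341 (.node 2340 (.leaf 0x92200092100092000091f00091e00091d) (.leaf 0xf100f0f0c0005)) (.node 2342 (.leaf 0x0) (.node 2343 (.leaf 0xf0001) (.leaf 0x0)))) (.node 2346 (.node 2345 (.leaf 0x0) (.leaf 0x0)) (.node 2347 (.leaf 0x5070002) (.node 2348 (.leaf 0x10001) (.leaf 0x0))))))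

def argWS_241 : Store := (.node 2358 (.node 2353 (.node 2351 (.node 2350 (.leaf 0x0) (.leaf 0xe100f0d0e0005)) (.node 2352 (.leaf 0x8060002) (.leaf 0x0))) (.node 2355 (.node 2354 (.leaf 0x0) (.leaf 0xc100b0d0f0c0006)) (.node 2356 (.leaf 0x0) (.node 2357 (.leaf 0x0) (.leaf 0x0))))) (.node 2363 (.node 2360 (.node 2359 (.leaf 0x0) (.leaf 0x0)) (.node 2361 (.leaf 0x0) (.node 2362 (.leaf 0x0) (.leaf 0x0)))) (.node 2365 (.node 2364 (.leaf 0x0) (.leaf 0x0)) (.node 2366 (.leaf 0x0) (.node 2367 (.leaf 0x0) (.leaf 0xc100e0003))))))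

def argWS_242 : Store := (.node 2349 argWS_240 argWS_241)

def argWS_243 : Store := (.node 2330 argWS_239 argWS_242)

def argWS_244 : Store := (.node 2377 (.node 2372 (.node 2370 (.node 2369 (.leaf 0xa0c0002) (.leaf 0xe110002)) (.node 2371 (.leaf 0xf100d0f0c0005) (.leaf 0x100b0002))) (.node 2374 (.node 2373 (.leaf 0xd110d0003) (.leaf 0xf0c0002)) (.node 2375 (.leaf 0x945000944000943000942000941000940) (.node 2376 (.leaf 0x100b0c0003) (.leaf 0x0))))) (.node 2382 (.node 2379 (.node 2378 (.leaf 0xb0e0002) (.leaf 0x0)) (.node 2380 (.leaf 0x0) (.node 2381 (.leaf 0x0) (.leaf 0x0)))) (.node 2384 (.node 2383 (.leaf 0x70201080607090007) (.leaf 0x0)) (.node 2385 (.leaf 0x0) (.node 2386 (.leaf 0xf100b0c0004) (.leaf 0x0))))))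

def argWS_245 : Store := (.node 2396 (.node 2391 (.node 2389 (.node 2388 (.leaf 0x0) (.leaf 0x0)) (.node 2390 (.leaf 0x0) (.leaf 0x0))) (.node 2393 (.node 2392 (.leaf 0x0) (.leaf 0x0)) (.node 2394 (.leaf 0x0) (.node 2395 (.leaf 0x0) (.leaf 0x0))))) (.node 2401 (.node 2398 (.node 2397 (.leaf 0x0) (.leaf 0x0)) (.node 2399 (.leaf 0x0) (.node 2400 (.leaf 0x0) (.leaf 0x0)))) (.node 2403 (.node 2402 (.leaf 0x0) (.leaf 0x0)) (.node 2404 (.leaf 0x0) (.node 2405 (.leaf 0x0) (.leaf 0x0))))))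

def argWS_246 : Store := (.node 2387 argWS_244 argWS_245)

def argWS_247 : Store := (.node 2415 (.node 2410 (.node 2408 (.node 2407 (.leaf 0x0) (.leaf 0x0)) (.node 2409 (.leaf 0x0) (.leaf 0x0))) (.node 2412 (.node 2411 (.leaf 0x0) (.leaf 0x0)) (.node 2413 (.leaf 0x0) (.node 2414 (.leaf 0x0) (.leaf 0x0))))) (.node 2420 (.node 2417 (.node 2416 (.leaf 0x0) (.leaf 0x0)) (.node 2418 (.leaf 0xc100b0e0004) (.node 2419 (.leaf 0xc0001) (.leaf 0x100b0d0f0c0005)))) (.node 2422 (.node 2421 (.leaf 0xe110f0003) (.leaf 0xe110d0d0e0005)) (.node 2423 (.leaf 0xe100d0d0e0005) (.node 2424 (.leaf 0xa0f0f0c0004) (.leaf 0x977000976000975000974000973000972))))))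

def argWS_248 : Store := (.node 2435 (.node 2430 (.node 2427 (.node 2426 (.leaf 0x110001) (.leaf 0x0)) (.node 2428 (.leaf 0x100b0f0d0e0005) (.node 2429 (.leaf 0x0) (.leaf 0x0)))) (.node 2432 (.node 2431 (.leaf 0x0) (.leaf 0x0)) (.node 2433 (.leaf 0x0) (.node 2434 (.leaf 0x0) (.leaf 0x0))))) (.node 2440 (.node 2437 (.node 2436 (.leaf 0x0) (.leaf 0x0)) (.node 2438 (.leaf 0x0) (.node 2439 (.leaf 0x0) (.leaf 0xd110d0e0004)))) (.node 2442 (.node 2441 (.leaf 0xc100f0f0c0005) (.leaf 0xd110f0d0e0005)) (.node 2443 (.leaf 0x100e0002) (.node 2444 (.leaf 0xd100002) (.leaf 0x100d0002))))))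

def argWS_249 : Store := (.node 2425 argWS_247 argWS_248)

def argWS_250 : Store := (.node 2406 argWS_246 argWS_249)

def argWS_251 : Store := (.node 2368 argWS_243 argWS_250)

def argWS_252 : Store := (.node 2292 argWS_236 argWS_251)

def argWS_253 : Store := (.node 2139 argWS_221 argWS_252)

def argWS_254 : Store := (.node 1833 argWS_190 argWS_253)

def argWS_255 : Store := (.node 1222 argWS_127 argWS_254)

def argWS_256 : Store := (.node 2454 (.node 2449 (.node 2447 (.node 2446 (.leaf 0xd110d0003) (.leaf 0x98d00098c00098b00098a000989000988)) (.node 2448 (.leaf 0xd100d0d0e0005) (.leaf 0x0))) (.node 2451 (.node 2450 (.leaf 0xd110f0003) (.leaf 0x0)) (.node 2452 (.leaf 0x0) (.node 2453 (.leaf 0x0) (.leaf 0x80001))))) (.node 2459 (.node 2456 (.node 2455 (.leaf 0x0) (.leaf 0x0)) (.node 2457 (.leaf 0xd100d0003) (.node 2458 (.leaf 0xb0a0f0f0c0005) (.leaf 0xc100b0d0004)))) (.node 2461 (.node 2460 (.leaf 0x100001) (.leaf 0xf100e0003)) (.node 2462 (.leaf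 0x0) (.node 2463 (.leaf 0x306070705080006) (.leaf 0x7010205070005))))))

def argWS_257 : Store := (.node 2473 (.node 2468 (.node 2466 (.node 2465 (.leaf 0x0) (.leaf 0xa0f0002)) (.node 2467 (.leaf 0x0) (.leaf 0xd110002))) (.node 2470 (.node 2469 (.leaf 0x9a30009a200099c00099b00092e00099a) (.leaf 0xe110d0d0e0005)) (.node 2471 (.leaf 0x0) (.node 2472 (.leaf 0x0) (.leaf 0x0))))) (.node 2478 (.node 2475 (.node 2474 (.leaf 0x0) (.leaf 0x103060705080006)) (.node 2476 (.leaf 0x0) (.node 2477 (.leaf 0x0) (.leaf 0xf0f0c0003)))) (.node 2480 (.node 2479 (.leaf 0x0) (.leaf 0x0)) (.node 2481 (.leaf 0x0) (.node 2482 (.leaf 0xe0001) (.leaf 0xf100b0c0004))))))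

def argWS_258 : Store := (.node 2464 argWS_256 argWS_257)

def argWS_259 : Store := (.node 2492 (.node 2487 (.node 2485 (.node 2484 (.leaf 0x9b2) (.leaf 0x100b0f0003)) (.node 2486 (.leaf 0x0) (.leaf 0x0))) (.node 2489 (.node 2488 (.leaf 0x0) (.leaf 0x0)) (.node 2490 (.leaf 0x0) (.node 2491 (.leaf 0x0) (.leaf 0x0))))) (.node 2497 (.node 2494 (.node 2493 (.leaf 0x0) (.leaf 0x0)) (.node 2495 (.leaf 0x0) (.node 2496 (.leaf 0x100f0d0e0004) (.leaf 0x110d0002)))) (.node 2499 (.node 2498 (.leaf 0x9c0) (.leaf 0xf100d0e0004)) (.node 2500 (.leaf 0x0) (.node 2501 (.leaf 0x0) (.leaf 0x0))))))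

def argWS_260 : Store := (.node 2511 (.node 2506 (.node 2504 (.node 2503 (.leaf 0x0) (.leaf 0x0)) (.node 2505 (.leaf 0x0) (.leaf 0x0))) (.node 2508 (.node 2507 (.leaf 0x0) (.leaf 0x0)) (.node 2509 (.leaf 0x110d0002) (.node 2510 (.leaf 0xb0c0f0c0004) (.leaf 0xf100b0f0f0c0006))))) (.node 2516 (.node 2513 (.node 2512 (.leaf 0xf100d0003) (.leaf 0x100b0c0003)) (.node 2514 (.leaf 0x0) (.node 2515 (.leaf 0x30201090004) (.leaf 0x7020106070005)))) (.node 2518 (.node 2517 (.leaf 0x0) (.leaf 0xc100c0f0c0005)) (.node 2519 (.leaf 0x0) (.node 2520 (.leaf 0xe110c0003) (.leaf 0x9d70009d60009d00009cf0009ce0009cd))))))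

def argWS_261 : Store := (.node 2502 argWS_259 argWS_260)

def argWS_262 : Store := (.node 2483 argWS_258 argWS_261)

def argWS_263 : Store := (.node 2530 (.node 2525 (.node 2523 (.node 2522 (.leaf 0xf100b0d0f0c0006) (.leaf 0x0)) (.node 2524 (.leaf 0xe0001) (.leaf 0x0))) (.node 2527 (.node 2526 (.leaf 0x0) (.leaf 0x0)) (.node 2528 (.leaf 0x7010002) (.node 2529 (.leaf 0x0) (.leaf 0x0))))) (.node 2535 (.node 2532 (.node 2531 (.leaf 0x100f0002) (.leaf 0x0)) (.node 2533 (.leaf 0x0) (.node 2534 (.leaf 0x0) (.leaf 0x0)))) (.node 2537 (.node 2536 (.leaf 0x0) (.leaf 0x0)) (.node 2538 (.leaf 0x0) (.node 2539 (.leaf 0x0) (.leaf 0x0))))))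

def argWS_264 : Store := (.node 2549 (.node 2544 (.node 2542 (.node 2541 (.leaf 0x0) (.leaf 0x0)) (.node 2543 (.leaf 0x0) (.leaf 0x0))) (.node 2546 (.node 2545 (.leaf 0x0) (.leaf 0x0)) (.node 2547 (.leaf 0x0) (.node 2548 (.leaf 0x0) (.leaf 0x0))))) (.node 2554 (.node 2551 (.node 2550 (.leaf 0x0) (.leaf 0x0)) (.node 2552 (.leaf 0x0) (.node 2553 (.leaf 0x0) (.leaf 0x0)))) (.node 2556 (.node 2555 (.leaf 0x0) (.leaf 0x0)) (.node 2557 (.leaf 0x0) (.node 2558 (.leaf 0x0) (.leaf 0x0))))))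

def argWS_265 : Store := (.node 2540 argWS_263 argWS_264)

def argWS_266 : Store := (.node 2568 (.node 2563 (.node 2561 (.node 2560 (.leaf 0x0) (.leaf 0x0)) (.node 2562 (.leaf 0x0) (.leaf 0x0))) (.node 2565 (.node 2564 (.leaf 0x0) (.leaf 0x0)) (.node 2566 (.leaf 0x0) (.node 2567 (.leaf 0xd100c0f0c0005) (.leaf 0xb0f0d0e0004))))) (.node 2573 (.node 2570 (.node 2569 (.leaf 0x100b0e0003) (.leaf 0xd100002)) (.node 2571 (.leaf 0x110d0002) (.node 2572 (.leaf 0xf0d0e0003) (.leaf 0xe110f0c0004)))) (.node 2575 (.node 2574 (.leaf 0xa0c000a0b000a0a000a09000a08000a07) (.leaf 0x110b0c0003)) (.node 2576 (.leaf 0x0) (.node 2577 (.leaf 0xd110d0d0e0005) (.leaf 0x0))))))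

def argWS_267 : Store := (.node 2587 (.node 2582 (.node 2580 (.node 2579 (.leaf 0x0) (.leaf 0x0)) (.node 2581 (.leaf 0x701070607090006) (.leaf 0x108060003))) (.node 2584 (.node 2583 (.leaf 0x0) (.leaf 0x0)) (.node 2585 (.leaf 0xf100d0d0e0005) (.node 2586 (.leaf 0x0) (.leaf 0x0))))) (.node 2592 (.node 2589 (.node 2588 (.leaf 0x0) (.leaf 0x0)) (.node 2590 (.leaf 0x0) (.node 2591 (.leaf 0x0) (.leaf 0x0)))) (.node 2594 (.node 2593 (.leaf 0x0) (.leaf 0x0)) (.node 2595 (.leaf 0x0) (.node 2596 (.leaf 0x0) (.leaf 0x0))))))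

def argWS_268 : Store := (.node 2578 argWS_266 argWS_267)

def argWS_269 : Store := (.node 2559 argWS_265 argWS_268)

def argWS_270 : Store := (.node 2521 argWS_262 argWS_269)

def argWS_271 : Store := (.node 2606 (.node 2601 (.node 2599 (.node 2598 (.leaf 0x0) (.leaf 0x0)) (.node 2600 (.leaf 0x0) (.leaf 0x0))) (.node 2603 (.node 2602 (.leaf 0x0) (.leaf 0x0)) (.node 2604 (.leaf 0x0) (.node 2605 (.leaf 0x0) (.leaf 0x0))))) (.node 2611 (.node 2608 (.node 2607 (.leaf 0x0) (.leaf 0x0)) (.node 2609 (.leaf 0x0) (.node 2610 (.leaf 0x0) (.leaf 0x0)))) (.node 2613 (.node 2612 (.leaf 0x0) (.leaf 0x0)) (.node 2614 (.leaf 0x0) (.node 2615 (.leaf 0x0) (.leaf 0x0))))))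

def argWS_272 : Store := (.node 2625 (.node 2620 (.node 2618 (.node 2617 (.leaf 0x0) (.leaf 0x0)) (.node 2619 (.leaf 0x0) (.leaf 0x0))) (.node 2622 (.node 2621 (.leaf 0x0) (.leaf 0x0)) (.node 2623 (.leaf 0x0) (.node 2624 (.leaf 0x0) (.leaf 0x0))))) (.node 2630 (.node 2627 (.node 2626 (.leaf 0x0) (.leaf 0x0)) (.node 2628 (.leaf 0x0) (.node 2629 (.leaf 0x0) (.leaf 0x0)))) (.node 2632 (.node 2631 (.leaf 0x0) (.leaf 0x0)) (.node 2633 (.leaf 0x0) (.node 2634 (.leaf 0x0) (.leaf 0x0))))))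

def argWS_273 : Store := (.node 2616 argWS_271 argWS_272)

def argWS_274 : Store := (.node 2644 (.node 2639 (.node 2637 (.node 2636 (.leaf 0x0) (.leaf 0x0)) (.node 2638 (.leaf 0x0) (.leaf 0x0))) (.node 2641 (.node 2640 (.leaf 0x0) (.leaf 0x0)) (.node 2642 (.leaf 0x0) (.node 2643 (.leaf 0x0) (.leaf 0x0))))) (.node 2649 (.node 2646 (.node 2645 (.leaf 0x0) (.leaf 0x0)) (.node 2647 (.leaf 0x0) (.node 2648 (.leaf 0x0) (.leaf 0x0)))) (.node 2651 (.node 2650 (.leaf 0x0) (.leaf 0x0)) (.node 2652 (.leaf 0x0) (.node 2653 (.leaf 0x0) (.leaf 0x0))))))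

def argWS_275 : Store := (.node 2663 (.node 2658 (.node 2656 (.node 2655 (.leaf 0x0) (.leaf 0x0)) (.node 2657 (.leaf 0x0) (.leaf 0x0))) (.node 2660 (.node 2659 (.leaf 0x0) (.leaf 0x0)) (.node 2661 (.leaf 0x0) (.node 2662 (.leaf 0x0) (.leaf 0x0))))) (.node 2668 (.node 2665 (.node 2664 (.leaf 0x0) (.leaf 0x0)) (.node 2666 (.leaf 0x0) (.node 2667 (.leaf 0x0) (.leaf 0x0)))) (.node 2670 (.node 2669 (.leaf 0x0) (.leaf 0x0)) (.node 2671 (.leaf 0x0) (.node 2672 (.leaf 0x0) (.leaf 0x0))))))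

def argWS_276 : Store := (.node 2654 argWS_274 argWS_275)

def argWS_277 : Store := (.node 2635 argWS_273 argWS_276)

def argWS_278 : Store := (.node 2682 (.node 2677 (.node 2675 (.node 2674 (.leaf 0x0) (.leaf 0x0)) (.node 2676 (.leaf 0x0) (.leaf 0x0))) (.node 2679 (.node 2678 (.leaf 0x0) (.leaf 0xc100c0f0c0005)) (.node 2680 (.leaf 0xb0f0f0c0004) (.node 2681 (.leaf 0xc100b0f0004) (.leaf 0xd100002))))) (.node 2687 (.node 2684 (.node 2683 (.leaf 0xb0f0d0e0004) (.leaf 0x110f0002)) (.node 2685 (.leaf 0xe110f0d0e0005) (.node 2686 (.leaf 0xa7c000a7b000a7a000a79000a78000a77) (.leaf 0xe100f0003)))) (.node 2689 (.node 2688 (.leaf 0x0) (.leaf 0x0)) (.node 2690 (.leaf 0x204010607050006) (.node 2691 (.leaf 0x0) (.leaf 0x0))))))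

def argWS_279 : Store := (.node 2701 (.node 2696 (.node 2694 (.node 2693 (.leaf 0x0) (.leaf 0x0)) (.node 2695 (.leaf 0x0) (.leaf 0x0))) (.node 2698 (.node 2697 (.leaf 0x0) (.leaf 0x0)) (.node 2699 (.leaf 0x0) (.node 2700 (.leaf 0x0) (.leaf 0x0))))) (.node 2706 (.node 2703 (.node 2702 (.leaf 0x0) (.leaf 0x0)) (.node 2704 (.leaf 0x0) (.node 2705 (.leaf 0x0) (.leaf 0x0)))) (.node 2708 (.node 2707 (.leaf 0x0) (.leaf 0x0)) (.node 2709 (.leaf 0x0) (.node 2710 (.leaf 0x0) (.leaf 0x0))))))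

def argWS_280 : Store := (.node 2692 argWS_278 argWS_279)

def argWS_281 : Store := (.node 2720 (.node 2715 (.node 2713 (.node 2712 (.leaf 0x0) (.leaf 0x0)) (.node 2714 (.leaf 0x0) (.leaf 0x0))) (.node 2717 (.node 2716 (.leaf 0xd0001) (.leaf 0xf0d0e0003)) (.node 2718 (.leaf 0xe110c0003) (.node 2719 (.leaf 0x110b0d0f0c0005) (.leaf 0xe110d0003))))) (.node 2725 (.node 2722 (.node 2721 (.leaf 0x7020108060705080008) (.leaf 0x0)) (.node 2723 (.leaf 0xe100d0003) (.node 2724 (.leaf 0xf100b0f0f0c0006) (.leaf 0xaa3000aa2000aa1000a9e000a9d000a9c)))) (.node 2727 (.node 2726 (.leaf 0x110b0002) (.leaf 0x0)) (.node 2728 (.leaf 0xc100b0d0004) (.node 2729 (.leaf 0x0) (.leaf 0x0))))))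

def argWS_282 : Store := (.node 2740 (.node 2735 (.node 2732 (.node 2731 (.leaf 0x0) (.leaf 0x0)) (.node 2733 (.leaf 0x0) (.node 2734 (.leaf 0x0) (.leaf 0x0)))) (.node 2737 (.node 2736 (.leaf 0x0) (.leaf 0x0)) (.node 2738 (.leaf 0x0) (.node 2739 (.leaf 0x0) (.leaf 0x0))))) (.node 2745 (.node 2742 (.node 2741 (.leaf 0x0) (.leaf 0x0)) (.node 2743 (.leaf 0x0) (.node 2744 (.leaf 0x0) (.leaf 0x0)))) (.node 2747 (.node 2746 (.leaf 0x0) (.leaf 0x0)) (.node 2748 (.leaf 0x0) (.node 2749 (.leaf 0x0) (.leaf 0x0))))))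

def argWS_283 : Store := (.node 2730 argWS_281 argWS_282)

def argWS_284 : Store := (.node 2711 argWS_280 argWS_283)

def argWS_285 : Store := (.node 2673 argWS_277 argWS_284)

def argWS_286 : Store := (.node 2597 argWS_270 argWS_285)

def argWS_287 : Store := (.node 2759 (.node 2754 (.node 2752 (.node 2751 (.leaf 0x0) (.leaf 0x0)) (.node 2753 (.leaf 0x0) (.leaf 0x0))) (.node 2756 (.node 2755 (.leaf 0x0) (.leaf 0x0)) (.node 2757 (.leaf 0x0) (.node 2758 (.leaf 0x0) (.leaf 0x0))))) (.node 2764 (.node 2761 (.node 2760 (.leaf 0x0) (.leaf 0x0)) (.node 2762 (.leaf 0x0) (.node 2763 (.leaf 0x0) (.leaf 0xc100b0f0004)))) (.node 2766 (.node 2765 (.leaf 0xd100002) (.leaf 0x110d0002)) (.node 2767 (.leaf 0x100b0f0f0c0005) (.node 2768 (.leaf 0x0) (.leaf 0x306070705080006))))))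

def argWS_288 : Store := (.node 2778 (.node 2773 (.node 2771 (.node 2770 (.leaf 0x809080607090007) (.leaf 0x0)) (.node 2772 (.leaf 0xe100d0003) (.leaf 0x0))) (.node 2775 (.node 2774 (.leaf 0x0) (.leaf 0x30201090004)) (.node 2776 (.leaf 0x3040108060607090008) (.node 2777 (.leaf 0x0) (.leaf 0xd100f0c0004))))) (.node 2783 (.node 2780 (.node 2779 (.leaf 0x0) (.leaf 0xc100002)) (.node 2781 (.leaf 0xadb000ada000ad4000ace000acd000acc) (.node 2782 (.leaf 0xf100e0003) (.leaf 0x0)))) (.node 2785 (.node 2784 (.leaf 0x110b0d0d0e0005) (.leaf 0x0)) (.node 2786 (.leaf 0x0) (.node 2787 (.leaf 0x0) (.leaf 0x0))))))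

def argWS_289 : Store := (.node 2769 argWS_287 argWS_288)

def argWS_290 : Store := (.node 2797 (.node 2792 (.node 2790 (.node 2789 (.leaf 0x0) (.leaf 0x0)) (.node 2791 (.leaf 0x0) (.leaf 0x0))) (.node 2794 (.node 2793 (.leaf 0x0) (.leaf 0x0)) (.node 2795 (.leaf 0x0) (.node 2796 (.leaf 0x0) (.leaf 0x0))))) (.node 2802 (.node 2799 (.node 2798 (.leaf 0x0) (.leaf 0x0)) (.node 2800 (.leaf 0x0) (.node 2801 (.leaf 0x0) (.leaf 0x0)))) (.node 2804 (.node 2803 (.leaf 0x0) (.leaf 0x0)) (.node 2805 (.leaf 0x0) (.node 2806 (.leaf 0x0) (.leaf 0x0))))))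

def argWS_291 : Store := (.node 2816 (.node 2811 (.node 2809 (.node 2808 (.leaf 0x0) (.leaf 0x0)) (.node 2810 (.leaf 0x0) (.leaf 0x0))) (.node 2813 (.node 2812 (.leaf 0x0) (.leaf 0x0)) (.node 2814 (.leaf 0x0) (.node 2815 (.leaf 0x0) (.leaf 0x0))))) (.node 2821 (.node 2818 (.node 2817 (.leaf 0x0) (.leaf 0x0)) (.node 2819 (.leaf 0x0) (.node 2820 (.leaf 0x0) (.leaf 0x0)))) (.node 2823 (.node 2822 (.leaf 0x0) (.leaf 0x0)) (.node 2824 (.leaf 0x0) (.node 2825 (.leaf 0x0) (.leaf 0x0))))))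

def argWS_292 : Store := (.node 2807 argWS_290 argWS_291)

def argWS_293 : Store := (.node 2788 argWS_289 argWS_292)

def argWS_294 : Store := (.node 2835 (.node 2830 (.node 2828 (.node 2827 (.leaf 0x0) (.leaf 0x0)) (.node 2829 (.leaf 0x0) (.leaf 0x0))) (.node 2832 (.node 2831 (.leaf 0x0) (.leaf 0x0)) (.node 2833 (.leaf 0x0) (.node 2834 (.leaf 0x0) (.leaf 0x0))))) (.node 2840 (.node 2837 (.node 2836 (.leaf 0x0) (.leaf 0x0)) (.node 2838 (.leaf 0x0) (.node 2839 (.leaf 0x0) (.leaf 0x0)))) (.node 2842 (.node 2841 (.leaf 0x0) (.leaf 0x0)) (.node 2843 (.leaf 0x0) (.node 2844 (.leaf 0x0) (.leaf 0x0))))))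

def argWS_295 : Store := (.node 2854 (.node 2849 (.node 2847 (.node 2846 (.leaf 0x0) (.leaf 0x0)) (.node 2848 (.leaf 0x0) (.leaf 0x0))) (.node 2851 (.node 2850 (.leaf 0x0) (.leaf 0x0)) (.node 2852 (.leaf 0x0) (.node 2853 (.leaf 0x0) (.leaf 0x0))))) (.node 2859 (.node 2856 (.node 2855 (.leaf 0x0) (.leaf 0x0)) (.node 2857 (.leaf 0x0) (.node 2858 (.leaf 0x0) (.leaf 0x0)))) (.node 2861 (.node 2860 (.leaf 0x0) (.leaf 0x0)) (.node 2862 (.leaf 0x0) (.node 2863 (.leaf 0x0) (.leaf 0x0))))))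

def argWS_296 : Store := (.node 2845 argWS_294 argWS_295)

def argWS_297 : Store := (.node 2873 (.node 2868 (.node 2866 (.node 2865 (.leaf 0x0) (.leaf 0x0)) (.node 2867 (.leaf 0x0) (.leaf 0x0))) (.node 2870 (.node 2869 (.leaf 0x0) (.leaf 0x0)) (.node 2871 (.leaf 0x0) (.node 2872 (.leaf 0x0) (.leaf 0x0))))) (.node 2878 (.node 2875 (.node 2874 (.leaf 0x0) (.leaf 0x0)) (.node 2876 (.leaf 0x0) (.node 2877 (.leaf 0x0) (.leaf 0x0)))) (.node 2880 (.node 2879 (.leaf 0x0) (.leaf 0x0)) (.node 2881 (.leaf 0x0) (.node 2882 (.leaf 0x0) (.leaf 0x0))))))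

def argWS_298 : Store := (.node 2893 (.node 2888 (.node 2885 (.node 2884 (.leaf 0x0) (.leaf 0x0)) (.node 2886 (.leaf 0x0) (.node 2887 (.leaf 0x0) (.leaf 0x0)))) (.node 2890 (.node 2889 (.leaf 0x0) (.leaf 0x0)) (.node 2891 (.leaf 0x0) (.node 2892 (.leaf 0x0) (.leaf 0x0))))) (.node 2898 (.node 2895 (.node 2894 (.leaf 0x0) (.leaf 0x0)) (.node 2896 (.leaf 0x0) (.node 2897 (.leaf 0x0) (.leaf 0x0)))) (.node 2900 (.node 2899 (.leaf 0x0) (.leaf 0x0)) (.node 2901 (.leaf 0x0) (.node 2902 (.leaf 0x0) (.leaf 0x0))))))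

def argWS_299 : Store := (.node 2883 argWS_297 argWS_298)

def argWS_300 : Store := (.node 2864 argWS_296 argWS_299)

def argWS_301 : Store := (.node 2826 argWS_293 argWS_300)

def argWS_302 : Store := (.node 2912 (.node 2907 (.node 2905 (.node 2904 (.leaf 0x0) (.leaf 0x0)) (.node 2906 (.leaf 0x0) (.leaf 0x0))) (.node 2909 (.node 2908 (.leaf 0x0) (.leaf 0x0)) (.node 2910 (.leaf 0x0) (.node 2911 (.leaf 0x0) (.leaf 0x0))))) (.node 2917 (.node 2914 (.node 2913 (.leaf 0x0) (.leaf 0x0)) (.node 2915 (.leaf 0x0) (.node 2916 (.leaf 0x0) (.leaf 0x0)))) (.node 2919 (.node 2918 (.leaf 0x0) (.leaf 0x0)) (.node 2920 (.leaf 0x0) (.node 2921 (.leaf 0x0) (.leaf 0x0))))))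

def argWS_303 : Store := (.node 2931 (.node 2926 (.node 2924 (.node 2923 (.leaf 0x0) (.leaf 0x0)) (.node 2925 (.leaf 0x0) (.leaf 0x0))) (.node 2928 (.node 2927 (.leaf 0x0) (.leaf 0x0)) (.node 2929 (.leaf 0x0) (.node 2930 (.leaf 0x0) (.leaf 0x0))))) (.node 2936 (.node 2933 (.node 2932 (.leaf 0x0) (.leaf 0x0)) (.node 2934 (.leaf 0x0) (.node 2935 (.leaf 0x0) (.leaf 0x0)))) (.node 2938 (.node 2937 (.leaf 0x0) (.leaf 0x0)) (.node 2939 (.leaf 0x0) (.node 2940 (.leaf 0x0) (.leaf 0x0))))))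

def argWS_304 : Store := (.node 2922 argWS_302 argWS_303)

def argWS_305 : Store := (.node 2950 (.node 2945 (.node 2943 (.node 2942 (.leaf 0x0) (.leaf 0x0)) (.node 2944 (.leaf 0x0) (.leaf 0x0))) (.node 2947 (.node 2946 (.leaf 0x0) (.leaf 0x0)) (.node 2948 (.leaf 0x0) (.node 2949 (.leaf 0x0) (.leaf 0x0))))) (.node 2955 (.node 2952 (.node 2951 (.leaf 0x0) (.leaf 0x0)) (.node 2953 (.leaf 0x0) (.node 2954 (.leaf 0x0) (.leaf 0x0)))) (.node 2957 (.node 2956 (.leaf 0x0) (.leaf 0x0)) (.node 2958 (.leaf 0x0) (.node 2959 (.leaf 0x0) (.leaf 0x0))))))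

def argWS_306 : Store := (.node 2969 (.node 2964 (.node 2962 (.node 2961 (.leaf 0x0) (.leaf 0x0)) (.node 2963 (.leaf 0x0) (.leaf 0x0))) (.node 2966 (.node 2965 (.leaf 0x0) (.leaf 0x0)) (.node 2967 (.leaf 0x0) (.node 2968 (.leaf 0x0) (.leaf 0x0))))) (.node 2974 (.node 2971 (.node 2970 (.leaf 0x0) (.leaf 0x0)) (.node 2972 (.leaf 0x0) (.node 2973 (.leaf 0x0) (.leaf 0x0)))) (.node 2976 (.node 2975 (.leaf 0x0) (.leaf 0x0)) (.node 2977 (.leaf 0x0) (.node 2978 (.leaf 0x0) (.leaf 0x0))))))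

def argWS_307 : Store := (.node 2960 argWS_305 argWS_306)

def argWS_308 : Store := (.node 2941 argWS_304 argWS_307)

def argWS_309 : Store := (.node 2988 (.node 2983 (.node 2981 (.node 2980 (.leaf 0x0) (.leaf 0x0)) (.node 2982 (.leaf 0x0) (.leaf 0x0))) (.node 2985 (.node 2984 (.leaf 0x0) (.leaf 0x0)) (.node 2986 (.leaf 0x0) (.node 2987 (.leaf 0x0) (.leaf 0x0))))) (.node 2993 (.node 2990 (.node 2989 (.leaf 0x0) (.leaf 0x0)) (.node 2991 (.leaf 0x0) (.node 2992 (.leaf 0x0) (.leaf 0x0)))) (.node 2995 (.node 2994 (.leaf 0x0) (.leaf 0x0)) (.node 2996 (.leaf 0x0) (.node 2997 (.leaf 0x0) (.leaf 0x0))))))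

def argWS_310 : Store := (.node 3007 (.node 3002 (.node 3000 (.node 2999 (.leaf 0x0) (.leaf 0x0)) (.node 3001 (.leaf 0x0) (.leaf 0x0))) (.node 3004 (.node 3003 (.leaf 0x0) (.leaf 0x0)) (.node 3005 (.leaf 0x0) (.node 3006 (.leaf 0x0) (.leaf 0x0))))) (.node 3012 (.node 3009 (.node 3008 (.leaf 0x0) (.leaf 0x0)) (.node 3010 (.leaf 0x0) (.node 3011 (.leaf 0x0) (.leaf 0x0)))) (.node 3014 (.node 3013 (.leaf 0x0) (.leaf 0x0)) (.node 3015 (.leaf 0x0) (.node 3016 (.leaf 0x0) (.leaf 0x0))))))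

def argWS_311 : Store := (.node 2998 argWS_309 argWS_310)

def argWS_312 : Store := (.node 3026 (.node 3021 (.node 3019 (.node 3018 (.leaf 0x0) (.leaf 0x0)) (.node 3020 (.leaf 0x0) (.leaf 0x0))) (.node 3023 (.node 3022 (.leaf 0x0) (.leaf 0x0)) (.node 3024 (.leaf 0x0) (.node 3025 (.leaf 0x0) (.leaf 0x0))))) (.node 3031 (.node 3028 (.node 3027 (.leaf 0x0) (.leaf 0x0)) (.node 3029 (.leaf 0x0) (.node 3030 (.leaf 0x0) (.leaf 0x0)))) (.node 3033 (.node 3032 (.leaf 0x0) (.leaf 0x0)) (.node 3034 (.leaf 0x0) (.node 3035 (.leaf 0x0) (.leaf 0x0))))))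

def argWS_313 : Store := (.node 3046 (.node 3041 (.node 3038 (.node 3037 (.leaf 0x0) (.leaf 0x0)) (.node 3039 (.leaf 0x0) (.node 3040 (.leaf 0x0) (.leaf 0x0)))) (.node 3043 (.node 3042 (.leaf 0x0) (.leaf 0x0)) (.node 3044 (.leaf 0x0) (.node 3045 (.leaf 0x0) (.leaf 0x0))))) (.node 3051 (.node 3048 (.node 3047 (.leaf 0x0) (.leaf 0x0)) (.node 3049 (.leaf 0x0) (.node 3050 (.leaf 0x0) (.leaf 0x0)))) (.node 3053 (.node 3052 (.leaf 0x0) (.leaf 0x0)) (.node 3054 (.leaf 0x0) (.node 3055 (.leaf 0x0) (.leaf 0x0))))))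

def argWS_314 : Store := (.node 3036 argWS_312 argWS_313)

def argWS_315 : Store := (.node 3017 argWS_311 argWS_314)

def argWS_316 : Store := (.node 2979 argWS_308 argWS_315)

def argWS_317 : Store := (.node 2903 argWS_301 argWS_316)

def argWS_318 : Store := (.node 2750 argWS_286 argWS_317)

def argWS_319 : Store := (.node 3065 (.node 3060 (.node 3058 (.node 3057 (.leaf 0x0) (.leaf 0x0)) (.node 3059 (.leaf 0x0) (.leaf 0x0))) (.node 3062 (.node 3061 (.leaf 0x0) (.leaf 0x0)) (.node 3063 (.leaf 0x0) (.node 3064 (.leaf 0x0) (.leaf 0x0))))) (.node 3070 (.node 3067 (.node 3066 (.leaf 0x0) (.leaf 0x0)) (.node 3068 (.leaf 0x0) (.node 3069 (.leaf 0x0) (.leaf 0x0)))) (.node 3072 (.node 3071 (.leaf 0x0) (.leaf 0x0)) (.node 3073 (.leaf 0x0) (.node 3074 (.leaf 0x0) (.leaf 0x0))))))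

def argWS_320 : Store := (.node 3084 (.node 3079 (.node 3077 (.node 3076 (.leaf 0x0) (.leaf 0x0)) (.node 3078 (.leaf 0x0) (.leaf 0x0))) (.node 3081 (.node 3080 (.leaf 0x0) (.leaf 0x0)) (.node 3082 (.leaf 0x0) (.node 3083 (.leaf 0x0) (.leaf 0x0))))) (.node 3089 (.node 3086 (.node 3085 (.leaf 0x0) (.leaf 0x0)) (.node 3087 (.leaf 0x0) (.node 3088 (.leaf 0x0) (.leaf 0x0)))) (.node 3091 (.node 3090 (.leaf 0x0) (.leaf 0x0)) (.node 3092 (.leaf 0x0) (.node 3093 (.leaf 0x0) (.leaf 0x0))))))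

def argWS_321 : Store := (.node 3075 argWS_319 argWS_320)

def argWS_322 : Store := (.node 3103 (.node 3098 (.node 3096 (.node 3095 (.leaf 0x0) (.leaf 0x0)) (.node 3097 (.leaf 0x0) (.leaf 0x0))) (.node 3100 (.node 3099 (.leaf 0x0) (.leaf 0x0)) (.node 3101 (.leaf 0x0) (.node 3102 (.leaf 0x0) (.leaf 0x0))))) (.node 3108 (.node 3105 (.node 3104 (.leaf 0x0) (.leaf 0x0)) (.node 3106 (.leaf 0x0) (.node 3107 (.leaf 0x0) (.leaf 0x0)))) (.node 3110 (.node 3109 (.leaf 0x0) (.leaf 0x0)) (.node 3111 (.leaf 0x0) (.node 3112 (.leaf 0x0) (.leaf 0x0))))))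

def argWS_323 : Store := (.node 3122 (.node 3117 (.node 3115 (.node 3114 (.leaf 0x0) (.leaf 0x0)) (.node 3116 (.leaf 0x0) (.leaf 0x0))) (.node 3119 (.node 3118 (.leaf 0x0) (.leaf 0x0)) (.node 3120 (.leaf 0x0) (.node 3121 (.leaf 0x0) (.leaf 0x0))))) (.node 3127 (.node 3124 (.node 3123 (.leaf 0x0) (.leaf 0x0)) (.node 3125 (.leaf 0x0) (.node 3126 (.leaf 0x0) (.leaf 0xa0d0002)))) (.node 3129 (.node 3128 (.leaf 0xf100d0f0c0005) (.leaf 0xc37)) (.node 3130 (.leaf 0x100d0e0003) (.node 3131 (.leaf 0x0) (.leaf 0x0))))))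

def argWS_324 : Store := (.node 3113 argWS_322 argWS_323)

def argWS_325 : Store := (.node 3094 argWS_321 argWS_324)

def argWS_326 : Store := (.node 3141 (.node 3136 (.node 3134 (.node 3133 (.leaf 0x0) (.leaf 0x0)) (.node 3135 (.leaf 0x0) (.leaf 0x0))) (.node 3138 (.node 3137 (.leaf 0x0) (.leaf 0x0)) (.node 3139 (.leaf 0x0) (.node 3140 (.leaf 0x0) (.leaf 0x110d0e0003))))) (.node 3146 (.node 3143 (.node 3142 (.leaf 0xf100f0c0004) (.leaf 0x100f0c0003)) (.node 3144 (.leaf 0x110d0f0c0004) (.node 3145 (.leaf 0xc100b0c0004) (.leaf 0xf100e0003)))) (.node 3148 (.node 3147 (.leaf 0xc100b0f0c0005) (.leaf 0xc4a000c49000c48000c47000c46000c45)) (.node 3149 (.leaf 0x110c0002) (.node 3150 (.leaf 0x0) (.leaf 0xd110f0f0c0005))))))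

def argWS_327 : Store := (.node 3160 (.node 3155 (.node 3153 (.node 3152 (.leaf 0x0) (.leaf 0x0)) (.node 3154 (.leaf 0x0) (.leaf 0x0))) (.node 3157 (.node 3156 (.leaf 0x0) (.leaf 0x0)) (.node 3158 (.leaf 0x0) (.node 3159 (.leaf 0x0) (.leaf 0x0))))) (.node 3165 (.node 3162 (.node 3161 (.leaf 0xe110f0f0c0005) (.leaf 0xd100e0003)) (.node 3163 (.leaf 0xd0e0002) (.node 3164 (.leaf 0x110b0d0d0e0005) (.leaf 0xb0f0d0e0004)))) (.node 3167 (.node 3166 (.leaf 0xb0a0c0003) (.leaf 0xc100b0f0d0e0006)) (.node 3168 (.leaf 0xc5e000c5d000c5c000c5b000c5a000c59) (.node 3169 (.leaf 0xc100f0c0004) (.leaf 0x0))))))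

def argWS_328 : Store := (.node 3151 argWS_326 argWS_327)

def argWS_329 : Store := (.node 3179 (.node 3174 (.node 3172 (.node 3171 (.leaf 0x0) (.leaf 0x0)) (.node 3173 (.leaf 0x0) (.leaf 0x40301050705080007))) (.node 3176 (.node 3175 (.leaf 0x10001) (.leaf 0x0)) (.node 3177 (.leaf 0x0) (.node 3178 (.leaf 0xd100c0f0c0005) (.leaf 0x0))))) (.node 3184 (.node 3181 (.node 3180 (.leaf 0x0) (.leaf 0x0)) (.node 3182 (.leaf 0x0) (.node 3183 (.leaf 0x0) (.leaf 0x0)))) (.node 3186 (.node 3185 (.leaf 0x0) (.leaf 0x0)) (.node 3187 (.leaf 0x0) (.node 3188 (.leaf 0x0) (.leaf 0x0))))))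

def argWS_330 : Store := (.node 3198 (.node 3193 (.node 3191 (.node 3190 (.leaf 0x0) (.leaf 0x0)) (.node 3192 (.leaf 0x0) (.leaf 0x0))) (.node 3195 (.node 3194 (.leaf 0x0) (.leaf 0x0)) (.node 3196 (.leaf 0x0) (.node 3197 (.leaf 0x0) (.leaf 0x0))))) (.node 3203 (.node 3200 (.node 3199 (.leaf 0x0) (.leaf 0x0)) (.node 3201 (.leaf 0x0) (.node 3202 (.leaf 0x0) (.leaf 0x0)))) (.node 3205 (.node 3204 (.leaf 0x0) (.leaf 0x0)) (.node 3206 (.leaf 0x0) (.node 3207 (.leaf 0x0) (.leaf 0x0))))))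

def argWS_331 : Store := (.node 3189 argWS_329 argWS_330)

def argWS_332 : Store := (.node 3170 argWS_328 argWS_331)

def argWS_333 : Store := (.node 3132 argWS_325 argWS_332)

def argWS_334 : Store := (.node 3217 (.node 3212 (.node 3210 (.node 3209 (.leaf 0x0) (.leaf 0x0)) (.node 3211 (.leaf 0x0) (.leaf 0x0))) (.node 3214 (.node 3213 (.leaf 0x0) (.leaf 0x0)) (.node 3215 (.leaf 0x0) (.node 3216 (.leaf 0x0) (.leaf 0x0))))) (.node 3222 (.node 3219 (.node 3218 (.leaf 0x0) (.leaf 0x0)) (.node 3220 (.leaf 0x0) (.node 3221 (.leaf 0x0) (.leaf 0x0)))) (.node 3224 (.node 3223 (.leaf 0x0) (.leaf 0x0)) (.node 3225 (.leaf 0x0) (.node 3226 (.leaf 0x0) (.leaf 0x0))))))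

def argWS_335 : Store := (.node 3236 (.node 3231 (.node 3229 (.node 3228 (.leaf 0x0) (.leaf 0x0)) (.node 3230 (.leaf 0x0) (.leaf 0x0))) (.node 3233 (.node 3232 (.leaf 0x0) (.leaf 0x0)) (.node 3234 (.leaf 0x0) (.node 3235 (.leaf 0x0) (.leaf 0x0))))) (.node 3241 (.node 3238 (.node 3237 (.leaf 0x0) (.leaf 0x0)) (.node 3239 (.leaf 0x0) (.node 3240 (.leaf 0x0) (.leaf 0x0)))) (.node 3243 (.node 3242 (.leaf 0x0) (.leaf 0x0)) (.node 3244 (.leaf 0x0) (.node 3245 (.leaf 0x0) (.leaf 0x0))))))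

def argWS_336 : Store := (.node 3227 argWS_334 argWS_335)

def argWS_337 : Store := (.node 3255 (.node 3250 (.node 3248 (.node 3247 (.leaf 0x0) (.leaf 0x0)) (.node 3249 (.leaf 0x0) (.leaf 0x0))) (.node 3252 (.node 3251 (.leaf 0x0) (.leaf 0x0)) (.node 3253 (.leaf 0x0) (.node 3254 (.leaf 0x0) (.leaf 0x0))))) (.node 3260 (.node 3257 (.node 3256 (.leaf 0x0) (.leaf 0x0)) (.node 3258 (.leaf 0x0) (.node 3259 (.leaf 0x0) (.leaf 0x0)))) (.node 3262 (.node 3261 (.leaf 0x0) (.leaf 0x0)) (.node 3263 (.leaf 0x0) (.node 3264 (.leaf 0x0) (.leaf 0x0))))))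

def argWS_338 : Store := (.node 3274 (.node 3269 (.node 3267 (.node 3266 (.leaf 0x0) (.leaf 0x0)) (.node 3268 (.leaf 0x0) (.leaf 0x0))) (.node 3271 (.node 3270 (.leaf 0x0) (.leaf 0x0)) (.node 3272 (.leaf 0x0) (.node 3273 (.leaf 0x0) (.leaf 0x0))))) (.node 3279 (.node 3276 (.node 3275 (.leaf 0x0) (.leaf 0x0)) (.node 3277 (.leaf 0x0) (.node 3278 (.leaf 0x0) (.leaf 0x0)))) (.node 3281 (.node 3280 (.leaf 0x0) (.leaf 0x0)) (.node 3282 (.leaf 0x0) (.node 3283 (.leaf 0x0) (.leaf 0x0))))))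

def argWS_339 : Store := (.node 3265 argWS_337 argWS_338)

def argWS_340 : Store := (.node 3246 argWS_336 argWS_339)

def argWS_341 : Store := (.node 3293 (.node 3288 (.node 3286 (.node 3285 (.leaf 0x0) (.leaf 0x0)) (.node 3287 (.leaf 0x0) (.leaf 0x0))) (.node 3290 (.node 3289 (.leaf 0x0) (.leaf 0x0)) (.node 3291 (.leaf 0x0) (.node 3292 (.leaf 0x0) (.leaf 0xc100b0e0004))))) (.node 3298 (.node 3295 (.node 3294 (.leaf 0xc0001) (.leaf 0xa0f0f0c0004)) (.node 3296 (.leaf 0xd110f0f0c0005) (.node 3297 (.leaf 0xe100f0003) (.leaf 0x110d0002)))) (.node 3300 (.node 3299 (.leaf 0xd0e0002) (.leaf 0xce2000ce1000ce0000cdf000cde000cdd)) (.node 3301 (.leaf 0xb0d0002) (.node 3302 (.leaf 0x0) (.leaf 0xb0001))))))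

def argWS_342 : Store := (.node 3312 (.node 3307 (.node 3305 (.node 3304 (.leaf 0x0) (.leaf 0x0)) (.node 3306 (.leaf 0x0) (.leaf 0x0))) (.node 3309 (.node 3308 (.leaf 0x0) (.leaf 0x0)) (.node 3310 (.leaf 0x0) (.node 3311 (.leaf 0x0) (.leaf 0x0))))) (.node 3317 (.node 3314 (.node 3313 (.leaf 0x0) (.leaf 0x0)) (.node 3315 (.leaf 0x0) (.node 3316 (.leaf 0xb0a0d0f0c0005) (.leaf 0x100b0f0003)))) (.node 3319 (.node 3318 (.leaf 0xcf4) (.leaf 0x110b0e0003)) (.node 3320 (.leaf 0x0) (.node 3321 (.leaf 0x0) (.leaf 0x0))))))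

def argWS_343 : Store := (.node 3303 argWS_341 argWS_342)

def argWS_344 : Store := (.node 3331 (.node 3326 (.node 3324 (.node 3323 (.leaf 0x0) (.leaf 0x0)) (.node 3325 (.leaf 0x0) (.leaf 0x0))) (.node 3328 (.node 3327 (.leaf 0x0) (.leaf 0x0)) (.node 3329 (.leaf 0x0) (.node 3330 (.leaf 0x0) (.leaf 0x0))))) (.node 3336 (.node 3333 (.node 3332 (.leaf 0x0) (.leaf 0x0)) (.node 3334 (.leaf 0x0) (.node 3335 (.leaf 0x0) (.leaf 0x0)))) (.node 3338 (.node 3337 (.leaf 0x0) (.leaf 0x0)) (.node 3339 (.leaf 0x0) (.node 3340 (.leaf 0x0) (.leaf 0x0))))))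

def argWS_345 : Store := (.node 3351 (.node 3346 (.node 3343 (.node 3342 (.leaf 0x0) (.leaf 0x0)) (.node 3344 (.leaf 0x0) (.node 3345 (.leaf 0x0) (.leaf 0x0)))) (.node 3348 (.node 3347 (.leaf 0x0) (.leaf 0x0)) (.node 3349 (.leaf 0x0) (.node 3350 (.leaf 0x0) (.leaf 0x0))))) (.node 3356 (.node 3353 (.node 3352 (.leaf 0x0) (.leaf 0x0)) (.node 3354 (.leaf 0x0) (.node 3355 (.leaf 0x0) (.leaf 0x0)))) (.node 3358 (.node 3357 (.leaf 0x0) (.leaf 0x0)) (.node 3359 (.leaf 0x0) (.node 3360 (.leaf 0x0) (.leaf 0x0))))))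

def argWS_346 : Store := (.node 3341 argWS_344 argWS_345)

def argWS_347 : Store := (.node 3322 argWS_343 argWS_346)

def argWS_348 : Store := (.node 3284 argWS_340 argWS_347)

def argWS_349 : Store := (.node 3208 argWS_333 argWS_348)

def argWS_350 : Store := (.node 3370 (.node 3365 (.node 3363 (.node 3362 (.leaf 0x0) (.leaf 0x0)) (.node 3364 (.leaf 0x0) (.leaf 0x0))) (.node 3367 (.node 3366 (.leaf 0x0) (.leaf 0x0)) (.node 3368 (.leaf 0x0) (.node 3369 (.leaf 0x0) (.leaf 0x0))))) (.node 3375 (.node 3372 (.node 3371 (.leaf 0x0) (.leaf 0x0)) (.node 3373 (.leaf 0x0) (.node 3374 (.leaf 0x0) (.leaf 0x0)))) (.node 3377 (.node 3376 (.leaf 0x0) (.leaf 0x0)) (.node 3378 (.leaf 0x0) (.node 3379 (.leaf 0x0) (.leaf 0x0))))))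

def argWS_351 : Store := (.node 3389 (.node 3384 (.node 3382 (.node 3381 (.leaf 0x0) (.leaf 0x0)) (.node 3383 (.leaf 0x0) (.leaf 0x0))) (.node 3386 (.node 3385 (.leaf 0x0) (.leaf 0x0)) (.node 3387 (.leaf 0x0) (.node 3388 (.leaf 0x0) (.leaf 0x0))))) (.node 3394 (.node 3391 (.node 3390 (.leaf 0x0) (.leaf 0x0)) (.node 3392 (.leaf 0x0) (.node 3393 (.leaf 0x0) (.leaf 0x0)))) (.node 3396 (.node 3395 (.leaf 0x0) (.leaf 0x0)) (.node 3397 (.leaf 0x0) (.node 3398 (.leaf 0x0) (.leaf 0x0))))))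

def argWS_352 : Store := (.node 3380 argWS_350 argWS_351)

def argWS_353 : Store := (.node 3408 (.node 3403 (.node 3401 (.node 3400 (.leaf 0x0) (.leaf 0x0)) (.node 3402 (.leaf 0x0) (.leaf 0x0))) (.node 3405 (.node 3404 (.leaf 0x0) (.leaf 0x0)) (.node 3406 (.leaf 0x0) (.node 3407 (.leaf 0x0) (.leaf 0x0))))) (.node 3413 (.node 3410 (.node 3409 (.leaf 0x0) (.leaf 0x0)) (.node 3411 (.leaf 0x0) (.node 3412 (.leaf 0x0) (.leaf 0x0)))) (.node 3415 (.node 3414 (.leaf 0x0) (.leaf 0x0)) (.node 3416 (.leaf 0x0) (.node 3417 (.leaf 0x0) (.leaf 0x0))))))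

def argWS_354 : Store := (.node 3427 (.node 3422 (.node 3420 (.node 3419 (.leaf 0x0) (.leaf 0x0)) (.node 3421 (.leaf 0x0) (.leaf 0x0))) (.node 3424 (.node 3423 (.leaf 0x0) (.leaf 0x0)) (.node 3425 (.leaf 0x0) (.node 3426 (.leaf 0x0) (.leaf 0x0))))) (.node 3432 (.node 3429 (.node 3428 (.leaf 0x0) (.leaf 0x0)) (.node 3430 (.leaf 0x0) (.node 3431 (.leaf 0x0) (.leaf 0x0)))) (.node 3434 (.node 3433 (.leaf 0x0) (.leaf 0x0)) (.node 3435 (.leaf 0x0) (.node 3436 (.leaf 0x0) (.leaf 0x0))))))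

def argWS_355 : Store := (.node 3418 argWS_353 argWS_354)

def argWS_356 : Store := (.node 3399 argWS_352 argWS_355)

def argWS_357 : Store := (.node 3446 (.node 3441 (.node 3439 (.node 3438 (.leaf 0x0) (.leaf 0x0)) (.node 3440 (.leaf 0x0) (.leaf 0xc100b0f0d0e0006))) (.node 3443 (.node 3442 (.leaf 0xe110d0f0c0005) (.leaf 0x100b0f0c0004)) (.node 3444 (.leaf 0x100b0002) (.node 3445 (.leaf 0xd100d0003) (.leaf 0x100d0002))))) (.node 3451 (.node 3448 (.node 3447 (.leaf 0xd100f0c0004) (.leaf 0xd76000d75000d74000d73000d72000d71)) (.node 3449 (.leaf 0x100b0d0003) (.node 3450 (.leaf 0x0) (.leaf 0xa0f0d0e0004)))) (.node 3453 (.node 3452 (.leaf 0x0) (.leaf 0x0)) (.node 3454 (.leaf 0x0) (.node 3455 (.leaf 0x0) (.leaf 0x0))))))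

def argWS_358 : Store := (.node 3465 (.node 3460 (.node 3458 (.node 3457 (.leaf 0x0) (.leaf 0x0)) (.node 3459 (.leaf 0x0) (.leaf 0x0))) (.node 3462 (.node 3461 (.leaf 0x0) (.leaf 0x0)) (.node 3463 (.leaf 0x0) (.node 3464 (.leaf 0x0) (.leaf 0x0))))) (.node 3470 (.node 3467 (.node 3466 (.leaf 0x0) (.leaf 0x0)) (.node 3468 (.leaf 0x0) (.node 3469 (.leaf 0x0) (.leaf 0x0)))) (.node 3472 (.node 3471 (.leaf 0x0) (.leaf 0x100b0f0d0e0005)) (.node 3473 (.leaf 0x110b0d0e0004) (.node 3474 (.leaf 0xf100f0003) (.leaf 0x110f0d0e0004))))))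

def argWS_359 : Store := (.node 3456 argWS_357 argWS_358)

def argWS_360 : Store := (.node 3484 (.node 3479 (.node 3477 (.node 3476 (.leaf 0xc100d0f0c0005) (.leaf 0xa0c0002)) (.node 3478 (.leaf 0x4050002) (.leaf 0x0))) (.node 3481 (.node 3480 (.leaf 0xe110f0f0c0005) (.leaf 0xd97000d96000d93000d92000d91000d90)) (.node 3482 (.leaf 0xd100f0f0c0005) (.node 3483 (.leaf 0x0) (.leaf 0x0))))) (.node 3489 (.node 3486 (.node 3485 (.leaf 0x0) (.leaf 0x0)) (.node 3487 (.leaf 0x607090004) (.node 3488 (.leaf 0x0) (.leaf 0x0)))) (.node 3491 (.node 3490 (.leaf 0x0) (.leaf 0x0)) (.node 3492 (.leaf 0x0) (.node 3493 (.leaf 0x0) (.leaf 0x0))))))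

def argWS_361 : Store := (.node 3504 (.node 3499 (.node 3496 (.node 3495 (.leaf 0x0) (.leaf 0x0)) (.node 3497 (.leaf 0x0) (.node 3498 (.leaf 0x0) (.leaf 0x0)))) (.node 3501 (.node 3500 (.leaf 0x0) (.leaf 0x0)) (.node 3502 (.leaf 0x0) (.node 3503 (.leaf 0x0) (.leaf 0x0))))) (.node 3509 (.node 3506 (.node 3505 (.leaf 0x0) (.leaf 0x0)) (.node 3507 (.leaf 0xe110f0f0c0005) (.node 3508 (.leaf 0xd100f0f0c0005) (.leaf 0xb0d0f0c0004)))) (.node 3511 (.node 3510 (.leaf 0x0) (.leaf 0x701070705080006)) (.node 3512 (.leaf 0x400070705080006) (.node 3513 (.leaf 0x0) (.leaf 0xb0a0002))))))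

def argWS_362 : Store := (.node 3494 argWS_360 argWS_361)

def argWS_363 : Store := (.node 3475 argWS_359 argWS_362)

def argWS_364 : Store := (.node 3437 argWS_356 argWS_363)

def argWS_365 : Store := (.node 3523 (.node 3518 (.node 3516 (.node 3515 (.leaf 0x0) (.leaf 0xe100e0003)) (.node 3517 (.leaf 0x100b0f0f0c0005) (.leaf 0xf100e0003))) (.node 3520 (.node 3519 (.leaf 0xdbd000dbc000dbb000dba000db4000db3) (.leaf 0xe100f0003)) (.node 3521 (.leaf 0x0) (.node 3522 (.leaf 0x0) (.leaf 0x0))))) (.node 3528 (.node 3525 (.node 3524 (.leaf 0x0) (.leaf 0x40201050705080007)) (.node 3526 (.leaf 0x0) (.node 3527 (.leaf 0x0) (.leaf 0xf100b0c0004)))) (.node 3530 (.node 3529 (.leaf 0x0) (.leaf 0xb0f0002)) (.node 3531 (.leaf 0xe110f0003) (.node 3532 (.leaf 0x110b0c0f0c0005) (.leaf 0xdcb))))))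

def argWS_366 : Store := (.node 3542 (.node 3537 (.node 3535 (.node 3534 (.leaf 0xb0001) (.leaf 0x0)) (.node 3536 (.leaf 0x0) (.leaf 0x0))) (.node 3539 (.node 3538 (.leaf 0x0) (.leaf 0x0)) (.node 3540 (.leaf 0xc100c0f0c0005) (.node 3541 (.leaf 0xc0001) (.leaf 0xdd4))))) (.node 3547 (.node 3544 (.node 3543 (.leaf 0x100d0002) (.leaf 0x0)) (.node 3545 (.leaf 0x0) (.node 3546 (.leaf 0x0) (.leaf 0x0)))) (.node 3549 (.node 3548 (.leaf 0x0) (.leaf 0x0)) (.node 3550 (.leaf 0x0) (.node 3551 (.leaf 0x0) (.leaf 0x0))))))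

def argWS_367 : Store := (.node 3533 argWS_365 argWS_366)

def argWS_368 : Store := (.node 3561 (.node 3556 (.node 3554 (.node 3553 (.leaf 0x0) (.leaf 0x0)) (.node 3555 (.leaf 0x0) (.leaf 0x0))) (.node 3558 (.node 3557 (.leaf 0x0) (.leaf 0x0)) (.node 3559 (.leaf 0x0) (.node 3560 (.leaf 0x0) (.leaf 0x0))))) (.node 3566 (.node 3563 (.node 3562 (.leaf 0x0) (.leaf 0x0)) (.node 3564 (.leaf 0x0) (.node 3565 (.leaf 0x0) (.leaf 0x0)))) (.node 3568 (.node 3567 (.leaf 0x0) (.leaf 0x0)) (.node 3569 (.leaf 0x0) (.node 3570 (.leaf 0x0) (.leaf 0x0))))))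

def argWS_369 : Store := (.node 3580 (.node 3575 (.node 3573 (.node 3572 (.leaf 0xe100f0f0c0005) (.leaf 0xb0a0c0f0c0005)) (.node 3574 (.leaf 0x110e0002) (.leaf 0xd100d0d0e0005))) (.node 3577 (.node 3576 (.leaf 0xc100f0d0e0005) (.leaf 0xf100b0003)) (.node 3578 (.leaf 0x110b0c0003) (.node 3579 (.leaf 0xdf9000df8000df7000df6000df5000df4) (.leaf 0x110b0d0003))))) (.node 3585 (.node 3582 (.node 3581 (.leaf 0x0) (.leaf 0xe110c0003)) (.node 3583 (.leaf 0x0) (.node 3584 (.leaf 0x0) (.leaf 0x0)))) (.node 3587 (.node 3586 (.leaf 0x0) (.leaf 0x0)) (.node 3588 (.leaf 0x0) (.node 3589 (.leaf 0x0) (.leaf 0x0))))))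

def argWS_370 : Store := (.node 3571 argWS_368 argWS_369)

def argWS_371 : Store := (.node 3552 argWS_367 argWS_370)

def argWS_372 : Store := (.node 3599 (.node 3594 (.node 3592 (.node 3591 (.leaf 0x0) (.leaf 0x0)) (.node 3593 (.leaf 0x0) (.leaf 0x0))) (.node 3596 (.node 3595 (.leaf 0x0) (.leaf 0x0)) (.node 3597 (.leaf 0x0) (.node 3598 (.leaf 0x0) (.leaf 0x0))))) (.node 3604 (.node 3601 (.node 3600 (.leaf 0x0) (.leaf 0x0)) (.node 3602 (.leaf 0x0) (.node 3603 (.leaf 0x0) (.leaf 0x0)))) (.node 3606 (.node 3605 (.leaf 0x0) (.leaf 0x0)) (.node 3607 (.leaf 0x0) (.node 3608 (.leaf 0x0) (.leaf 0x0))))))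

def argWS_373 : Store := (.node 3618 (.node 3613 (.node 3611 (.node 3610 (.leaf 0x0) (.leaf 0x0)) (.node 3612 (.leaf 0x0) (.leaf 0x0))) (.node 3615 (.node 3614 (.leaf 0x0) (.leaf 0x0)) (.node 3616 (.leaf 0x0) (.node 3617 (.leaf 0x0) (.leaf 0x0))))) (.node 3623 (.node 3620 (.node 3619 (.leaf 0x0) (.leaf 0x0)) (.node 3621 (.leaf 0x0) (.node 3622 (.leaf 0x0) (.leaf 0x0)))) (.node 3625 (.node 3624 (.leaf 0x0) (.leaf 0x0)) (.node 3626 (.leaf 0x0) (.node 3627 (.leaf 0x0) (.leaf 0x0))))))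

def argWS_374 : Store := (.node 3609 argWS_372 argWS_373)

def argWS_375 : Store := (.node 3637 (.node 3632 (.node 3630 (.node 3629 (.leaf 0x0) (.leaf 0x0)) (.node 3631 (.leaf 0x0) (.leaf 0x0))) (.node 3634 (.node 3633 (.leaf 0x0) (.leaf 0x0)) (.node 3635 (.leaf 0x0) (.node 3636 (.leaf 0x0) (.leaf 0x0))))) (.node 3642 (.node 3639 (.node 3638 (.leaf 0x0) (.leaf 0x0)) (.node 3640 (.leaf 0x0) (.node 3641 (.leaf 0x0) (.leaf 0x0)))) (.node 3644 (.node 3643 (.leaf 0x0) (.leaf 0x0)) (.node 3645 (.leaf 0x0) (.node 3646 (.leaf 0x0) (.leaf 0x0))))))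

def argWS_376 : Store := (.node 3657 (.node 3652 (.node 3649 (.node 3648 (.leaf 0x0) (.leaf 0x0)) (.node 3650 (.leaf 0x0) (.node 3651 (.leaf 0x0) (.leaf 0x0)))) (.node 3654 (.node 3653 (.leaf 0x0) (.leaf 0x0)) (.node 3655 (.leaf 0x0) (.node 3656 (.leaf 0x0) (.leaf 0x0))))) (.node 3662 (.node 3659 (.node 3658 (.leaf 0x0) (.leaf 0x0)) (.node 3660 (.leaf 0x0) (.node 3661 (.leaf 0x0) (.leaf 0x0)))) (.node 3664 (.node 3663 (.leaf 0x0) (.leaf 0x0)) (.node 3665 (.leaf 0x0) (.node 3666 (.leaf 0x0) (.leaf 0x0))))))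

def argWS_377 : Store := (.node 3647 argWS_375 argWS_376)

def argWS_378 : Store := (.node 3628 argWS_374 argWS_377)

def argWS_379 : Store := (.node 3590 argWS_371 argWS_378)

def argWS_380 : Store := (.node 3514 argWS_364 argWS_379)

def argWS_381 : Store := (.node 3361 argWS_349 argWS_380)

def argWS_382 : Store := (.node 3056 argWS_318 argWS_381)

def argWS_383 : Store := (.node 3676 (.node 3671 (.node 3669 (.node 3668 (.leaf 0x0) (.leaf 0x0)) (.node 3670 (.leaf 0x0) (.leaf 0x0))) (.node 3673 (.node 3672 (.leaf 0x0) (.leaf 0x0)) (.node 3674 (.leaf 0x0) (.node 3675 (.leaf 0x0) (.leaf 0x0))))) (.node 3681 (.node 3678 (.node 3677 (.leaf 0x0) (.leaf 0x0)) (.node 3679 (.leaf 0x0) (.node 3680 (.leaf 0x0) (.leaf 0x0)))) (.node 3683 (.node 3682 (.leaf 0x0) (.leaf 0x0)) (.node 3684 (.leaf 0x0) (.node 3685 (.leaf 0x0) (.leaf 0x0))))))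

def argWS_384 : Store := (.node 3695 (.node 3690 (.node 3688 (.node 3687 (.leaf 0x0) (.leaf 0x0)) (.node 3689 (.leaf 0x0) (.leaf 0x0))) (.node 3692 (.node 3691 (.leaf 0x0) (.leaf 0x0)) (.node 3693 (.leaf 0x0) (.node 3694 (.leaf 0x0) (.leaf 0x0))))) (.node 3700 (.node 3697 (.node 3696 (.leaf 0x0) (.leaf 0x0)) (.node 3698 (.leaf 0x0) (.node 3699 (.leaf 0x0) (.leaf 0x0)))) (.node 3702 (.node 3701 (.leaf 0x0) (.leaf 0x0)) (.node 3703 (.leaf 0x0) (.node 3704 (.leaf 0x0) (.leaf 0x0))))))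

def argWS_385 : Store := (.node 3686 argWS_383 argWS_384)

def argWS_386 : Store := (.node 3714 (.node 3709 (.node 3707 (.node 3706 (.leaf 0x0) (.leaf 0x0)) (.node 3708 (.leaf 0x0) (.leaf 0x0))) (.node 3711 (.node 3710 (.leaf 0x0) (.leaf 0x0)) (.node 3712 (.leaf 0x0) (.node 3713 (.leaf 0x0) (.leaf 0x0))))) (.node 3719 (.node 3716 (.node 3715 (.leaf 0x0) (.leaf 0x0)) (.node 3717 (.leaf 0x0) (.node 3718 (.leaf 0x0) (.leaf 0x0)))) (.node 3721 (.node 3720 (.leaf 0x0) (.leaf 0x0)) (.node 3722 (.leaf 0x0) (.node 3723 (.leaf 0x0) (.leaf 0xd100d0f0c0005))))))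

def argWS_387 : Store := (.node 3733 (.node 3728 (.node 3726 (.node 3725 (.leaf 0xa0f0d0e0004) (.leaf 0x20107090004)) (.node 3727 (.leaf 0x0) (.leaf 0xb0a0f0f0c0005))) (.node 3730 (.node 3729 (.leaf 0xd100f0f0c0005) (.leaf 0x0)) (.node 3731 (.leaf 0x607060705080006) (.node 3732 (.leaf 0x8050002) (.leaf 0x0))))) (.node 3738 (.node 3735 (.node 3734 (.leaf 0xd0f0c0003) (.leaf 0x0)) (.node 3736 (.leaf 0x110b0d0e0004) (.node 3737 (.leaf 0x203050003) (.leaf 0x0)))) (.node 3740 (.node 3739 (.leaf 0xa0f0002) (.leaf 0xe9a000e99000e96000e90000e8f000e8e)) (.node 3741 (.leaf 0xd100d0003) (.node 3742 (.leaf 0x0) (.leaf 0xb0a0d0e0004))))))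

def argWS_388 : Store := (.node 3724 argWS_386 argWS_387)

def argWS_389 : Store := (.node 3705 argWS_385 argWS_388)

def argWS_390 : Store := (.node 3752 (.node 3747 (.node 3745 (.node 3744 (.leaf 0x0) (.leaf 0x0)) (.node 3746 (.leaf 0x5070002) (.leaf 0x0))) (.node 3749 (.node 3748 (.leaf 0x20408060004) (.leaf 0x0)) (.node 3750 (.leaf 0x0) (.node 3751 (.leaf 0x20107060705080007) (.leaf 0x1080002))))) (.node 3757 (.node 3754 (.node 3753 (.leaf 0x0) (.leaf 0xb0d0f0c0004)) (.node 3755 (.leaf 0x0) (.node 3756 (.leaf 0x0) (.leaf 0x0)))) (.node 3759 (.node 3758 (.leaf 0x0) (.leaf 0x0)) (.node 3760 (.leaf 0x20407090004) (.node 3761 (.leaf 0x10001) (.leaf 0x0))))))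

def argWS_391 : Store := (.node 3771 (.node 3766 (.node 3764 (.node 3763 (.leaf 0x0) (.leaf 0x110e0002)) (.node 3765 (.leaf 0x0) (.leaf 0x0))) (.node 3768 (.node 3767 (.leaf 0x0) (.leaf 0x0)) (.node 3769 (.leaf 0x0) (.node 3770 (.leaf 0x0) (.leaf 0x0))))) (.node 3776 (.node 3773 (.node 3772 (.leaf 0x0) (.leaf 0x0)) (.node 3774 (.leaf 0x0) (.node 3775 (.leaf 0x0) (.leaf 0x0)))) (.node 3778 (.node 3777 (.leaf 0x0) (.leaf 0x0)) (.node 3779 (.leaf 0x0) (.node 3780 (.leaf 0x0) (.leaf 0x0))))))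

def argWS_392 : Store := (.node 3762 argWS_390 argWS_391)

def argWS_393 : Store := (.node 3790 (.node 3785 (.node 3783 (.node 3782 (.leaf 0x0) (.leaf 0x0)) (.node 3784 (.leaf 0x0) (.leaf 0x0))) (.node 3787 (.node 3786 (.leaf 0x0) (.leaf 0x0)) (.node 3788 (.leaf 0x0) (.node 3789 (.leaf 0x0) (.leaf 0x0))))) (.node 3795 (.node 3792 (.node 3791 (.leaf 0x0) (.leaf 0x0)) (.node 3793 (.leaf 0x0) (.node 3794 (.leaf 0x0) (.leaf 0x0)))) (.node 3797 (.node 3796 (.leaf 0x0) (.leaf 0x0)) (.node 3798 (.leaf 0x0) (.node 3799 (.leaf 0x0) (.leaf 0x0))))))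

def argWS_394 : Store := (.node 3809 (.node 3804 (.node 3802 (.node 3801 (.leaf 0x0) (.leaf 0x0)) (.node 3803 (.leaf 0x0) (.leaf 0x0))) (.node 3806 (.node 3805 (.leaf 0x0) (.leaf 0x0)) (.node 3807 (.leaf 0x0) (.node 3808 (.leaf 0x0) (.leaf 0x0))))) (.node 3814 (.node 3811 (.node 3810 (.leaf 0x0) (.leaf 0x0)) (.node 3812 (.leaf 0x0) (.node 3813 (.leaf 0x0) (.leaf 0x0)))) (.node 3816 (.node 3815 (.leaf 0x0) (.leaf 0x0)) (.node 3817 (.leaf 0x0) (.node 3818 (.leaf 0x0) (.leaf 0x0))))))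

def argWS_395 : Store := (.node 3800 argWS_393 argWS_394)

def argWS_396 : Store := (.node 3781 argWS_392 argWS_395)

def argWS_397 : Store := (.node 3743 argWS_389 argWS_396)

def argWS_398 : Store := (.node 3828 (.node 3823 (.node 3821 (.node 3820 (.leaf 0x0) (.leaf 0x0)) (.node 3822 (.leaf 0x0) (.leaf 0x0))) (.node 3825 (.node 3824 (.leaf 0x0) (.leaf 0x0)) (.node 3826 (.leaf 0x0) (.node 3827 (.leaf 0x0) (.leaf 0x0))))) (.node 3833 (.node 3830 (.node 3829 (.leaf 0x0) (.leaf 0x0)) (.node 3831 (.leaf 0x0) (.node 3832 (.leaf 0x0) (.leaf 0x0)))) (.node 3835 (.node 3834 (.leaf 0x0) (.leaf 0x0)) (.node 3836 (.leaf 0x0) (.node 3837 (.leaf 0x0) (.leaf 0x0))))))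

def argWS_399 : Store := (.node 3847 (.node 3842 (.node 3840 (.node 3839 (.leaf 0x0) (.leaf 0x0)) (.node 3841 (.leaf 0x0) (.leaf 0x0))) (.node 3844 (.node 3843 (.leaf 0x0) (.leaf 0x0)) (.node 3845 (.leaf 0x0) (.node 3846 (.leaf 0x0) (.leaf 0x0))))) (.node 3852 (.node 3849 (.node 3848 (.leaf 0x0) (.leaf 0x0)) (.node 3850 (.leaf 0x0) (.node 3851 (.leaf 0x0) (.leaf 0x0)))) (.node 3854 (.node 3853 (.leaf 0x0) (.leaf 0x0)) (.node 3855 (.leaf 0x0) (.node 3856 (.leaf 0x0) (.leaf 0x0))))))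

def argWS_400 : Store := (.node 3838 argWS_398 argWS_399)

def argWS_401 : Store := (.node 3866 (.node 3861 (.node 3859 (.node 3858 (.leaf 0x0) (.leaf 0x0)) (.node 3860 (.leaf 0x0) (.leaf 0x0))) (.node 3863 (.node 3862 (.leaf 0x0) (.leaf 0x0)) (.node 3864 (.leaf 0x0) (.node 3865 (.leaf 0x0) (.leaf 0x0))))) (.node 3871 (.node 3868 (.node 3867 (.leaf 0x0) (.leaf 0x0)) (.node 3869 (.leaf 0x0) (.node 3870 (.leaf 0x0) (.leaf 0x0)))) (.node 3873 (.node 3872 (.leaf 0x0) (.leaf 0x0)) (.node 3874 (.leaf 0x0) (.node 3875 (.leaf 0x0) (.leaf 0x0))))))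

def argWS_402 : Store := (.node 3885 (.node 3880 (.node 3878 (.node 3877 (.leaf 0x0) (.leaf 0x0)) (.node 3879 (.leaf 0x0) (.leaf 0x0))) (.node 3882 (.node 3881 (.leaf 0x0) (.leaf 0x0)) (.node 3883 (.leaf 0x0) (.node 3884 (.leaf 0x0) (.leaf 0x0))))) (.node 3890 (.node 3887 (.node 3886 (.leaf 0x0) (.leaf 0x0)) (.node 3888 (.leaf 0x0) (.node 3889 (.leaf 0x0) (.leaf 0x0)))) (.node 3892 (.node 3891 (.leaf 0x0) (.leaf 0x0)) (.node 3893 (.leaf 0x0) (.node 3894 (.leaf 0x0) (.leaf 0x0))))))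

def argWS_403 : Store := (.node 3876 argWS_401 argWS_402)

def argWS_404 : Store := (.node 3857 argWS_400 argWS_403)

def argWS_405 : Store := (.node 3904 (.node 3899 (.node 3897 (.node 3896 (.leaf 0x0) (.leaf 0x0)) (.node 3898 (.leaf 0x0) (.leaf 0x0))) (.node 3901 (.node 3900 (.leaf 0x0) (.leaf 0x0)) (.node 3902 (.leaf 0x0) (.node 3903 (.leaf 0x0) (.leaf 0x0))))) (.node 3909 (.node 3906 (.node 3905 (.leaf 0x0) (.leaf 0x0)) (.node 3907 (.leaf 0x0) (.node 3908 (.leaf 0x0) (.leaf 0x0)))) (.node 3911 (.node 3910 (.leaf 0x0) (.leaf 0x0)) (.node 3912 (.leaf 0x0) (.node 3913 (.leaf 0x0) (.leaf 0x0))))))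

def argWS_406 : Store := (.node 3923 (.node 3918 (.node 3916 (.node 3915 (.leaf 0x0) (.leaf 0x0)) (.node 3917 (.leaf 0x100b0f0d0e0005) (.leaf 0xa0f0f0c0004))) (.node 3920 (.node 3919 (.leaf 0x0) (.leaf 0x20305070004)) (.node 3921 (.leaf 0x204010809080006) (.node 3922 (.leaf 0x0) (.leaf 0xd100d0003))))) (.node 3928 (.node 3925 (.node 3924 (.leaf 0x0) (.leaf 0x10607090004)) (.node 3926 (.leaf 0x0) (.node 3927 (.leaf 0xd100d0f0c0005) (.leaf 0xf0d0e0003)))) (.node 3930 (.node 3929 (.leaf 0x4020107090005) (.leaf 0x0)) (.node 3931 (.leaf 0xf100f0c0004) (.node 3932 (.leaf 0x100f0d0e0004) (.leaf 0x7010208060005))))))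

def argWS_407 : Store := (.node 3914 argWS_405 argWS_406)

def argWS_408 : Store := (.node 3942 (.node 3937 (.node 3935 (.node 3934 (.leaf 0x0) (.leaf 0xf5d000f5a000f59000f56000f55000f4d)) (.node 3936 (.leaf 0xb0a0e0003) (.leaf 0x0))) (.node 3939 (.node 3938 (.leaf 0x0) (.leaf 0x20005070705080007)) (.node 3940 (.leaf 0xd110d0f0c0005) (.node 3941 (.leaf 0x0) (.leaf 0x0))))) (.node 3947 (.node 3944 (.node 3943 (.leaf 0x0) (.leaf 0x0)) (.node 3945 (.leaf 0x7010006070005) (.node 3946 (.leaf 0x0) (.leaf 0x70100070705080007)))) (.node 3949 (.node 3948 (.leaf 0x108060003) (.leaf 0x0)) (.node 3950 (.leaf 0xa0d0e0003) (.node 3951 (.leaf 0x0) (.leaf 0x0))))))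

def argWS_409 : Store := (.node 3962 (.node 3957 (.node 3954 (.node 3953 (.leaf 0x0) (.leaf 0x0)) (.node 3955 (.leaf 0x2030507050005) (.node 3956 (.leaf 0x0) (.leaf 0x0)))) (.node 3959 (.node 3958 (.leaf 0xb0f0c0003) (.leaf 0x10001)) (.node 3960 (.leaf 0x0) (.node 3961 (.leaf 0x0) (.leaf 0xd100c0f0c0005))))) (.node 3967 (.node 3964 (.node 3963 (.leaf 0x0) (.leaf 0x70001)) (.node 3965 (.leaf 0x0) (.node 3966 (.leaf 0x0) (.leaf 0xc100d0003)))) (.node 3969 (.node 3968 (.leaf 0x108050003) (.leaf 0x0)) (.node 3970 (.leaf 0x0) (.node 3971 (.leaf 0xd110d0e0004) (.leaf 0x0))))))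

def argWS_410 : Store := (.node 3952 argWS_408 argWS_409)

def argWS_411 : Store := (.node 3933 argWS_407 argWS_410)

def argWS_412 : Store := (.node 3895 argWS_404 argWS_411)

def argWS_413 : Store := (.node 3819 argWS_397 argWS_412)

def argWS_414 : Store := (.node 3981 (.node 3976 (.node 3974 (.node 3973 (.leaf 0x0) (.leaf 0x0)) (.node 3975 (.leaf 0x0) (.leaf 0x0))) (.node 3978 (.node 3977 (.leaf 0x3010002) (.leaf 0x0)) (.node 3979 (.leaf 0x0) (.node 3980 (.leaf 0x0) (.leaf 0x0))))) (.node 3986 (.node 3983 (.node 3982 (.leaf 0x70108050004) (.leaf 0x0)) (.node 3984 (.leaf 0x0) (.node 3985 (.leaf 0x0) (.leaf 0x0)))) (.node 3988 (.node 3987 (.leaf 0x7020108060607090008) (.leaf 0x0)) (.node 3989 (.leaf 0x0) (.node 3990 (.leaf 0x0) (.leaf 0x70108060004))))))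

def argWS_415 : Store := (.node 4000 (.node 3995 (.node 3993 (.node 3992 (.leaf 0x0) (.leaf 0x0)) (.node 3994 (.leaf 0x110b0f0003) (.leaf 0x1030002))) (.node 3997 (.node 3996 (.leaf 0x0) (.leaf 0x0)) (.node 3998 (.leaf 0x0) (.node 3999 (.leaf 0x0) (.leaf 0xb0a0d0d0e0005))))) (.node 4005 (.node 4002 (.node 4001 (.leaf 0x1080002) (.leaf 0x0)) (.node 4003 (.leaf 0x0) (.node 4004 (.leaf 0x100b0d0e0004) (.leaf 0x0)))) (.node 4007 (.node 4006 (.leaf 0x8060002) (.leaf 0x0)) (.node 4008 (.leaf 0x0) (.node 4009 (.leaf 0xf100b0d0004) (.leaf 0x108060003))))))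

def argWS_416 : Store := (.node 3991 argWS_414 argWS_415)

def argWS_417 : Store := (.node 4019 (.node 4014 (.node 4012 (.node 4011 (.leaf 0x0) (.leaf 0x0)) (.node 4013 (.leaf 0xb0d0d0e0004) (.leaf 0x108060003))) (.node 4016 (.node 4015 (.leaf 0x0) (.leaf 0x0)) (.node 4017 (.leaf 0x100e0002) (.node 4018 (.leaf 0x108050003) (.leaf 0x0))))) (.node 4024 (.node 4021 (.node 4020 (.leaf 0x0) (.leaf 0xb0a0f0f0c0005)) (.node 4022 (.leaf 0x0) (.node 4023 (.leaf 0x0) (.leaf 0x0)))) (.node 4026 (.node 4025 (.leaf 0x0) (.leaf 0x0)) (.node 4027 (.leaf 0x301060607090006) (.node 4028 (.leaf 0x0) (.leaf 0x0))))))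

def argWS_418 : Store := (.node 4038 (.node 4033 (.node 4031 (.node 4030 (.leaf 0x0) (.leaf 0x0)) (.node 4032 (.leaf 0x40905080004) (.leaf 0x0))) (.node 4035 (.node 4034 (.leaf 0x0) (.leaf 0x0)) (.node 4036 (.leaf 0x0) (.node 4037 (.leaf 0x7020108050705080008) (.leaf 0x0))))) (.node 4043 (.node 4040 (.node 4039 (.leaf 0x0) (.leaf 0x0)) (.node 4041 (.leaf 0x0) (.node 4042 (.leaf 0x0) (.leaf 0x0)))) (.node 4045 (.node 4044 (.leaf 0x100b0d0e0004) (.leaf 0x301060607090006)) (.node 4046 (.leaf 0x0) (.node 4047 (.leaf 0x0) (.leaf 0x8060002))))))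

def argWS_419 : Store := (.node 4029 argWS_417 argWS_418)

def argWS_420 : Store := (.node 4010 argWS_416 argWS_419)

def argWS_421 : Store := (.node 4057 (.node 4052 (.node 4050 (.node 4049 (.leaf 0x0) (.leaf 0x0)) (.node 4051 (.leaf 0xf100d0d0e0005) (.leaf 0x1080002))) (.node 4054 (.node 4053 (.leaf 0x402060705080006) (.leaf 0x0)) (.node 4055 (.leaf 0x0) (.node 4056 (.leaf 0x0) (.leaf 0xd110f0d0e0005))))) (.node 4062 (.node 4059 (.node 4058 (.leaf 0x0) (.leaf 0x0)) (.node 4060 (.leaf 0x0) (.node 4061 (.leaf 0x0) (.leaf 0x0)))) (.node 4064 (.node 4063 (.leaf 0x701020507060607090009) (.leaf 0x40108060004)) (.node 4065 (.leaf 0x0) (.node 4066 (.leaf 0xb0a0d0003) (.leaf 0x0))))))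

def argWS_422 : Store := (.node 4076 (.node 4071 (.node 4069 (.node 4068 (.leaf 0x0) (.leaf 0x100d0e0003)) (.node 4070 (.leaf 0x0) (.leaf 0x80001))) (.node 4073 (.node 4072 (.leaf 0x0) (.leaf 0x0)) (.node 4074 (.leaf 0xf100002) (.node 4075 (.leaf 0x0) (.leaf 0x1080002))))) (.node 4081 (.node 4078 (.node 4077 (.leaf 0x0) (.leaf 0x0)) (.node 4079 (.leaf 0xc100f0f0c0005) (.node 4080 (.leaf 0x0) (.leaf 0x0)))) (.node 4083 (.node 4082 (.leaf 0x0) (.leaf 0x0)) (.node 4084 (.leaf 0x0) (.node 4085 (.leaf 0x0) (.leaf 0x0))))))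

def argWS_423 : Store := (.node 4067 argWS_421 argWS_422)

def argWS_424 : Store := (.node 4095 (.node 4090 (.node 4088 (.node 4087 (.leaf 0x0) (.leaf 0x9080607090006)) (.node 4089 (.leaf 0x0) (.leaf 0x0))) (.node 4092 (.node 4091 (.leaf 0x0) (.leaf 0x0)) (.node 4093 (.leaf 0x0) (.node 4094 (.leaf 0x40009080607090007) (.leaf 0xf100b0d0f0c0006))))) (.node 4100 (.node 4097 (.node 4096 (.leaf 0x400060705080006) (.leaf 0x0)) (.node 4098 (.leaf 0x0) (.node 4099 (.leaf 0xf100002) (.leaf 0x80001)))) (.node 4102 (.node 4101 (.leaf 0x0) (.leaf 0x0)) (.node 4103 (.leaf 0x100b0d0d0e0005) (.node 4104 (.leaf 0x0) (.leaf 0x108050003))))))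

def argWS_425 : Store := (.node 4115 (.node 4110 (.node 4107 (.node 4106 (.leaf 0x0) (.leaf 0x0)) (.node 4108 (.leaf 0x0) (.node 4109 (.leaf 0xb0d0f0c0004) (.leaf 0x0)))) (.node 4112 (.node 4111 (.leaf 0x1080002) (.leaf 0x0)) (.node 4113 (.leaf 0x0) (.node 4114 (.leaf 0xa0f0d0e0004) (.leaf 0x0))))) (.node 4120 (.node 4117 (.node 4116 (.leaf 0x0) (.leaf 0x0)) (.node 4118 (.leaf 0x0) (.node 4119 (.leaf 0x40201060607090007) (.leaf 0x0)))) (.node 4122 (.node 4121 (.leaf 0x0) (.leaf 0x0)) (.node 4123 (.leaf 0x0) (.node 4124 (.leaf 0x40207060004) (.leaf 0x0))))))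

def argWS_426 : Store := (.node 4105 argWS_424 argWS_425)

def argWS_427 : Store := (.node 4086 argWS_423 argWS_426)

def argWS_428 : Store := (.node 4048 argWS_420 argWS_427)

def argWS_429 : Store := (.node 4134 (.node 4129 (.node 4127 (.node 4126 (.leaf 0x102060607090006) (.leaf 0x0)) (.node 4128 (.leaf 0x0) (.leaf 0x0))) (.node 4131 (.node 4130 (.leaf 0x4030105080005) (.leaf 0x0)) (.node 4132 (.leaf 0x0) (.node 4133 (.leaf 0x10001) (.leaf 0x0))))) (.node 4139 (.node 4136 (.node 4135 (.leaf 0x0) (.leaf 0x0)) (.node 4137 (.leaf 0x80905080005) (.node 4138 (.leaf 0x4020107060005) (.leaf 0x0)))) (.node 4141 (.node 4140 (.leaf 0x110b0d0f0c0005) (.leaf 0x0)) (.node 4142 (.leaf 0x0) (.node 4143 (.leaf 0x0) (.leaf 0x0))))))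

def argWS_430 : Store := (.node 4153 (.node 4148 (.node 4146 (.node 4145 (.leaf 0x10001) (.leaf 0x8060002)) (.node 4147 (.leaf 0x0) (.leaf 0x0))) (.node 4150 (.node 4149 (.leaf 0x110b0002) (.leaf 0x0)) (.node 4151 (.leaf 0x0) (.node 4152 (.leaf 0x0) (.leaf 0x10307060607090007))))) (.node 4158 (.node 4155 (.node 4154 (.leaf 0x80001) (.leaf 0x0)) (.node 4156 (.leaf 0x0) (.node 4157 (.leaf 0xf100b0d0004) (.leaf 0x0)))) (.node 4160 (.node 4159 (.leaf 0x0) (.leaf 0x0)) (.node 4161 (.leaf 0x0) (.node 4162 (.leaf 0x40905080004) (.leaf 0x0))))))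

def argWS_431 : Store := (.node 4144 argWS_429 argWS_430)

def argWS_432 : Store := (.node 4172 (.node 4167 (.node 4165 (.node 4164 (.leaf 0x108050003) (.leaf 0x0)) (.node 4166 (.leaf 0x0) (.leaf 0xc100b0f0f0c0006))) (.node 4169 (.node 4168 (.leaf 0x8050002) (.leaf 0x0)) (.node 4170 (.leaf 0x0) (.node 4171 (.leaf 0xc100b0f0f0c0006) (.leaf 0x70001))))) (.node 4177 (.node 4174 (.node 4173 (.leaf 0x0) (.leaf 0x0)) (.node 4175 (.leaf 0xd110d0003) (.node 4176 (.leaf 0x0) (.leaf 0x1070002)))) (.node 4179 (.node 4178 (.leaf 0x0) (.leaf 0x0)) (.node 4180 (.leaf 0x110c0002) (.node 4181 (.leaf 0x0) (.leaf 0xb0a0d0f0c0005))))))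

def argWS_433 : Store := (.node 4191 (.node 4186 (.node 4184 (.node 4183 (.leaf 0x0) (.leaf 0x0)) (.node 4185 (.leaf 0x0) (.leaf 0x0))) (.node 4188 (.node 4187 (.leaf 0x40209080004) (.leaf 0x0)) (.node 4189 (.leaf 0x0) (.node 4190 (.leaf 0x0) (.leaf 0x0))))) (.node 4196 (.node 4193 (.node 4192 (.leaf 0x4030105070905080008) (.leaf 0x0)) (.node 4194 (.leaf 0x0) (.node 4195 (.leaf 0x0) (.leaf 0x0)))) (.node 4198 (.node 4197 (.leaf 0x40201080607090007) (.leaf 0x0)) (.node 4199 (.leaf 0x0) (.node 4200 (.leaf 0x60705080005) (.leaf 0x0))))))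

def argWS_434 : Store := (.node 4182 argWS_432 argWS_433)

def argWS_435 : Store := (.node 4163 argWS_431 argWS_434)

def argWS_436 : Store := (.node 4210 (.node 4205 (.node 4203 (.node 4202 (.leaf 0x0) (.leaf 0x0)) (.node 4204 (.leaf 0x0) (.leaf 0x0))) (.node 4207 (.node 4206 (.leaf 0x70100060004) (.leaf 0x30005080004)) (.node 4208 (.leaf 0x0) (.node 4209 (.leaf 0x0) (.leaf 0xd0001))))) (.node 4215 (.node 4212 (.node 4211 (.leaf 0x7010809080005) (.leaf 0x0)) (.node 4213 (.leaf 0x0) (.node 4214 (.leaf 0xf100002) (.leaf 0x0)))) (.node 4217 (.node 4216 (.leaf 0x80001) (.leaf 0x0)) (.node 4218 (.leaf 0x0) (.node 4219 (.leaf 0x0) (.leaf 0xd110d0d0e0005))))))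

def argWS_437 : Store := (.node 4229 (.node 4224 (.node 4222 (.node 4221 (.leaf 0x0) (.leaf 0x1080002)) (.node 4223 (.leaf 0x0) (.leaf 0x0))) (.node 4226 (.node 4225 (.leaf 0xd110c0003) (.leaf 0x401070705080006)) (.node 4227 (.leaf 0x0) (.node 4228 (.leaf 0x0) (.leaf 0x0))))) (.node 4234 (.node 4231 (.node 4230 (.leaf 0xf100f0f0c0005) (.leaf 0x108050003)) (.node 4232 (.leaf 0x0) (.node 4233 (.leaf 0x0) (.leaf 0x100d0e0003)))) (.node 4236 (.node 4235 (.leaf 0x0) (.leaf 0x0)) (.node 4237 (.leaf 0x0) (.node 4238 (.leaf 0x0) (.leaf 0x0))))))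

def argWS_438 : Store := (.node 4220 argWS_436 argWS_437)

def argWS_439 : Store := (.node 4248 (.node 4243 (.node 4241 (.node 4240 (.leaf 0x40301060004) (.leaf 0x0)) (.node 4242 (.leaf 0x0) (.leaf 0x0))) (.node 4245 (.node 4244 (.leaf 0x0) (.leaf 0x300060707090006)) (.node 4246 (.leaf 0x0) (.node 4247 (.leaf 0x0) (.leaf 0x0))))) (.node 4253 (.node 4250 (.node 4249 (.leaf 0x0) (.leaf 0x0)) (.node 4251 (.leaf 0xa0d0d0e0004) (.node 4252 (.leaf 0x70001) (.leaf 0x0)))) (.node 4255 (.node 4254 (.leaf 0x0) (.leaf 0x0)) (.node 4256 (.leaf 0xa0f0c0003) (.node 4257 (.leaf 0x0) (.leaf 0x8050002))))))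

def argWS_440 : Store := (.node 4268 (.node 4263 (.node 4260 (.node 4259 (.leaf 0x0) (.leaf 0x0)) (.node 4261 (.leaf 0xa0d0d0e0004) (.node 4262 (.leaf 0x0) (.leaf 0x0)))) (.node 4265 (.node 4264 (.leaf 0x0) (.leaf 0x0)) (.node 4266 (.leaf 0x0) (.node 4267 (.leaf 0x302050705080006) (.leaf 0x0))))) (.node 4273 (.node 4270 (.node 4269 (.leaf 0x0) (.leaf 0x0)) (.node 4271 (.leaf 0x0) (.node 4272 (.leaf 0x2070905080005) (.leaf 0x0)))) (.node 4275 (.node 4274 (.leaf 0x0) (.leaf 0x0)) (.node 4276 (.leaf 0x607060607090007) (.node 4277 (.leaf 0x0) (.leaf 0x203070905080006))))))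

def argWS_441 : Store := (.node 4258 argWS_439 argWS_440)

def argWS_442 : Store := (.node 4239 argWS_438 argWS_441)

def argWS_443 : Store := (.node 4201 argWS_435 argWS_442)

def argWS_444 : Store := (.node 4125 argWS_428 argWS_443)

def argWS_445 : Store := (.node 3972 argWS_413 argWS_444)

def argWS_446 : Store := (.node 4287 (.node 4282 (.node 4280 (.node 4279 (.leaf 0x108060003) (.leaf 0x0)) (.node 4281 (.leaf 0x0) (.leaf 0x0))) (.node 4284 (.node 4283 (.leaf 0xc100b0f0f0c0006) (.leaf 0x0)) (.node 4285 (.leaf 0x30201070905080007) (.node 4286 (.leaf 0x0) (.leaf 0x1000002))))) (.node 4292 (.node 4289 (.node 4288 (.leaf 0x0) (.leaf 0x20301070607090007)) (.node 4290 (.leaf 0x0) (.node 4291 (.leaf 0x0) (.leaf 0xb0a0f0c0004)))) (.node 4294 (.node 4293 (.leaf 0x0) (.leaf 0xe110002)) (.node 4295 (.leaf 0x0) (.node 4296 (.leaf 0x0) (.leaf 0x0))))))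

def argWS_447 : Store := (.node 4306 (.node 4301 (.node 4299 (.node 4298 (.leaf 0x0) (.leaf 0x203060607090006)) (.node 4300 (.leaf 0x108050003) (.leaf 0x0))) (.node 4303 (.node 4302 (.leaf 0x0) (.leaf 0xa0f0c0003)) (.node 4304 (.leaf 0x80001) (.node 4305 (.leaf 0x0) (.leaf 0x0))))) (.node 4311 (.node 4308 (.node 4307 (.leaf 0xb0c0002) (.leaf 0x1080002)) (.node 4309 (.leaf 0x0) (.node 4310 (.leaf 0x0) (.leaf 0xf100b0f0f0c0006)))) (.node 4313 (.node 4312 (.leaf 0x8060002) (.leaf 0x0)) (.node 4314 (.leaf 0x0) (.node 4315 (.leaf 0x110b0d0e0004) (.leaf 0x108060003))))))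

def argWS_448 : Store := (.node 4297 argWS_446 argWS_447)

def argWS_449 : Store := (.node 4325 (.node 4320 (.node 4318 (.node 4317 (.leaf 0x0) (.leaf 0x0)) (.node 4319 (.leaf 0xb0a0d0e0004) (.leaf 0x7010905080005))) (.node 4322 (.node 4321 (.leaf 0x0) (.leaf 0x0)) (.node 4323 (.leaf 0x0) (.node 4324 (.leaf 0x302050705080006) (.leaf 0x0))))) (.node 4330 (.node 4327 (.node 4326 (.leaf 0x0) (.leaf 0xe110d0e0004)) (.node 4328 (.leaf 0x0) (.node 4329 (.leaf 0x8050705080005) (.leaf 0x0)))) (.node 4332 (.node 4331 (.leaf 0x0) (.leaf 0x1000002)) (.node 4333 (.leaf 0x1070002) (.node 4334 (.leaf 0x0) (.leaf 0xe100f0003))))))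

def argWS_450 : Store := (.node 4344 (.node 4339 (.node 4337 (.node 4336 (.leaf 0x0) (.leaf 0x20109080004)) (.node 4338 (.leaf 0x0) (.leaf 0x0))) (.node 4341 (.node 4340 (.leaf 0x0) (.leaf 0x0)) (.node 4342 (.leaf 0x0) (.node 4343 (.leaf 0x2050709080607090008) (.leaf 0x30201070905080007))))) (.node 4349 (.node 4346 (.node 4345 (.leaf 0x0) (.leaf 0x1000002)) (.node 4347 (.leaf 0x0) (.node 4348 (.leaf 0x7010905080005) (.leaf 0x0)))) (.node 4351 (.node 4350 (.leaf 0x0) (.leaf 0x30201070905080007)) (.node 4352 (.leaf 0x8060002) (.node 4353 (.leaf 0x0) (.leaf 0xe100002))))))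

def argWS_451 : Store := (.node 4335 argWS_449 argWS_450)

def argWS_452 : Store := (.node 4316 argWS_448 argWS_451)

def argWS_453 : Store := (.node 4363 (.node 4358 (.node 4356 (.node 4355 (.leaf 0x0) (.leaf 0x203060607090006)) (.node 4357 (.leaf 0x408060003) (.leaf 0x0))) (.node 4360 (.node 4359 (.leaf 0x0) (.leaf 0x0)) (.node 4361 (.leaf 0x0) (.node 4362 (.leaf 0x0) (.leaf 0x302050705080006))))) (.node 4368 (.node 4365 (.node 4364 (.leaf 0x0) (.leaf 0x0)) (.node 4366 (.leaf 0x30201070905080007) (.node 4367 (.leaf 0x80001) (.leaf 0x0)))) (.node 4370 (.node 4369 (.leaf 0xe100c0003) (.leaf 0x0)) (.node 4371 (.leaf 0x0) (.node 4372 (.leaf 0x0) (.leaf 0x0))))))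

def argWS_454 : Store := (.node 4382 (.node 4377 (.node 4375 (.node 4374 (.leaf 0x20108050705080007) (.leaf 0x60705080004)) (.node 4376 (.leaf 0x201050707090006) (.leaf 0x0))) (.node 4379 (.node 4378 (.leaf 0x0) (.leaf 0x0)) (.node 4380 (.leaf 0xe110f0c0004) (.node 4381 (.leaf 0x0) (.leaf 0x0))))) (.node 4387 (.node 4384 (.node 4383 (.leaf 0x0) (.leaf 0x0)) (.node 4385 (.leaf 0x40305080004) (.node 4386 (.leaf 0x0) (.leaf 0x2060707090005)))) (.node 4389 (.node 4388 (.leaf 0x0) (.leaf 0x0)) (.node 4390 (.leaf 0xb0a0002) (.node 4391 (.leaf 0x0) (.leaf 0x0))))))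

def argWS_455 : Store := (.node 4373 argWS_453 argWS_454)

def argWS_456 : Store := (.node 4401 (.node 4396 (.node 4394 (.node 4393 (.leaf 0x0) (.leaf 0x10001)) (.node 4395 (.leaf 0x0) (.leaf 0x0))) (.node 4398 (.node 4397 (.leaf 0x0) (.leaf 0x0)) (.node 4399 (.leaf 0x103060003) (.node 4400 (.leaf 0x0) (.leaf 0x0))))) (.node 4406 (.node 4403 (.node 4402 (.leaf 0x0) (.leaf 0x0)) (.node 4404 (.leaf 0x20309080607090007) (.node 4405 (.leaf 0x40905080004) (.leaf 0x0)))) (.node 4408 (.node 4407 (.leaf 0x0) (.leaf 0x0)) (.node 4409 (.leaf 0x0) (.node 4410 (.leaf 0x0) (.leaf 0x10307090004))))))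

def argWS_457 : Store := (.node 4421 (.node 4416 (.node 4413 (.node 4412 (.leaf 0x7020108050705080008) (.leaf 0x0)) (.node 4414 (.leaf 0x0) (.node 4415 (.leaf 0x0) (.leaf 0x0)))) (.node 4418 (.node 4417 (.leaf 0x0) (.leaf 0x60002)) (.node 4419 (.leaf 0x0) (.node 4420 (.leaf 0x0) (.leaf 0x0))))) (.node 4426 (.node 4423 (.node 4422 (.leaf 0x0) (.leaf 0x30607050004)) (.node 4424 (.leaf 0x8060002) (.node 4425 (.leaf 0x301060705080006) (.leaf 0x0)))) (.node 4428 (.node 4427 (.leaf 0x7020107050705080008) (.leaf 0x0)) (.node 4429 (.leaf 0x0) (.node 4430 (.leaf 0x0) (.leaf 0xd100d0003))))))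

def argWS_458 : Store := (.node 4411 argWS_456 argWS_457)

def argWS_459 : Store := (.node 4392 argWS_455 argWS_458)

def argWS_460 : Store := (.node 4354 argWS_452 argWS_459)

def argWS_461 : Store := (.node 4440 (.node 4435 (.node 4433 (.node 4432 (.leaf 0x40301060705080007) (.leaf 0x0)) (.node 4434 (.leaf 0x8060002) (.leaf 0x0))) (.node 4437 (.node 4436 (.leaf 0x0) (.leaf 0x0)) (.node 4438 (.leaf 0xf100b0d0f0c0006) (.node 4439 (.leaf 0x0) (.leaf 0x0))))) (.node 4445 (.node 4442 (.node 4441 (.leaf 0x104070003) (.leaf 0x8060002)) (.node 4443 (.leaf 0x40301060705080007) (.node 4444 (.leaf 0x0) (.leaf 0x0)))) (.node 4447 (.node 4446 (.leaf 0x0) (.leaf 0x0)) (.node 4448 (.leaf 0x302010607060705080009) (.node 4449 (.leaf 0x0) (.leaf 0x0))))))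

def argWS_462 : Store := (.node 4459 (.node 4454 (.node 4452 (.node 4451 (.leaf 0x7050705080005) (.leaf 0x30401080004)) (.node 4453 (.leaf 0x0) (.leaf 0x0))) (.node 4456 (.node 4455 (.leaf 0x0) (.leaf 0xf100f0d0e0005)) (.node 4457 (.leaf 0x302010607060705080009) (.node 4458 (.leaf 0x0) (.leaf 0x4050709080005))))) (.node 4464 (.node 4461 (.node 4460 (.leaf 0x70001) (.leaf 0x0)) (.node 4462 (.leaf 0x0) (.node 4463 (.leaf 0x0) (.leaf 0x0)))) (.node 4466 (.node 4465 (.leaf 0x3010607060705080008) (.leaf 0x20005070705080007)) (.node 4467 (.leaf 0x0) (.node 4468 (.leaf 0x110b0d0e0004) (.leaf 0x0))))))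

def argWS_463 : Store := (.node 4450 argWS_461 argWS_462)

def argWS_464 : Store := (.node 4478 (.node 4473 (.node 4471 (.node 4470 (.leaf 0x0) (.leaf 0x0)) (.node 4472 (.leaf 0x0) (.leaf 0x304010507060607090009))) (.node 4475 (.node 4474 (.leaf 0x10001) (.leaf 0x0)) (.node 4476 (.leaf 0xd100c0f0c0005) (.node 4477 (.leaf 0x0) (.leaf 0x0))))) (.node 4483 (.node 4480 (.node 4479 (.leaf 0x0) (.leaf 0x0)) (.node 4481 (.leaf 0x4060705080005) (.node 4482 (.leaf 0x0) (.leaf 0x2000002)))) (.node 4485 (.node 4484 (.leaf 0x10001) (.leaf 0x0)) (.node 4486 (.leaf 0x100001) (.node 4487 (.leaf 0x0) (.leaf 0x403010705080006))))))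

def argWS_465 : Store := (.node 4497 (.node 4492 (.node 4490 (.node 4489 (.leaf 0x0) (.leaf 0x0)) (.node 4491 (.leaf 0x0) (.leaf 0x0))) (.node 4494 (.node 4493 (.leaf 0x304050705080006) (.leaf 0x80001)) (.node 4495 (.leaf 0x0) (.node 4496 (.leaf 0x0) (.leaf 0x0))))) (.node 4502 (.node 4499 (.node 4498 (.leaf 0x40001) (.leaf 0x0)) (.node 4500 (.leaf 0x4050002) (.node 4501 (.leaf 0x0) (.leaf 0x0)))) (.node 4504 (.node 4503 (.leaf 0x702010809080006) (.leaf 0x207060003)) (.node 4505 (.leaf 0x0) (.node 4506 (.leaf 0x0) (.leaf 0x0))))))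

def argWS_466 : Store := (.node 4488 argWS_464 argWS_465)

def argWS_467 : Store := (.node 4469 argWS_463 argWS_466)

def argWS_468 : Store := (.node 4516 (.node 4511 (.node 4509 (.node 4508 (.leaf 0x100b0f0f0c0005) (.leaf 0x0)) (.node 4510 (.leaf 0x40001) (.leaf 0x0))) (.node 4513 (.node 4512 (.leaf 0xd110002) (.leaf 0x80001)) (.node 4514 (.leaf 0x0) (.node 4515 (.leaf 0x0) (.leaf 0x50001))))) (.node 4521 (.node 4518 (.node 4517 (.leaf 0x0) (.leaf 0x108050003)) (.node 4519 (.leaf 0x1090002) (.node 4520 (.leaf 0x0) (.leaf 0x0)))) (.node 4523 (.node 4522 (.leaf 0x0) (.leaf 0x0)) (.node 4524 (.leaf 0x20309080004) (.node 4525 (.leaf 0x70201060004) (.leaf 0x0))))))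

def argWS_469 : Store := (.node 4535 (.node 4530 (.node 4528 (.node 4527 (.leaf 0x100f0f0c0004) (.leaf 0x0)) (.node 4529 (.leaf 0x0) (.leaf 0x0))) (.node 4532 (.node 4531 (.leaf 0x0) (.leaf 0x10001)) (.node 4533 (.leaf 0x70108060004) (.node 4534 (.leaf 0x70108060607090007) (.leaf 0x0))))) (.node 4540 (.node 4537 (.node 4536 (.leaf 0x0) (.leaf 0x0)) (.node 4538 (.leaf 0x0) (.node 4539 (.leaf 0x0) (.leaf 0x40001)))) (.node 4542 (.node 4541 (.leaf 0x1040709080607090008) (.leaf 0x0)) (.node 4543 (.leaf 0x0) (.node 4544 (.leaf 0x0) (.leaf 0x110f0d0e0004))))))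

def argWS_470 : Store := (.node 4526 argWS_468 argWS_469)

def argWS_471 : Store := (.node 4554 (.node 4549 (.node 4547 (.node 4546 (.leaf 0x40001) (.leaf 0x0)) (.node 4548 (.leaf 0x4050002) (.leaf 0x0))) (.node 4551 (.node 4550 (.leaf 0x8050002) (.leaf 0x4020105070905080008)) (.node 4552 (.leaf 0x0) (.node 4553 (.leaf 0x40201050709080007) (.leaf 0x0))))) (.node 4559 (.node 4556 (.node 4555 (.leaf 0x0) (.leaf 0x0)) (.node 4557 (.leaf 0x0) (.node 4558 (.leaf 0x0) (.leaf 0x4050002)))) (.node 4561 (.node 4560 (.leaf 0x701060607090006) (.leaf 0x0)) (.node 4562 (.leaf 0x100b0e0003) (.node 4563 (.leaf 0x0) (.leaf 0x0))))))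

def argWS_472 : Store := (.node 4574 (.node 4569 (.node 4566 (.node 4565 (.leaf 0x0) (.leaf 0x40109080004)) (.node 4567 (.leaf 0x8050002) (.node 4568 (.leaf 0x30201070905080007) (.leaf 0x0)))) (.node 4571 (.node 4570 (.leaf 0x0) (.leaf 0x0)) (.node 4572 (.leaf 0xc100b0d0d0e0006) (.node 4573 (.leaf 0x203070905080006) (.leaf 0x0))))) (.node 4579 (.node 4576 (.node 4575 (.leaf 0x203070905080006) (.leaf 0x0)) (.node 4577 (.leaf 0x203070905080006) (.node 4578 (.leaf 0x0) (.leaf 0x2070905080005)))) (.node 4581 (.node 4580 (.leaf 0x0) (.leaf 0x1040707090005)) (.node 4582 (.leaf 0x0) (.node 4583 (.leaf 0x8060002) (.leaf 0x0))))))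

def argWS_473 : Store := (.node 4564 argWS_471 argWS_472)

def argWS_474 : Store := (.node 4545 argWS_470 argWS_473)

def argWS_475 : Store := (.node 4507 argWS_467 argWS_474)

def argWS_476 : Store := (.node 4431 argWS_460 argWS_475)

def argWS_477 : Store := (.node 4593 (.node 4588 (.node 4586 (.node 4585 (.leaf 0x0) (.leaf 0x0)) (.node 4587 (.leaf 0x0) (.leaf 0x3020106070905080008))) (.node 4590 (.node 4589 (.leaf 0x3040106070705080008) (.leaf 0x0)) (.node 4591 (.leaf 0xe110d0003) (.node 4592 (.leaf 0x0) (.leaf 0x0))))) (.node 4598 (.node 4595 (.node 4594 (.leaf 0x0) (.leaf 0x0)) (.node 4596 (.leaf 0x0) (.node 4597 (.leaf 0x7010008060005) (.leaf 0x10001)))) (.node 4600 (.node 4599 (.leaf 0x40707090004) (.leaf 0x0)) (.node 4601 (.leaf 0x10001) (.node 4602 (.leaf 0x0) (.leaf 0x0))))))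

def argWS_478 : Store := (.node 4612 (.node 4607 (.node 4605 (.node 4604 (.leaf 0x0) (.leaf 0x0)) (.node 4606 (.leaf 0x7010507060005) (.leaf 0x30406070705080007))) (.node 4609 (.node 4608 (.leaf 0x0) (.leaf 0xe110d0003)) (.node 4610 (.leaf 0x0) (.node 4611 (.leaf 0x7010008050005) (.leaf 0x0))))) (.node 4617 (.node 4614 (.node 4613 (.leaf 0x0) (.leaf 0x0)) (.node 4615 (.leaf 0x0) (.node 4616 (.leaf 0x0) (.leaf 0x10405070607090007)))) (.node 4619 (.node 4618 (.leaf 0x3000709080005) (.leaf 0x0)) (.node 4620 (.leaf 0x5070905080005) (.node 4621 (.leaf 0x0) (.leaf 0x1080002))))))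

def argWS_479 : Store := (.node 4603 argWS_477 argWS_478)

def argWS_480 : Store := (.node 4631 (.node 4626 (.node 4624 (.node 4623 (.leaf 0x40201060004) (.leaf 0x0)) (.node 4625 (.leaf 0x0) (.leaf 0x0))) (.node 4628 (.node 4627 (.leaf 0x0) (.leaf 0x0)) (.node 4629 (.leaf 0x1000002) (.node 4630 (.leaf 0x2050705080005) (.leaf 0x0))))) (.node 4636 (.node 4633 (.node 4632 (.leaf 0xc100b0f0c0005) (.leaf 0x0)) (.node 4634 (.leaf 0x203010003) (.node 4635 (.leaf 0x40301070607090007) (.leaf 0x0)))) (.node 4638 (.node 4637 (.leaf 0x0) (.leaf 0x0)) (.node 4639 (.leaf 0x0) (.node 4640 (.leaf 0x203050707090006) (.leaf 0x10001))))))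

def argWS_481 : Store := (.node 4650 (.node 4645 (.node 4643 (.node 4642 (.leaf 0x3010709080005) (.leaf 0x0)) (.node 4644 (.leaf 0x105070905080006) (.leaf 0x0))) (.node 4647 (.node 4646 (.leaf 0x10001) (.leaf 0x0)) (.node 4648 (.leaf 0x0) (.node 4649 (.leaf 0x0) (.leaf 0x110c0f0c0004))))) (.node 4655 (.node 4652 (.node 4651 (.leaf 0x200050705080006) (.leaf 0x70102070905080007)) (.node 4653 (.leaf 0x0) (.node 4654 (.leaf 0x0) (.leaf 0x0)))) (.node 4657 (.node 4656 (.leaf 0x0) (.leaf 0x0)) (.node 4658 (.leaf 0x301050003) (.node 4659 (.leaf 0x200060003) (.leaf 0x0))))))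

def argWS_482 : Store := (.node 4641 argWS_480 argWS_481)

def argWS_483 : Store := (.node 4622 argWS_479 argWS_482)

def argWS_484 : Store := (.node 4669 (.node 4664 (.node 4662 (.node 4661 (.leaf 0x80001) (.leaf 0x402060003)) (.node 4663 (.leaf 0x0) (.leaf 0x0))) (.node 4666 (.node 4665 (.leaf 0x0) (.leaf 0x0)) (.node 4667 (.leaf 0x20408060705080007) (.node 4668 (.leaf 0x0) (.leaf 0x0))))) (.node 4674 (.node 4671 (.node 4670 (.leaf 0x1000002) (.leaf 0x40305080004)) (.node 4672 (.leaf 0x0) (.node 4673 (.leaf 0x0) (.leaf 0x0)))) (.node 4676 (.node 4675 (.leaf 0x110b0d0003) (.leaf 0x10001)) (.node 4677 (.leaf 0x201060003) (.node 4678 (.leaf 0x0) (.leaf 0x10001))))))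

def argWS_485 : Store := (.node 4688 (.node 4683 (.node 4681 (.node 4680 (.leaf 0x3010709080005) (.leaf 0x0)) (.node 4682 (.leaf 0x105070905080006) (.leaf 0x0))) (.node 4685 (.node 4684 (.leaf 0x0) (.leaf 0x0)) (.node 4686 (.leaf 0x0) (.node 4687 (.leaf 0xf100b0f0f0c0006) (.leaf 0x0))))) (.node 4693 (.node 4690 (.node 4689 (.leaf 0x0) (.leaf 0x0)) (.node 4691 (.leaf 0x0) (.node 4692 (.leaf 0x20401050707090007) (.leaf 0x10001)))) (.node 4695 (.node 4694 (.leaf 0x1030607050005) (.leaf 0x0)) (.node 4696 (.leaf 0x0) (.node 4697 (.leaf 0x0) (.leaf 0x203070905080006))))))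

def argWS_486 : Store := (.node 4679 argWS_484 argWS_485)

def argWS_487 : Store := (.node 4707 (.node 4702 (.node 4700 (.node 4699 (.leaf 0x0) (.leaf 0x20307060705080007)) (.node 4701 (.leaf 0x0) (.leaf 0x0))) (.node 4704 (.node 4703 (.leaf 0x30405080004) (.leaf 0x302080905080006)) (.node 4705 (.leaf 0x0) (.node 4706 (.leaf 0x0) (.leaf 0x0))))) (.node 4712 (.node 4709 (.node 4708 (.leaf 0xb0d0f0c0004) (.leaf 0x203070905080006)) (.node 4710 (.leaf 0x0) (.node 4711 (.leaf 0x108050003) (.leaf 0x103050003)))) (.node 4714 (.node 4713 (.leaf 0x0) (.leaf 0x307060705080006)) (.node 4715 (.leaf 0x0) (.node 4716 (.leaf 0x0) (.leaf 0x0))))))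

def argWS_488 : Store := (.node 4727 (.node 4722 (.node 4719 (.node 4718 (.leaf 0x0) (.leaf 0x7010905080005)) (.node 4720 (.leaf 0x701000507060705080009) (.node 4721 (.leaf 0x0) (.leaf 0xa0d0d0e0004)))) (.node 4724 (.node 4723 (.leaf 0x0) (.leaf 0x0)) (.node 4725 (.leaf 0x0) (.node 4726 (.leaf 0x0) (.leaf 0x0))))) (.node 4732 (.node 4729 (.node 4728 (.leaf 0x2030109080607090008) (.leaf 0x108060003)) (.node 4730 (.leaf 0x7010208050705080008) (.node 4731 (.leaf 0x0) (.leaf 0x403050003)))) (.node 4734 (.node 4733 (.leaf 0x0) (.leaf 0x0)) (.node 4735 (.leaf 0x0) (.node 4736 (.leaf 0x0) (.leaf 0x0))))))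

def argWS_489 : Store := (.node 4717 argWS_487 argWS_488)

def argWS_490 : Store := (.node 4698 argWS_486 argWS_489)

def argWS_491 : Store := (.node 4660 argWS_483 argWS_490)

def argWS_492 : Store := (.node 4746 (.node 4741 (.node 4739 (.node 4738 (.leaf 0x30201070905080007) (.leaf 0x30205070905080007)) (.node 4740 (.leaf 0x0) (.leaf 0xf100f0f0c0005))) (.node 4743 (.node 4742 (.leaf 0x0) (.leaf 0x40107090004)) (.node 4744 (.leaf 0x0) (.node 4745 (.leaf 0x0) (.leaf 0x0))))) (.node 4751 (.node 4748 (.node 4747 (.leaf 0x0) (.leaf 0x0)) (.node 4749 (.leaf 0x2010607050005) (.node 4750 (.leaf 0x10001) (.leaf 0x70108060607090007)))) (.node 4753 (.node 4752 (.leaf 0x0) (.leaf 0x0)) (.node 4754 (.leaf 0x0) (.node 4755 (.leaf 0x203070905080006) (.leaf 0x0))))))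

def argWS_493 : Store := (.node 4765 (.node 4760 (.node 4758 (.node 4757 (.leaf 0x0) (.leaf 0x7010905080005)) (.node 4759 (.leaf 0x1040709080607090008) (.leaf 0x0))) (.node 4762 (.node 4761 (.leaf 0x0) (.leaf 0x0)) (.node 4763 (.leaf 0xc100d0f0c0005) (.node 4764 (.leaf 0x0) (.leaf 0x0))))) (.node 4770 (.node 4767 (.node 4766 (.leaf 0x0) (.leaf 0x0)) (.node 4768 (.leaf 0x0) (.node 4769 (.leaf 0x10307050705080007) (.leaf 0x10001)))) (.node 4772 (.node 4771 (.leaf 0x402050705080006) (.leaf 0x0)) (.node 4773 (.leaf 0x0) (.node 4774 (.leaf 0x0) (.leaf 0x7010208050705080008))))))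

def argWS_494 : Store := (.node 4756 argWS_492 argWS_493)

def argWS_495 : Store := (.node 4784 (.node 4779 (.node 4777 (.node 4776 (.leaf 0x0) (.leaf 0x0)) (.node 4778 (.leaf 0x4000905080005) (.leaf 0x3090002))) (.node 4781 (.node 4780 (.leaf 0x0) (.leaf 0x0)) (.node 4782 (.leaf 0x0) (.node 4783 (.leaf 0xe110d0d0e0005) (.leaf 0x80001))))) (.node 4789 (.node 4786 (.node 4785 (.leaf 0x1050709080005) (.leaf 0x0)) (.node 4787 (.leaf 0x0) (.node 4788 (.leaf 0x0) (.leaf 0x0)))) (.node 4791 (.node 4790 (.leaf 0x0) (.leaf 0x40001)) (.node 4792 (.leaf 0x204060709080607090009) (.node 4793 (.leaf 0x0) (.leaf 0x110b0c0f0c0005))))))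

def argWS_496 : Store := (.node 4803 (.node 4798 (.node 4796 (.node 4795 (.leaf 0x0) (.leaf 0x0)) (.node 4797 (.leaf 0x0) (.leaf 0x30201070905080007))) (.node 4800 (.node 4799 (.leaf 0x405070905080006) (.leaf 0x80001)) (.node 4801 (.leaf 0x0) (.node 4802 (.leaf 0x0) (.leaf 0x0))))) (.node 4808 (.node 4805 (.node 4804 (.leaf 0x0) (.leaf 0x40001)) (.node 4806 (.leaf 0x300060709080006) (.node 4807 (.leaf 0x0) (.leaf 0x0)))) (.node 4810 (.node 4809 (.leaf 0x0) (.leaf 0x110b0f0c0004)) (.node 4811 (.leaf 0x80001) (.node 4812 (.leaf 0x102050709080006) (.leaf 0x0))))))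

def argWS_497 : Store := (.node 4794 argWS_495 argWS_496)

def argWS_498 : Store := (.node 4775 argWS_494 argWS_497)

def argWS_499 : Store := (.node 4822 (.node 4817 (.node 4815 (.node 4814 (.leaf 0x0) (.leaf 0x0)) (.node 4816 (.leaf 0x0) (.leaf 0x40001))) (.node 4819 (.node 4818 (.leaf 0x204060709080607090009) (.leaf 0x0)) (.node 4820 (.leaf 0x110b0c0f0c0005) (.node 4821 (.leaf 0x0) (.leaf 0x0))))) (.node 4827 (.node 4824 (.node 4823 (.leaf 0x0) (.leaf 0x400070905080006)) (.node 4825 (.leaf 0x40309080004) (.node 4826 (.leaf 0x70100050705080007) (.leaf 0x0)))) (.node 4829 (.node 4828 (.leaf 0x4030106070908060709000a) (.leaf 0x0)) (.node 4830 (.leaf 0x0) (.node 4831 (.leaf 0x0) (.leaf 0x0))))))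

def argWS_500 : Store := (.node 4841 (.node 4836 (.node 4834 (.node 4833 (.leaf 0x70100080905080007) (.leaf 0x0)) (.node 4835 (.leaf 0x7010005070005) (.leaf 0x0))) (.node 4838 (.node 4837 (.leaf 0x0) (.leaf 0x3040809080607090008)) (.node 4839 (.leaf 0x103090003) (.node 4840 (.leaf 0x0) (.leaf 0x0))))) (.node 4846 (.node 4843 (.node 4842 (.leaf 0x0) (.leaf 0xe110d0e0004)) (.node 4844 (.leaf 0x0) (.node 4845 (.leaf 0x403060709080607090009) (.leaf 0x0)))) (.node 4848 (.node 4847 (.leaf 0x0) (.leaf 0x0)) (.node 4849 (.leaf 0x507050705080006) (.node 4850 (.leaf 0x0) (.leaf 0x0))))))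

def argWS_501 : Store := (.node 4832 argWS_499 argWS_500)

def argWS_502 : Store := (.node 4860 (.node 4855 (.node 4853 (.node 4852 (.leaf 0x7020107090005) (.leaf 0x80001)) (.node 4854 (.leaf 0x0) (.leaf 0x0))) (.node 4857 (.node 4856 (.leaf 0x0) (.leaf 0xc100f0f0c0005)) (.node 4858 (.leaf 0x0) (.node 4859 (.leaf 0x0) (.leaf 0x0))))) (.node 4865 (.node 4862 (.node 4861 (.leaf 0x0) (.leaf 0x203080607090006)) (.node 4863 (.leaf 0x403050709080006) (.node 4864 (.leaf 0x0) (.leaf 0x0)))) (.node 4867 (.node 4866 (.leaf 0x0) (.leaf 0x70001)) (.node 4868 (.leaf 0x0) (.node 4869 (.leaf 0x0) (.leaf 0x607060607090006))))))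

def argWS_503 : Store := (.node 4880 (.node 4875 (.node 4872 (.node 4871 (.leaf 0x301070705080006) (.leaf 0x0)) (.node 4873 (.leaf 0x0) (.node 4874 (.leaf 0x0) (.leaf 0xd100d0003)))) (.node 4877 (.node 4876 (.leaf 0x0) (.leaf 0x70001)) (.node 4878 (.leaf 0x0) (.node 4879 (.leaf 0x5070705080005) (.leaf 0x0))))) (.node 4885 (.node 4882 (.node 4881 (.leaf 0x507060607090006) (.leaf 0x0)) (.node 4883 (.leaf 0x0) (.node 4884 (.leaf 0x7060607090005) (.leaf 0x4060709080607090008)))) (.node 4887 (.node 4886 (.leaf 0x0) (.leaf 0x0)) (.node 4888 (.leaf 0x0) (.node 4889 (.leaf 0xb0f0f0c0004) (.leaf 0x0))))))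

def argWS_504 : Store := (.node 4870 argWS_502 argWS_503)

def argWS_505 : Store := (.node 4851 argWS_501 argWS_504)

def argWS_506 : Store := (.node 4813 argWS_498 argWS_505)

def argWS_507 : Store := (.node 4737 argWS_491 argWS_506)

def argWS_508 : Store := (.node 4584 argWS_476 argWS_507)

def argWS_509 : Store := (.node 4278 argWS_445 argWS_508)

def argWS_510 : Store := (.node 3667 argWS_382 argWS_509)

def argWS : Store := (.node 2445 argWS_255 argWS_510)

def nodeSrcS : Store := (.node 8 (.node 4 (.node 2 (.node 1 (.leaf 0x15001500150015001500140014001400140013001300130013001300130013001200120012001200120012001200120011001100110011001100110011001100100010001000100010001000100010000f000f000f000f000f000f000f000f000e000e000e000e000d000d000d000d000d000d000d000d000c000c000c000c000c000c000c000c000b000b000b000b000b000b000b000b000a000a000a000a000a000a000a000a00090009000900090009000900090009000800080008000800080008000800080007000700060006000500050005000500050005000500050004000400040004000400040004000400030003000300030002000100000000)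 (.leaf 0x2a002a00290029002900290029002900290029002800280028002800280028002700270027002700270027002700270026002600260026002600260025002500250025002500250025002500240024002400240024002400240023002300230023002300230023002300220022002200220022002200210021002100210021002100210021002000200020002000200020001f001f001f001f001f001f001f001f001e001e001e001e001e001e001e001e001d001d001d001d001d001d001d001d001c001c001c001c001c001c001c001c001b001b001a001a0019001900190018001800170017001700170017001700170016001600160016001500150015)) (.node 3 (.leaf 0x3c003c003c003c003b003b003b003b003b003b003b003a003a003a003a003a003a003a003a003900390039003900380038003800380038003800380038003700370037003700370037003600360036003600360036003600360035003500350035003500350034003400340034003400340034003400330033003300330033003300330033003200320032003200320032003100310031003100310031003100310030003000300030003000300030002f002f002f002f002f002f002f002f002e002e002e002e002e002e002d002d002d002d002d002d002d002d002c002c002c002c002c002c002b002b002b002b002b002b002b002b002a002a002a002a)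 (.leaf 0x550055005500550055005500550054005400540054005400540054005300530053005300530053005300520052005200520052005200510051005100510051005100510051005000500050005000500050004f004f004f004f004e004e004e004e004d004d004d004d004d004d004d004d004c004c004c004c004c004c004c004b004b004b004b004b004b004b004900490049004900490049004900490047004700470047004700470047004700460046004600460046004600460045004500450045004500450045004500440044004400440044004400440044003f003f003f003e003e003e003e003e003e003e003e003d003d003d003c003c003c003c))) (.node 6 (.node 5 (.leaf 0x6a006a006a006a006a00680068006800680068006800680067006700670067006700670067006700660066006600660066006600660066006500650065006500650065006500650064006400640064006400640064006300630063006300630063006300620062006200620062006200610061006100610061006100610061006000600060006000600060005f005f005f005f005f005f005e005e005e005e005e005e005e005e005d005d005d005d005c005c005c005c005c005c005c005c005b005b005b005b005b005b005b005a005a005a005a005a00590059005900590059005900590057005700570057005700570056005600560056005600560055)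 (.leaf 0x810081008100810080008000800080008000800080007f007f007f007f007f007f007f007d007d007d007d007d007d007c007c007c007c007c007b007b007b007b007a007a007a007a007a007a007a007a00790079007900780078007800780078007800780078007700770077007700760076007600760076007600760074007400740074007400740074007300730073007300730073007300730072007200720072007200720072007200710071007100710071007100700070007000700070007000700070006f006f006f006f006f006f006f006d006d006d006d006d006d006d006c006c006c006c006c006b006b006b006b006b006b006b006a006a)) (.node 7 (.leaf 0x99009900990099009900990099009800980098009800970097009700970097009700960096009600960096009600950095009500950095009400940094009400940093009300930093009300920092009200920092009100910091009100910091008f008f008f008f008f008e008e008e008e008e008e008d008d008d008d008d008b008b008b008b008b008b008b008a008a008a008a008a008a008a0089008900890089008900880088008800880088008800880087008700870087008700870086008600860086008600860086008500850085008500850085008500850084008400840083008300830083008200820082008200820082008200810081)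 (.leaf 0xb100b100b100b100b000b000b000b000b000b000af00af00af00af00af00af00af00ae00ae00ae00ae00ae00ae00ae00ae00ad00ad00ad00ad00ad00ac00ac00ac00ac00ac00ac00ac00ac00ab00ab00ab00ab00ab00ab00ab00aa00aa00aa00aa00aa00aa00aa00aa00a800a800a800a800a800a800a800a800a700a700a700a700a700a700a600a600a600a600a600a600a600a600a500a500a500a500a500a500a400a400a400a400a400a400a400a400a300a300a300a300a300a300a200a200a200a200a200a200a200a200a100a100a100a100a100a100a000a000a000a000a000a000a000a0009f009f009f009f009f009f009f009a009a009a009a)))) (.node 12 (.node 10 (.node 9 (.leaf 0xc200c200c200c200c200c200c200c200c100c100c100c100c100c100c000c000c000c000c000c000c000c000bf00bf00bf00bf00bf00bf00be00be00be00be00be00be00be00be00bd00bd00bd00bd00bd00bd00bd00bd00bc00bc00bc00bc00bc00bc00bc00bc00bb00bb00bb00bb00bb00bb00bb00ba00ba00ba00ba00ba00ba00ba00ba00b900b900b900b900b900b900b900b900b800b800b800b800b800b800b800b800b700b700b700b700b700b700b700b700b600b600b600b600b600b600b600b500b500b500b500b500b500b500b500b400b400b400b400b300b300b300b300b300b300b300b300b200b200b200b200b200b200b100b100b100b1)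 (.leaf 0xd500d500d400d400d400d400d400d400d400d400d300d300d300d300d200d200d200d200d200d200d200d200d100d100d100d100d100d100d100d100d000d000d000d000d000d000d000d000cf00cf00cf00cf00cf00cf00cf00cf00ce00ce00ce00ce00ce00ce00ce00ce00cd00cd00cd00cd00cd00cd00cc00cc00cc00cc00cb00cb00cb00cb00cb00cb00ca00ca00ca00ca00ca00ca00c900c900c900c900c900c900c900c900c800c800c800c800c800c800c700c700c700c700c700c700c700c700c600c600c600c600c600c600c600c600c500c500c500c500c500c500c500c500c400c400c400c400c400c400c400c400c300c300c300c300c300c3)) (.node 11 (.leaf 0xe700e700e600e600e600e600e600e600e600e500e500e500e500e500e500e500e400e400e400e400e400e400e400e400e300e300e300e300e300e300e200e200e200e200e200e200e200e200e100e100e100e100e100e100e100e100e000e000e000e000e000e000e000e000df00df00df00df00df00df00df00df00de00de00de00de00de00de00dd00dd00dd00dd00dd00dd00dd00dd00dc00dc00dc00dc00dc00dc00db00db00db00db00db00db00db00db00da00da00da00da00da00da00d900d900d900d900d900d900d900d900d800d800d800d800d800d800d800d700d700d700d700d600d600d600d600d600d600d600d600d500d500d500d500d5)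 (.leaf 0xf900f900f800f800f800f800f800f800f800f700f700f700f700f700f700f600f600f600f600f600f600f500f500f500f500f500f500f400f400f400f400f400f400f300f300f300f300f300f300f300f300f200f200f200f200f200f200f200f200f100f100f100f100f100f100f100f100f000f000f000f000f000f000f000f000ef00ef00ef00ef00ef00ef00ee00ee00ee00ee00ee00ee00ee00ed00ed00ed00ed00ed00ed00ec00ec00ec00ec00ec00ec00ec00eb00eb00eb00eb00eb00eb00eb00eb00ea00ea00ea00ea00ea00ea00ea00ea00e900e900e900e900e900e900e900e900e800e800e800e800e800e800e800e800e700e700e700e700e7))) (.node 14 (.node 13 (.leaf 0x10a010a010a010a010a01090109010901090109010901080108010801080108010801080107010701070107010701070107010601060106010601060106010601060105010501050105010501050105010401040104010401040104010401040103010301030103010301030103010301020102010201020102010201020101010101010101010101010101010001000100010001000100010000ff00ff00ff00ff00ff00ff00ff00ff00fe00fe00fe00fe00fe00fe00fe00fe00fd00fd00fd00fd00fd00fd00fd00fc00fc00fc00fc00fc00fc00fc00fc00fb00fb00fb00fb00fb00fb00fb00fb00fa00fa00fa00fa00fa00fa00fa00fa00f900f900f900f9)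 (.leaf 0x11b011b011b011b011b011b011b011a011a011a011a011a011a011a011a011901190119011901190119011901190118011801180118011801180117011701170117011701170117011701160116011601160116011601150115011501150115011501150115011401140114011401140114011401140113011301130113011301130113011301120112011201120112011201120111011101110111011101110111011101100110011001100110011001100110010f010f010f010f010f010f010f010e010e010e010e010e010e010e010e010d010d010d010d010d010d010d010d010c010c010c010c010c010c010c010c010b010b010b010b010b010b010a)) (.node 15 (.leaf 0x12f012f012e012e012e012e012d012d012d012d012c012c012c012c012c012c012b012b012b012b012b012b012b012b012a012a012a012a012901290129012901290129012901290128012801280128012801280128012701270127012701270127012701270126012601260126012601260126012601250125012501250125012501250125012401240124012401240124012301230123012301230123012201220122012201220122012201210121012101210121012101200120012001200120012001200120011f011f011f011f011f011f011e011e011e011e011e011e011e011e011d011d011d011d011d011c011c011c011c011c011c011c011c011b)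 (.leaf 0x137013701370137013701360136013601360136013601350135013501350135013501340134013401340134013401340134013301330133013301330133013201320132013201320132013201310131013101310131013101310131013001300130013001300130012f012f012f012f012f012f)))))

noncomputable def nodeSrc : Nat → Nat := get16 nodeSrcS

def nodeWS_1 : Store := (.node 15 (.node 7 (.node 3 (.node 1 (.leaf 0x0) (.node 2 (.leaf 0x0) (.leaf 0x80001))) (.node 5 (.node 4 (.leaf 0x80001) (.leaf 0x80001)) (.node 6 (.leaf 0x70001) (.leaf 0x8060002)))) (.node 11 (.node 9 (.node 8 (.leaf 0x108060003) (.leaf 0x80001)) (.node 10 (.leaf 0x70001) (.leaf 0x1080002))) (.node 13 (.node 12 (.leaf 0x1070002) (.leaf 0x8060002)) (.node 14 (.leaf 0x8050002) (.leaf 0x108060003))))) (.node 22 (.node 18 (.node 16 (.leaf 0x108050003) (.node 17 (.leaf 0x80001) (.leaf 0x70001))) (.node 20 (.node 19 (.leaf 0x1080002) (.leaf 0x1070002)) (.node 21 (.leaf 0x8060002) (.leaf 0x8050002)))) (.node 26 (.node 24 (.node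 23 (.leaf 0x108060003) (.leaf 0x108050003)) (.node 25 (.leaf 0x80001) (.leaf 0x70001))) (.node 28 (.node 27 (.leaf 0x70001) (.leaf 0x1070002)) (.node 29 (.leaf 0x80001) (.leaf 0x70001))))))

def nodeWS_2 : Store := (.node 45 (.node 37 (.node 33 (.node 31 (.leaf 0x1080002) (.node 32 (.leaf 0x1070002) (.leaf 0x8060002))) (.node 35 (.node 34 (.leaf 0x8050002) (.leaf 0x108060003)) (.node 36 (.leaf 0x108050003) (.leaf 0x80001)))) (.node 41 (.node 39 (.node 38 (.leaf 0x70001) (.leaf 0x1080002)) (.node 40 (.leaf 0x1070002) (.leaf 0x8060002))) (.node 43 (.node 42 (.leaf 0x8050002) (.leaf 0x108060003)) (.node 44 (.leaf 0x108050003) (.leaf 0x80001))))) (.node 53 (.node 49 (.node 47 (.node 46 (.leaf 0x70001) (.leaf 0x1080002)) (.node 48 (.leaf 0x1070002) (.leaf 0x8060002))) (.node 51 (.node 50 (.leaf 0x8050002) (.leaf 0x108060003)) (.node 52 (.leaf 0x108050003) (.leaf 0x80001)))) (.node 57 (.node 55 (.node 54 (.leaf 0x70001) (.leaf 0x1080002)) (.node 56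 (.leaf 0x1070002) (.leaf 0x8060002))) (.node 59 (.node 58 (.leaf 0x8050002) (.leaf 0x108060003)) (.node 60 (.leaf 0x108050003) (.leaf 0x80001))))))

def nodeWS_3 : Store := (.node 30 nodeWS_1 nodeWS_2)

def nodeWS_4 : Store := (.node 76 (.node 68 (.node 64 (.node 62 (.leaf 0x70001) (.node 63 (.leaf 0x1080002) (.leaf 0x1070002))) (.node 66 (.node 65 (.leaf 0x8060002) (.leaf 0x8050002)) (.node 67 (.leaf 0x108060003) (.leaf 0x108050003)))) (.node 72 (.node 70 (.node 69 (.leaf 0x80001) (.leaf 0x70001)) (.node 71 (.leaf 0x1080002) (.leaf 0x1070002))) (.node 74 (.node 73 (.leaf 0x8060002) (.leaf 0x8050002)) (.node 75 (.leaf 0x108060003) (.leaf 0x108050003))))) (.node 84 (.node 80 (.node 78 (.node 77 (.leaf 0x70001) (.leaf 0x1070002)) (.node 79 (.leaf 0x8060002) (.leaf 0x108060003))) (.node 82 (.node 81 (.leaf 0x80001) (.leaf 0x70001)) (.node 83 (.leaf 0x1080002) (.leaf 0x1070002)))) (.node 88 (.node 86 (.node 85 (.leaf 0x8060002) (.leaf 0x8050002))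 (.node 87 (.leaf 0x108060003) (.leaf 0x108050003))) (.node 90 (.node 89 (.leaf 0x80001) (.leaf 0x70001)) (.node 91 (.leaf 0x1080002) (.leaf 0x1070002))))))

def nodeWS_5 : Store := (.node 107 (.node 99 (.node 95 (.node 93 (.leaf 0x8060002) (.node 94 (.leaf 0x8050002) (.leaf 0x108060003))) (.node 97 (.node 96 (.leaf 0x108050003) (.leaf 0x80001)) (.node 98 (.leaf 0x70001) (.leaf 0x1080002)))) (.node 103 (.node 101 (.node 100 (.leaf 0x1070002) (.leaf 0x8060002)) (.node 102 (.leaf 0x8050002) (.leaf 0x108060003))) (.node 105 (.node 104 (.leaf 0x108050003) (.leaf 0x80001)) (.node 106 (.leaf 0x70001) (.leaf 0x1080002))))) (.node 115 (.node 111 (.node 109 (.node 108 (.leaf 0x1070002) (.leaf 0x8060002)) (.node 110 (.leaf 0x8050002) (.leaf 0x108060003))) (.node 113 (.node 112 (.leaf 0x108050003) (.leaf 0x80001)) (.node 114 (.leaf 0x70001) (.leaf 0x1080002)))) (.node 119 (.node 117 (.node 116 (.leaf 0x1070002) (.leaf 0x8060002)) (.node 118 (.leaf 0x8050002)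 (.leaf 0x108060003))) (.node 121 (.node 120 (.leaf 0x80001) (.leaf 0x70001)) (.node 122 (.leaf 0x1080002) (.leaf 0x1070002))))))

def nodeWS_6 : Store := (.node 92 nodeWS_4 nodeWS_5)

def nodeWS_7 : Store := (.node 61 nodeWS_3 nodeWS_6)

def nodeWS_8 : Store := (.node 138 (.node 130 (.node 126 (.node 124 (.leaf 0x80001) (.node 125 (.leaf 0x70001) (.leaf 0x1080002))) (.node 128 (.node 127 (.leaf 0x1070002) (.leaf 0x8060002)) (.node 129 (.leaf 0x8050002) (.leaf 0x108060003)))) (.node 134 (.node 132 (.node 131 (.leaf 0x108050003) (.leaf 0x80001)) (.node 133 (.leaf 0x1080002) (.leaf 0x8060002))) (.node 136 (.node 135 (.leaf 0x108060003) (.leaf 0x80001)) (.node 137 (.leaf 0x70001) (.leaf 0x1080002))))) (.node 146 (.node 142 (.node 140 (.node 139 (.leaf 0x1070002) (.leaf 0x8060002)) (.node 141 (.leaf 0x8050002) (.leaf 0x108050003))) (.node 144 (.node 143 (.leaf 0x70001) (.leaf 0x1070002)) (.node 145 (.leaf 0x80001) (.leaf 0x70001)))) (.node 150 (.node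 148 (.node 147 (.leaf 0x1070002) (.leaf 0x80001)) (.node 149 (.leaf 0x1080002) (.leaf 0x80001))) (.node 152 (.node 151 (.leaf 0x1080002) (.leaf 0x80001)) (.node 153 (.leaf 0x70001) (.leaf 0x1080002))))))

def nodeWS_9 : Store := (.node 169 (.node 161 (.node 157 (.node 155 (.leaf 0x1070002) (.node 156 (.leaf 0x8060002) (.leaf 0x8050002))) (.node 159 (.node 158 (.leaf 0x108060003) (.leaf 0x108050003)) (.node 160 (.leaf 0x80001) (.leaf 0x70001)))) (.node 165 (.node 163 (.node 162 (.leaf 0x1080002) (.leaf 0x1070002)) (.node 164 (.leaf 0x8060002) (.leaf 0x8050002))) (.node 167 (.node 166 (.leaf 0x108060003) (.leaf 0x108050003)) (.node 168 (.leaf 0x80001) (.leaf 0x70001))))) (.node 177 (.node 173 (.node 171 (.node 170 (.leaf 0x1080002) (.leaf 0x1070002)) (.node 172 (.leaf 0x8060002) (.leaf 0x8050002))) (.node 175 (.node 174 (.leaf 0x108060003) (.leaf 0x108050003)) (.node 176 (.leaf 0x80001) (.leaf 0x70001)))) (.node 181 (.node 179 (.node 178 (.leaf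 0x1080002) (.leaf 0x1070002)) (.node 180 (.leaf 0x8060002) (.leaf 0x8050002))) (.node 183 (.node 182 (.leaf 0x108060003) (.leaf 0x108050003)) (.node 184 (.leaf 0x80001) (.leaf 0x70001))))))

def nodeWS_10 : Store := (.node 154 nodeWS_8 nodeWS_9)

def nodeWS_11 : Store := (.node 200 (.node 192 (.node 188 (.node 186 (.leaf 0x1080002) (.node 187 (.leaf 0x1070002) (.leaf 0x8050002))) (.node 190 (.node 189 (.leaf 0x108050003) (.leaf 0x80001)) (.node 191 (.leaf 0x70001) (.leaf 0x1080002)))) (.node 196 (.node 194 (.node 193 (.leaf 0x1070002) (.leaf 0x8060002)) (.node 195 (.leaf 0x8050002) (.leaf 0x108060003))) (.node 198 (.node 197 (.leaf 0x108050003) (.leaf 0x70001)) (.node 199 (.leaf 0x1070002) (.leaf 0x8060002))))) (.node 208 (.node 204 (.node 202 (.node 201 (.leaf 0x8050002) (.leaf 0x108060003)) (.node 203 (.leaf 0x108050003) (.leaf 0x80001))) (.node 206 (.node 205 (.leaf 0x70001) (.leaf 0x1080002)) (.node 207 (.leaf 0x1070002) (.leaf 0x8060002))))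 (.node 212 (.node 210 (.node 209 (.leaf 0x8050002) (.leaf 0x108060003)) (.node 211 (.leaf 0x108050003) (.leaf 0x80001))) (.node 214 (.node 213 (.leaf 0x70001) (.leaf 0x1070002)) (.node 215 (.leaf 0x8060002) (.leaf 0x8050002))))))

def nodeWS_12 : Store := (.node 231 (.node 223 (.node 219 (.node 217 (.leaf 0x108060003) (.node 218 (.leaf 0x108050003) (.leaf 0x80001))) (.node 221 (.node 220 (.leaf 0x70001) (.leaf 0x1080002)) (.node 222 (.leaf 0x1070002) (.leaf 0x8060002)))) (.node 227 (.node 225 (.node 224 (.leaf 0x8050002) (.leaf 0x108060003)) (.node 226 (.leaf 0x108050003) (.leaf 0x80001))) (.node 229 (.node 228 (.leaf 0x70001) (.leaf 0x1080002)) (.node 230 (.leaf 0x1070002) (.leaf 0x8050002))))) (.node 239 (.node 235 (.node 233 (.node 232 (.leaf 0x108050003) (.leaf 0x80001)) (.node 234 (.leaf 0x70001) (.leaf 0x1080002))) (.node 237 (.node 236 (.leaf 0x1070002) (.leaf 0x8060002)) (.node 238 (.leaf 0x8050002) (.leaf 0x108060003)))) (.node 243 (.node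 241 (.node 240 (.leaf 0x108050003) (.leaf 0x80001)) (.node 242 (.leaf 0x70001) (.leaf 0x1080002))) (.node 245 (.node 244 (.leaf 0x1070002) (.leaf 0x8060002)) (.node 246 (.leaf 0x108060003) (.leaf 0x80001))))))

def nodeWS_13 : Store := (.node 216 nodeWS_11 nodeWS_12)

def nodeWS_14 : Store := (.node 185 nodeWS_10 nodeWS_13)

def nodeWS_15 : Store := (.node 123 nodeWS_7 nodeWS_14)

def nodeWS_16 : Store := (.node 262 (.node 254 (.node 250 (.node 248 (.leaf 0x70001) (.node 249 (.leaf 0x1080002) (.leaf 0x1070002))) (.node 252 (.node 251 (.leaf 0x8060002) (.leaf 0x8050002)) (.node 253 (.leaf 0x108060003) (.leaf 0x108050003)))) (.node 258 (.node 256 (.node 255 (.leaf 0x80001) (.leaf 0x1080002)) (.node 257 (.leaf 0x8060002) (.leaf 0x8050002))) (.node 260 (.node 259 (.leaf 0x108060003) (.leaf 0x108050003)) (.node 261 (.leaf 0x80001) (.leaf 0x70001))))) (.node 269 (.node 265 (.node 263 (.leaf 0x1080002) (.node 264 (.leaf 0x1070002) (.leaf 0x8060002)))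 (.node 267 (.node 266 (.leaf 0x8050002) (.leaf 0x108060003)) (.node 268 (.leaf 0x108050003) (.leaf 0x80001)))) (.node 273 (.node 271 (.node 270 (.leaf 0x70001) (.leaf 0x1080002)) (.node 272 (.leaf 0x1070002) (.leaf 0x8050002))) (.node 275 (.node 274 (.leaf 0x108050003) (.leaf 0x80001)) (.node 276 (.leaf 0x70001) (.leaf 0x1080002))))))

def nodeWS_17 : Store := (.node 292 (.node 284 (.node 280 (.node 278 (.leaf 0x1070002) (.node 279 (.leaf 0x8060002) (.leaf 0x8050002))) (.node 282 (.node 281 (.leaf 0x108060003) (.leaf 0x108050003)) (.node 283 (.leaf 0x70001) (.leaf 0x1070002)))) (.node 288 (.node 286 (.node 285 (.leaf 0x8060002) (.leaf 0x8050002)) (.node 287 (.leaf 0x108060003) (.leaf 0x108050003))) (.node 290 (.node 289 (.leaf 0x80001) (.leaf 0x70001)) (.node 291 (.leaf 0x1080002) (.leaf 0x1070002))))) (.node 300 (.node 296 (.node 294 (.node 293 (.leaf 0x8060002) (.leaf 0x8050002)) (.node 295 (.leaf 0x108060003) (.leaf 0x108050003))) (.node 298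 (.node 297 (.leaf 0x80001) (.leaf 0x70001)) (.node 299 (.leaf 0x1080002) (.leaf 0x1070002)))) (.node 304 (.node 302 (.node 301 (.leaf 0x8050002) (.leaf 0x108060003)) (.node 303 (.leaf 0x108050003) (.leaf 0x80001))) (.node 306 (.node 305 (.leaf 0x70001) (.leaf 0x1080002)) (.node 307 (.leaf 0x1070002) (.leaf 0x8060002))))))

def nodeWS_18 : Store := (.node 277 nodeWS_16 nodeWS_17)

def nodeWS_19 : Store := (.node 323 (.node 315 (.node 311 (.node 309 (.leaf 0x8050002) (.node 310 (.leaf 0x108060003) (.leaf 0x108050003))) (.node 313 (.node 312 (.leaf 0x70001) (.leaf 0x1070002)) (.node 314 (.leaf 0x8060002) (.leaf 0x8050002)))) (.node 319 (.node 317 (.node 316 (.leaf 0x108060003) (.leaf 0x108050003)) (.node 318 (.leaf 0x80001) (.leaf 0x70001))) (.node 321 (.node 320 (.leaf 0x1080002) (.leaf 0x1070002)) (.node 322 (.leaf 0x8060002) (.leaf 0x8050002))))) (.node 331 (.node 327 (.node 325 (.node 324 (.leaf 0x108060003) (.leaf 0x108050003)) (.node 326 (.leaf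 0x80001) (.leaf 0x70001))) (.node 329 (.node 328 (.leaf 0x1080002) (.leaf 0x1070002)) (.node 330 (.leaf 0x8060002) (.leaf 0x8050002)))) (.node 335 (.node 333 (.node 332 (.leaf 0x108060003) (.leaf 0x108050003)) (.node 334 (.leaf 0x70001) (.leaf 0x1070002))) (.node 337 (.node 336 (.leaf 0x8060002) (.leaf 0x8050002)) (.node 338 (.leaf 0x108060003) (.leaf 0x108050003))))))

def nodeWS_20 : Store := (.node 354 (.node 346 (.node 342 (.node 340 (.leaf 0x80001) (.node 341 (.leaf 0x70001) (.leaf 0x1080002))) (.node 344 (.node 343 (.leaf 0x1070002) (.leaf 0x8060002)) (.node 345 (.leaf 0x8050002) (.leaf 0x108060003)))) (.node 350 (.node 348 (.node 347 (.leaf 0x108050003) (.leaf 0x80001)) (.node 349 (.leaf 0x70001) (.leaf 0x1080002))) (.node 352 (.node 351 (.leaf 0x1070002) (.leaf 0x8060002)) (.node 353 (.leaf 0x108060003) (.leaf 0x80001))))) (.node 362 (.node 358 (.node 356 (.node 355 (.leaf 0x70001) (.leaf 0x1080002)) (.node 357 (.leaf 0x1070002) (.leaf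 0x8060002))) (.node 360 (.node 359 (.leaf 0x8050002) (.leaf 0x108060003)) (.node 361 (.leaf 0x108050003) (.leaf 0x80001)))) (.node 366 (.node 364 (.node 363 (.leaf 0x1080002) (.leaf 0x8060002)) (.node 365 (.leaf 0x108060003) (.leaf 0x80001))) (.node 368 (.node 367 (.leaf 0x70001) (.leaf 0x1080002)) (.node 369 (.leaf 0x1070002) (.leaf 0x8060002))))))

def nodeWS_21 : Store := (.node 339 nodeWS_19 nodeWS_20)

def nodeWS_22 : Store := (.node 308 nodeWS_18 nodeWS_21)

def nodeWS_23 : Store := (.node 385 (.node 377 (.node 373 (.node 371 (.leaf 0x8050002) (.node 372 (.leaf 0x108060003) (.leaf 0x108050003))) (.node 375 (.node 374 (.leaf 0x80001) (.leaf 0x70001)) (.node 376 (.leaf 0x1080002) (.leaf 0x1070002)))) (.node 381 (.node 379 (.node 378 (.leaf 0x8060002) (.leaf 0x8050002)) (.node 380 (.leaf 0x108060003) (.leaf 0x80001))) (.node 383 (.node 382 (.leaf 0x70001) (.leaf 0x1080002)) (.node 384 (.leaf 0x1070002) (.leaf 0x8060002))))) (.node 393 (.node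 389 (.node 387 (.node 386 (.leaf 0x8050002) (.leaf 0x108060003)) (.node 388 (.leaf 0x108050003) (.leaf 0x70001))) (.node 391 (.node 390 (.leaf 0x1080002) (.leaf 0x1070002)) (.node 392 (.leaf 0x80001) (.leaf 0x70001)))) (.node 397 (.node 395 (.node 394 (.leaf 0x1080002) (.leaf 0x1070002)) (.node 396 (.leaf 0x8060002) (.leaf 0x8050002))) (.node 399 (.node 398 (.leaf 0x108060003) (.leaf 0x108050003)) (.node 400 (.leaf 0x70001) (.leaf 0x8060002))))))

def nodeWS_24 : Store := (.node 416 (.node 408 (.node 404 (.node 402 (.leaf 0x8050002) (.node 403 (.leaf 0x80001) (.leaf 0x70001))) (.node 406 (.node 405 (.leaf 0x1080002) (.leaf 0x1070002)) (.node 407 (.leaf 0x8060002) (.leaf 0x8050002)))) (.node 412 (.node 410 (.node 409 (.leaf 0x108060003) (.leaf 0x108050003)) (.node 411 (.leaf 0x80001) (.leaf 0x70001))) (.node 414 (.node 413 (.leaf 0x1080002) (.leaf 0x1070002)) (.node 415 (.leaf 0x8060002) (.leaf 0x8050002))))) (.node 424 (.node 420 (.node 418 (.node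 417 (.leaf 0x108060003) (.leaf 0x108050003)) (.node 419 (.leaf 0x80001) (.leaf 0x70001))) (.node 422 (.node 421 (.leaf 0x1070002) (.leaf 0x8060002)) (.node 423 (.leaf 0x8050002) (.leaf 0x108060003)))) (.node 428 (.node 426 (.node 425 (.leaf 0x108050003) (.leaf 0x80001)) (.node 427 (.leaf 0x70001) (.leaf 0x1080002))) (.node 430 (.node 429 (.leaf 0x1070002) (.leaf 0x8060002)) (.node 431 (.leaf 0x8050002) (.leaf 0x108060003))))))

def nodeWS_25 : Store := (.node 401 nodeWS_23 nodeWS_24)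

def nodeWS_26 : Store := (.node 447 (.node 439 (.node 435 (.node 433 (.leaf 0x108050003) (.node 434 (.leaf 0x80001) (.leaf 0x70001))) (.node 437 (.node 436 (.leaf 0x1080002) (.leaf 0x1070002)) (.node 438 (.leaf 0x8060002) (.leaf 0x8050002)))) (.node 443 (.node 441 (.node 440 (.leaf 0x108060003) (.leaf 0x108050003)) (.node 442 (.leaf 0x80001) (.leaf 0x70001))) (.node 445 (.node 444 (.leaf 0x1070002) (.leaf 0x8060002)) (.node 446 (.leaf 0x8050002) (.leaf 0x108060003))))) (.node 455 (.node 451 (.node 449 (.node 448 (.leaf 0x108050003) (.leaf 0x80001)) (.node 450 (.leaf 0x70001) (.leaf 0x1080002))) (.node 453 (.node 452 (.leaf 0x1070002) (.leaf 0x8060002)) (.node 454 (.leaf 0x8050002) (.leaf 0x108060003)))) (.node 459 (.node 457 (.node 456 (.leaf 0x80001) (.leaf 0x70001)) (.node 458 (.leaf 0x1080002) (.leaf 0x1070002))) (.node 461 (.node 460 (.leaf 0x8060002) (.leaf 0x8050002)) (.node 462 (.leaf 0x108060003) (.leaf 0x108050003))))))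

def nodeWS_27 : Store := (.node 478 (.node 470 (.node 466 (.node 464 (.leaf 0x80001) (.node 465 (.leaf 0x70001) (.leaf 0x1080002))) (.node 468 (.node 467 (.leaf 0x1070002) (.leaf 0x80001)) (.node 469 (.leaf 0x70001) (.leaf 0x8060002)))) (.node 474 (.node 472 (.node 471 (.leaf 0x8050002) (.leaf 0x80001)) (.node 473 (.leaf 0x70001) (.leaf 0x1080002))) (.node 476 (.node 475 (.leaf 0x1070002) (.leaf 0x8050002)) (.node 477 (.leaf 0x108050003) (.leaf 0x80001))))) (.node 486 (.node 482 (.node 480 (.node 479 (.leaf 0x70001) (.leaf 0x1080002)) (.node 481 (.leaf 0x1070002) (.leaf 0x8060002))) (.node 484 (.node 483 (.leaf 0x8050002) (.leaf 0x108060003)) (.node 485 (.leaf 0x108050003) (.leaf 0x70001)))) (.node 490 (.node 488 (.node 487 (.leaf 0x1070002) (.leaf 0x8060002)) (.node 489 (.leaf 0x8050002) (.leaf 0x108060003))) (.node 492 (.node 491 (.leaf 0x108050003) (.leaf 0x80001)) (.node 493 (.leaf 0x70001) (.leaf 0x1080002))))))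

def nodeWS_28 : Store := (.node 463 nodeWS_26 nodeWS_27)

def nodeWS_29 : Store := (.node 432 nodeWS_25 nodeWS_28)

def nodeWS_30 : Store := (.node 370 nodeWS_22 nodeWS_29)

def nodeWS_31 : Store := (.node 247 nodeWS_15 nodeWS_30)

def nodeWS_32 : Store := (.node 509 (.node 501 (.node 497 (.node 495 (.leaf 0x8060002) (.node 496 (.leaf 0x8050002) (.leaf 0x108060003))) (.node 499 (.node 498 (.leaf 0x108050003) (.leaf 0x80001)) (.node 500 (.leaf 0x70001) (.leaf 0x1080002)))) (.node 505 (.node 503 (.node 502 (.leaf 0x1070002) (.leaf 0x8050002)) (.node 504 (.leaf 0x108060003) (.leaf 0x108050003))) (.node 507 (.node 506 (.leaf 0x80001) (.leaf 0x70001)) (.node 508 (.leaf 0x1080002) (.leaf 0x1070002))))) (.node 516 (.node 512 (.node 510 (.leaf 0x8060002) (.node 511 (.leaf 0x8050002) (.leaf 0x108060003))) (.node 514 (.node 513 (.leaf 0x108050003) (.leaf 0x70001)) (.node 515 (.leaf 0x1080002) (.leaf 0x1070002)))) (.node 520 (.node 518 (.node 517 (.leaf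 0x8050002) (.leaf 0x108060003)) (.node 519 (.leaf 0x108050003) (.leaf 0x70001))) (.node 522 (.node 521 (.leaf 0x1070002) (.leaf 0x8060002)) (.node 523 (.leaf 0x8050002) (.leaf 0x108060003))))))

def nodeWS_33 : Store := (.node 539 (.node 531 (.node 527 (.node 525 (.leaf 0x108050003) (.node 526 (.leaf 0x80001) (.leaf 0x70001))) (.node 529 (.node 528 (.leaf 0x1080002) (.leaf 0x1070002)) (.node 530 (.leaf 0x8060002) (.leaf 0x8050002)))) (.node 535 (.node 533 (.node 532 (.leaf 0x108050003) (.leaf 0x70001)) (.node 534 (.leaf 0x1070002) (.leaf 0x8060002))) (.node 537 (.node 536 (.leaf 0x108060003) (.leaf 0x108050003)) (.node 538 (.leaf 0x80001) (.leaf 0x1080002))))) (.node 547 (.node 543 (.node 541 (.node 540 (.leaf 0x1070002) (.leaf 0x8060002)) (.node 542 (.leaf 0x8050002) (.leaf 0x108060003))) (.node 545 (.node 544 (.leaf 0x108050003) (.leaf 0x80001)) (.node 546 (.leaf 0x70001) (.leaf 0x1080002)))) (.node 551 (.node 549 (.node 548 (.leaf 0x1070002)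 (.leaf 0x8060002)) (.node 550 (.leaf 0x8050002) (.leaf 0x108060003))) (.node 553 (.node 552 (.leaf 0x108050003) (.leaf 0x80001)) (.node 554 (.leaf 0x70001) (.leaf 0x1080002))))))

def nodeWS_34 : Store := (.node 524 nodeWS_32 nodeWS_33)

def nodeWS_35 : Store := (.node 570 (.node 562 (.node 558 (.node 556 (.leaf 0x1070002) (.node 557 (.leaf 0x80001) (.leaf 0x70001))) (.node 560 (.node 559 (.leaf 0x1080002) (.leaf 0x1070002)) (.node 561 (.leaf 0x8060002) (.leaf 0x8050002)))) (.node 566 (.node 564 (.node 563 (.leaf 0x108060003) (.leaf 0x108050003)) (.node 565 (.leaf 0x70001) (.leaf 0x1070002))) (.node 568 (.node 567 (.leaf 0x8060002) (.leaf 0x8050002)) (.node 569 (.leaf 0x108060003) (.leaf 0x108050003))))) (.node 578 (.node 574 (.node 572 (.node 571 (.leaf 0x70001) (.leaf 0x1070002)) (.node 573 (.leaf 0x8060002) (.leaf 0x8050002))) (.node 576 (.node 575 (.leaf 0x108060003) (.leaf 0x108050003)) (.node 577 (.leaf 0x80001) (.leaf 0x70001)))) (.node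 582 (.node 580 (.node 579 (.leaf 0x1080002) (.leaf 0x1070002)) (.node 581 (.leaf 0x8060002) (.leaf 0x8050002))) (.node 584 (.node 583 (.leaf 0x108060003) (.leaf 0x108050003)) (.node 585 (.leaf 0x80001) (.leaf 0x70001))))))

def nodeWS_36 : Store := (.node 601 (.node 593 (.node 589 (.node 587 (.leaf 0x1080002) (.node 588 (.leaf 0x1070002) (.leaf 0x8050002))) (.node 591 (.node 590 (.leaf 0x108050003) (.leaf 0x80001)) (.node 592 (.leaf 0x70001) (.leaf 0x1070002)))) (.node 597 (.node 595 (.node 594 (.leaf 0x8060002) (.leaf 0x8050002)) (.node 596 (.leaf 0x108060003) (.leaf 0x108050003))) (.node 599 (.node 598 (.leaf 0x80001) (.leaf 0x70001)) (.node 600 (.leaf 0x1080002) (.leaf 0x1070002))))) (.node 609 (.node 605 (.node 603 (.node 602 (.leaf 0x8060002) (.leaf 0x108060003)) (.node 604 (.leaf 0x108050003) (.leaf 0x80001))) (.node 607 (.node 606 (.leaf 0x70001) (.leaf 0x1080002)) (.node 608 (.leaf 0x1070002) (.leaf 0x8060002)))) (.node 613 (.node 611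 (.node 610 (.leaf 0x8050002) (.leaf 0x108060003)) (.node 612 (.leaf 0x108050003) (.leaf 0x80001))) (.node 615 (.node 614 (.leaf 0x70001) (.leaf 0x1080002)) (.node 616 (.leaf 0x1070002) (.leaf 0x8060002))))))

def nodeWS_37 : Store := (.node 586 nodeWS_35 nodeWS_36)

def nodeWS_38 : Store := (.node 555 nodeWS_34 nodeWS_37)

def nodeWS_39 : Store := (.node 632 (.node 624 (.node 620 (.node 618 (.leaf 0x8050002) (.node 619 (.leaf 0x108060003) (.leaf 0x108050003))) (.node 622 (.node 621 (.leaf 0x80001) (.leaf 0x70001)) (.node 623 (.leaf 0x1080002) (.leaf 0x1070002)))) (.node 628 (.node 626 (.node 625 (.leaf 0x8060002) (.leaf 0x8050002)) (.node 627 (.leaf 0x108060003) (.leaf 0x108050003))) (.node 630 (.node 629 (.leaf 0x80001) (.leaf 0x70001)) (.node 631 (.leaf 0x1080002) (.leaf 0x1070002))))) (.node 640 (.node 636 (.node 634 (.node 633 (.leaf 0x8050002) (.leaf 0x108060003)) (.node 635 (.leaf 0x108050003) (.leaf 0x70001))) (.node 638 (.node 637 (.leaf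 0x1080002) (.leaf 0x1070002)) (.node 639 (.leaf 0x8060002) (.leaf 0x8050002)))) (.node 644 (.node 642 (.node 641 (.leaf 0x108060003) (.leaf 0x108050003)) (.node 643 (.leaf 0x80001) (.leaf 0x70001))) (.node 646 (.node 645 (.leaf 0x1080002) (.leaf 0x8060002)) (.node 647 (.leaf 0x8050002) (.leaf 0x108060003))))))

def nodeWS_40 : Store := (.node 663 (.node 655 (.node 651 (.node 649 (.leaf 0x108050003) (.node 650 (.leaf 0x80001) (.leaf 0x1080002))) (.node 653 (.node 652 (.leaf 0x1070002) (.leaf 0x8050002)) (.node 654 (.leaf 0x108050003) (.leaf 0x80001)))) (.node 659 (.node 657 (.node 656 (.leaf 0x70001) (.leaf 0x1080002)) (.node 658 (.leaf 0x1070002) (.leaf 0x8060002))) (.node 661 (.node 660 (.leaf 0x8050002) (.leaf 0x108050003)) (.node 662 (.leaf 0x80001) (.leaf 0x70001))))) (.node 671 (.node 667 (.node 665 (.node 664 (.leaf 0x1070002) (.leaf 0x8060002)) (.node 666 (.leaf 0x8050002) (.leaf 0x108060003))) (.node 669 (.node 668 (.leaf 0x108050003)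 (.leaf 0x80001)) (.node 670 (.leaf 0x70001) (.leaf 0x1080002)))) (.node 675 (.node 673 (.node 672 (.leaf 0x1070002) (.leaf 0x8060002)) (.node 674 (.leaf 0x8050002) (.leaf 0x108060003))) (.node 677 (.node 676 (.leaf 0x108050003) (.leaf 0x70001)) (.node 678 (.leaf 0x1070002) (.leaf 0x8060002))))))

def nodeWS_41 : Store := (.node 648 nodeWS_39 nodeWS_40)

def nodeWS_42 : Store := (.node 694 (.node 686 (.node 682 (.node 680 (.leaf 0x8050002) (.node 681 (.leaf 0x108060003) (.leaf 0x108050003))) (.node 684 (.node 683 (.leaf 0x80001) (.leaf 0x70001)) (.node 685 (.leaf 0x1080002) (.leaf 0x1070002)))) (.node 690 (.node 688 (.node 687 (.leaf 0x8060002) (.leaf 0x8050002)) (.node 689 (.leaf 0x108060003) (.leaf 0x108050003))) (.node 692 (.node 691 (.leaf 0x80001) (.leaf 0x70001)) (.node 693 (.leaf 0x1080002) (.leaf 0x1070002))))) (.node 702 (.node 698 (.node 696 (.node 695 (.leaf 0x8060002) (.leaf 0x8050002)) (.node 697 (.leaf 0x108060003) (.leaf 0x108050003)))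 (.node 700 (.node 699 (.leaf 0x80001) (.leaf 0x70001)) (.node 701 (.leaf 0x1080002) (.leaf 0x1070002)))) (.node 706 (.node 704 (.node 703 (.leaf 0x8060002) (.leaf 0x108060003)) (.node 705 (.leaf 0x108050003) (.leaf 0x80001))) (.node 708 (.node 707 (.leaf 0x1080002) (.leaf 0x1070002)) (.node 709 (.leaf 0x8060002) (.leaf 0x8050002))))))

def nodeWS_43 : Store := (.node 725 (.node 717 (.node 713 (.node 711 (.leaf 0x108060003) (.node 712 (.leaf 0x108050003) (.leaf 0x80001))) (.node 715 (.node 714 (.leaf 0x70001) (.leaf 0x1080002)) (.node 716 (.leaf 0x1070002) (.leaf 0x80001)))) (.node 721 (.node 719 (.node 718 (.leaf 0x70001) (.leaf 0x1080002)) (.node 720 (.leaf 0x1070002) (.leaf 0x8060002))) (.node 723 (.node 722 (.leaf 0x8050002) (.leaf 0x108060003)) (.node 724 (.leaf 0x108050003) (.leaf 0x70001))))) (.node 733 (.node 729 (.node 727 (.node 726 (.leaf 0x8060002) (.leaf 0x8050002)) (.node 728 (.leaf 0x80001) (.leaf 0x70001))) (.node 731 (.node 730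 (.leaf 0x1080002) (.leaf 0x1070002)) (.node 732 (.leaf 0x8060002) (.leaf 0x8050002)))) (.node 737 (.node 735 (.node 734 (.leaf 0x108060003) (.leaf 0x108050003)) (.node 736 (.leaf 0x80001) (.leaf 0x70001))) (.node 739 (.node 738 (.leaf 0x1080002) (.leaf 0x1070002)) (.node 740 (.leaf 0x70001) (.leaf 0x1080002))))))

def nodeWS_44 : Store := (.node 710 nodeWS_42 nodeWS_43)

def nodeWS_45 : Store := (.node 679 nodeWS_41 nodeWS_44)

def nodeWS_46 : Store := (.node 617 nodeWS_38 nodeWS_45)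

def nodeWS_47 : Store := (.node 756 (.node 748 (.node 744 (.node 742 (.leaf 0x1070002) (.node 743 (.leaf 0x8050002) (.leaf 0x108050003))) (.node 746 (.node 745 (.leaf 0x70001) (.leaf 0x1070002)) (.node 747 (.leaf 0x8060002) (.leaf 0x8050002)))) (.node 752 (.node 750 (.node 749 (.leaf 0x108060003) (.leaf 0x108050003)) (.node 751 (.leaf 0x80001) (.leaf 0x70001))) (.node 754 (.node 753 (.leaf 0x1080002) (.leaf 0x1070002)) (.node 755 (.leaf 0x8050002) (.leaf 0x108060003))))) (.node 764 (.node 760 (.node 758 (.node 757 (.leaf 0x108050003) (.leaf 0x80001)) (.node 759 (.leaf 0x70001) (.leaf 0x1080002))) (.node 762 (.node 761 (.leaf 0x1070002) (.leaf 0x8050002)) (.node 763 (.leaf 0x108060003) (.leaf 0x108050003)))) (.node 768 (.node 766 (.node 765 (.leaf 0x70001) (.leaf 0x1070002)) (.node 767 (.leaf 0x8060002) (.leaf 0x8050002))) (.node 770 (.node 769 (.leaf 0x108060003) (.leaf 0x108050003)) (.node 771 (.leaf 0x70001) (.leaf 0x1080002))))))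

def nodeWS_48 : Store := (.node 787 (.node 779 (.node 775 (.node 773 (.leaf 0x1070002) (.node 774 (.leaf 0x8060002) (.leaf 0x8050002))) (.node 777 (.node 776 (.leaf 0x108060003) (.leaf 0x108050003)) (.node 778 (.leaf 0x80001) (.leaf 0x70001)))) (.node 783 (.node 781 (.node 780 (.leaf 0x1080002) (.leaf 0x1070002)) (.node 782 (.leaf 0x1080002) (.leaf 0x8060002))) (.node 785 (.node 784 (.leaf 0x8050002) (.leaf 0x80001)) (.node 786 (.leaf 0x70001) (.leaf 0x1080002))))) (.node 795 (.node 791 (.node 789 (.node 788 (.leaf 0x1070002) (.leaf 0x8060002)) (.node 790 (.leaf 0x8050002) (.leaf 0x108060003))) (.node 793 (.node 792 (.leaf 0x108050003) (.leaf 0x70001)) (.node 794 (.leaf 0x1080002) (.leaf 0x1070002)))) (.node 799 (.node 797 (.node 796 (.leaf 0x8060002) (.leaf 0x8050002)) (.node 798 (.leaf 0x108060003) (.leaf 0x108050003))) (.node 801 (.node 800 (.leaf 0x80001) (.leaf 0x70001)) (.node 802 (.leaf 0x1080002) (.leaf 0x1070002))))))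

def nodeWS_49 : Store := (.node 772 nodeWS_47 nodeWS_48)

def nodeWS_50 : Store := (.node 818 (.node 810 (.node 806 (.node 804 (.leaf 0x8050002) (.node 805 (.leaf 0x108050003) (.leaf 0x80001))) (.node 808 (.node 807 (.leaf 0x70001) (.leaf 0x1080002)) (.node 809 (.leaf 0x1070002) (.leaf 0x8060002)))) (.node 814 (.node 812 (.node 811 (.leaf 0x8050002) (.leaf 0x108050003)) (.node 813 (.leaf 0x1070002) (.leaf 0x8060002))) (.node 816 (.node 815 (.leaf 0x8050002) (.leaf 0x108060003)) (.node 817 (.leaf 0x108050003) (.leaf 0x80001))))) (.node 826 (.node 822 (.node 820 (.node 819 (.leaf 0x1080002) (.leaf 0x1070002)) (.node 821 (.leaf 0x8060002) (.leaf 0x8050002))) (.node 824 (.node 823 (.leaf 0x108060003) (.leaf 0x108050003)) (.node 825 (.leaf 0x80001) (.leaf 0x70001)))) (.node 830 (.node 828 (.node 827 (.leaf 0x1080002) (.leaf 0x1070002)) (.node 829 (.leaf 0x8060002) (.leaf 0x8050002))) (.node 832 (.node 831 (.leaf 0x108050003) (.leaf 0x70001)) (.node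 833 (.leaf 0x1070002) (.leaf 0x8060002))))))

def nodeWS_51 : Store := (.node 849 (.node 841 (.node 837 (.node 835 (.leaf 0x8050002) (.node 836 (.leaf 0x108050003) (.leaf 0x70001))) (.node 839 (.node 838 (.leaf 0x1070002) (.leaf 0x8060002)) (.node 840 (.leaf 0x8050002) (.leaf 0x108060003)))) (.node 845 (.node 843 (.node 842 (.leaf 0x108050003) (.leaf 0x80001)) (.node 844 (.leaf 0x70001) (.leaf 0x1080002))) (.node 847 (.node 846 (.leaf 0x8060002) (.leaf 0x108060003)) (.node 848 (.leaf 0x70001) (.leaf 0x1070002))))) (.node 857 (.node 853 (.node 851 (.node 850 (.leaf 0x8060002) (.leaf 0x8050002)) (.node 852 (.leaf 0x108060003) (.leaf 0x108050003))) (.node 855 (.node 854 (.leaf 0x70001) (.leaf 0x1080002)) (.node 856 (.leaf 0x1070002) (.leaf 0x8060002)))) (.node 861 (.node 859 (.node 858 (.leaf 0x108060003) (.leaf 0x1070002)) (.node 860 (.leaf 0x8060002) (.leaf 0x8050002))) (.node 863 (.node 862 (.leaf 0x108060003) (.leaf 0x108050003)) (.node 864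 (.leaf 0x80001) (.leaf 0x70001))))))

def nodeWS_52 : Store := (.node 834 nodeWS_50 nodeWS_51)

def nodeWS_53 : Store := (.node 803 nodeWS_49 nodeWS_52)

def nodeWS_54 : Store := (.node 880 (.node 872 (.node 868 (.node 866 (.leaf 0x1080002) (.node 867 (.leaf 0x1070002) (.leaf 0x8050002))) (.node 870 (.node 869 (.leaf 0x1080002) (.leaf 0x8060002)) (.node 871 (.leaf 0x8050002) (.leaf 0x108060003)))) (.node 876 (.node 874 (.node 873 (.leaf 0x108050003) (.leaf 0x80001)) (.node 875 (.leaf 0x70001) (.leaf 0x1080002))) (.node 878 (.node 877 (.leaf 0x1070002) (.leaf 0x8060002)) (.node 879 (.leaf 0x108060003) (.leaf 0x80001))))) (.node 888 (.node 884 (.node 882 (.node 881 (.leaf 0x70001) (.leaf 0x1080002)) (.node 883 (.leaf 0x1070002) (.leaf 0x8050002))) (.node 886 (.node 885 (.leaf 0x108050003) (.leaf 0x80001)) (.node 887 (.leaf 0x70001) (.leaf 0x1080002)))) (.node 892 (.node 890 (.node 889 (.leaf 0x1070002) (.leaf 0x80001)) (.node 891 (.leaf 0x70001)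 (.leaf 0x1070002))) (.node 894 (.node 893 (.leaf 0x8060002) (.leaf 0x8050002)) (.node 895 (.leaf 0x108060003) (.leaf 0x108050003))))))

def nodeWS_55 : Store := (.node 911 (.node 903 (.node 899 (.node 897 (.leaf 0x80001) (.node 898 (.leaf 0x70001) (.leaf 0x8060002))) (.node 901 (.node 900 (.leaf 0x8050002) (.leaf 0x80001)) (.node 902 (.leaf 0x70001) (.leaf 0x1070002)))) (.node 907 (.node 905 (.node 904 (.leaf 0x8060002) (.leaf 0x8050002)) (.node 906 (.leaf 0x108060003) (.leaf 0x108050003))) (.node 909 (.node 908 (.leaf 0x80001) (.leaf 0x70001)) (.node 910 (.leaf 0x1080002) (.leaf 0x1070002))))) (.node 919 (.node 915 (.node 913 (.node 912 (.leaf 0x8060002) (.leaf 0x8050002)) (.node 914 (.leaf 0x108060003) (.leaf 0x108050003))) (.node 917 (.node 916 (.leaf 0x80001) (.leaf 0x70001)) (.node 918 (.leaf 0x1080002) (.leaf 0x1070002)))) (.node 923 (.node 921 (.node 920 (.leaf 0x8050002) (.leaf 0x108050003)) (.node 922 (.leaf 0x80001) (.leaf 0x70001)))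 (.node 925 (.node 924 (.leaf 0x1080002) (.leaf 0x1070002)) (.node 926 (.leaf 0x8060002) (.leaf 0x8050002))))))

def nodeWS_56 : Store := (.node 896 nodeWS_54 nodeWS_55)

def nodeWS_57 : Store := (.node 942 (.node 934 (.node 930 (.node 928 (.leaf 0x108060003) (.node 929 (.leaf 0x108050003) (.leaf 0x80001))) (.node 932 (.node 931 (.leaf 0x70001) (.leaf 0x1080002)) (.node 933 (.leaf 0x1070002) (.leaf 0x8060002)))) (.node 938 (.node 936 (.node 935 (.leaf 0x108060003) (.leaf 0x80001)) (.node 937 (.leaf 0x70001) (.leaf 0x1080002))) (.node 940 (.node 939 (.leaf 0x1070002) (.leaf 0x8060002)) (.node 941 (.leaf 0x8050002) (.leaf 0x108060003))))) (.node 950 (.node 946 (.node 944 (.node 943 (.leaf 0x108050003) (.leaf 0x80001)) (.node 945 (.leaf 0x1080002) (.leaf 0x8060002))) (.node 948 (.node 947 (.leaf 0x8050002) (.leaf 0x108060003)) (.node 949 (.leaf 0x108050003) (.leaf 0x80001)))) (.node 954 (.node 952 (.node 951 (.leaf 0x70001) (.leaf 0x1080002)) (.node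 953 (.leaf 0x1070002) (.leaf 0x8060002))) (.node 956 (.node 955 (.leaf 0x8050002) (.leaf 0x108060003)) (.node 957 (.leaf 0x108050003) (.leaf 0x80001))))))

def nodeWS_58 : Store := (.node 973 (.node 965 (.node 961 (.node 959 (.leaf 0x70001) (.node 960 (.leaf 0x1080002) (.leaf 0x1070002))) (.node 963 (.node 962 (.leaf 0x8050002) (.leaf 0x108050003)) (.node 964 (.leaf 0x80001) (.leaf 0x70001)))) (.node 969 (.node 967 (.node 966 (.leaf 0x1080002) (.leaf 0x1070002)) (.node 968 (.leaf 0x8060002) (.leaf 0x8050002))) (.node 971 (.node 970 (.leaf 0x108060003) (.leaf 0x108050003)) (.node 972 (.leaf 0x80001) (.leaf 0x70001))))) (.node 981 (.node 977 (.node 975 (.node 974 (.leaf 0x1080002) (.leaf 0x1070002)) (.node 976 (.leaf 0x8060002) (.leaf 0x8050002))) (.node 979 (.node 978 (.leaf 0x108060003) (.leaf 0x108050003)) (.node 980 (.leaf 0x80001) (.leaf 0x70001)))) (.node 985 (.node 983 (.node 982 (.leaf 0x1080002) (.leaf 0x1070002)) (.node 984 (.leaf 0x8050002)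 (.leaf 0x108060003))) (.node 987 (.node 986 (.leaf 0x108050003) (.leaf 0x80001)) (.node 988 (.leaf 0x70001) (.leaf 0x1080002))))))

def nodeWS_59 : Store := (.node 958 nodeWS_57 nodeWS_58)

def nodeWS_60 : Store := (.node 927 nodeWS_56 nodeWS_59)

def nodeWS_61 : Store := (.node 865 nodeWS_53 nodeWS_60)

def nodeWS_62 : Store := (.node 741 nodeWS_46 nodeWS_61)

def nodeWS_63 : Store := (.node 494 nodeWS_31 nodeWS_62)

def nodeWS_64 : Store := (.node 1004 (.node 996 (.node 992 (.node 990 (.leaf 0x1070002) (.node 991 (.leaf 0x8060002) (.leaf 0x8050002))) (.node 994 (.node 993 (.leaf 0x108060003) (.leaf 0x108050003)) (.node 995 (.leaf 0x70001) (.leaf 0x8060002)))) (.node 1000 (.node 998 (.node 997 (.leaf 0x8050002) (.leaf 0x108060003)) (.node 999 (.leaf 0x108050003) (.leaf 0x80001))) (.node 1002 (.node 1001 (.leaf 0x70001) (.leaf 0x1080002)) (.node 1003 (.leaf 0x1070002) (.leaf 0x8060002))))) (.node 1011 (.node 1007 (.node 1005 (.leaf 0x8050002)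 (.node 1006 (.leaf 0x108060003) (.leaf 0x108050003))) (.node 1009 (.node 1008 (.leaf 0x80001) (.leaf 0x70001)) (.node 1010 (.leaf 0x1080002) (.leaf 0x1070002)))) (.node 1015 (.node 1013 (.node 1012 (.leaf 0x8060002) (.leaf 0x8050002)) (.node 1014 (.leaf 0x108060003) (.leaf 0x70001))) (.node 1017 (.node 1016 (.leaf 0x1070002) (.leaf 0x8060002)) (.node 1018 (.leaf 0x8050002) (.leaf 0x108060003))))))

def nodeWS_65 : Store := (.node 1034 (.node 1026 (.node 1022 (.node 1020 (.leaf 0x108050003) (.node 1021 (.leaf 0x80001) (.leaf 0x70001))) (.node 1024 (.node 1023 (.leaf 0x1080002) (.leaf 0x1070002)) (.node 1025 (.leaf 0x8060002) (.leaf 0x8050002)))) (.node 1030 (.node 1028 (.node 1027 (.leaf 0x108060003) (.leaf 0x108050003)) (.node 1029 (.leaf 0x80001) (.leaf 0x70001))) (.node 1032 (.node 1031 (.leaf 0x1080002) (.leaf 0x1070002)) (.node 1033 (.leaf 0x8060002) (.leaf 0x108060003))))) (.node 1042 (.node 1038 (.node 1036 (.node 1035 (.leaf 0x80001) (.leaf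 0x70001)) (.node 1037 (.leaf 0x1080002) (.leaf 0x1070002))) (.node 1040 (.node 1039 (.leaf 0x8060002) (.leaf 0x8050002)) (.node 1041 (.leaf 0x108060003) (.leaf 0x108050003)))) (.node 1046 (.node 1044 (.node 1043 (.leaf 0x80001) (.leaf 0x1080002)) (.node 1045 (.leaf 0x8060002) (.leaf 0x108060003))) (.node 1048 (.node 1047 (.leaf 0x80001) (.leaf 0x70001)) (.node 1049 (.leaf 0x1080002) (.leaf 0x1070002))))))

def nodeWS_66 : Store := (.node 1019 nodeWS_64 nodeWS_65)

def nodeWS_67 : Store := (.node 1065 (.node 1057 (.node 1053 (.node 1051 (.leaf 0x8060002) (.node 1052 (.leaf 0x8050002) (.leaf 0x108060003))) (.node 1055 (.node 1054 (.leaf 0x108050003) (.leaf 0x80001)) (.node 1056 (.leaf 0x70001) (.leaf 0x1080002)))) (.node 1061 (.node 1059 (.node 1058 (.leaf 0x1070002) (.leaf 0x8060002)) (.node 1060 (.leaf 0x8050002) (.leaf 0x108060003))) (.node 1063 (.node 1062 (.leaf 0x80001) (.leaf 0x70001)) (.node 1064 (.leaf 0x1080002) (.leaf 0x1070002)))))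 (.node 1073 (.node 1069 (.node 1067 (.node 1066 (.leaf 0x8060002) (.leaf 0x8050002)) (.node 1068 (.leaf 0x108060003) (.leaf 0x108050003))) (.node 1071 (.node 1070 (.leaf 0x80001) (.leaf 0x70001)) (.node 1072 (.leaf 0x1080002) (.leaf 0x1070002)))) (.node 1077 (.node 1075 (.node 1074 (.leaf 0x8060002) (.leaf 0x8050002)) (.node 1076 (.leaf 0x108060003) (.leaf 0x108050003))) (.node 1079 (.node 1078 (.leaf 0x80001) (.leaf 0x70001)) (.node 1080 (.leaf 0x1080002) (.leaf 0x1070002))))))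

def nodeWS_68 : Store := (.node 1096 (.node 1088 (.node 1084 (.node 1082 (.leaf 0x8060002) (.node 1083 (.leaf 0x8050002) (.leaf 0x108060003))) (.node 1086 (.node 1085 (.leaf 0x108050003) (.leaf 0x80001)) (.node 1087 (.leaf 0x70001) (.leaf 0x1080002)))) (.node 1092 (.node 1090 (.node 1089 (.leaf 0x1070002) (.leaf 0x8060002)) (.node 1091 (.leaf 0x8050002) (.leaf 0x108060003))) (.node 1094 (.node 1093 (.leaf 0x108050003) (.leaf 0x80001)) (.node 1095 (.leaf 0x70001) (.leaf 0x1080002))))) (.node 1104 (.node 1100 (.node 1098 (.node 1097 (.leaf 0x8060002) (.leaf 0x8050002)) (.node 1099 (.leaf 0x108060003) (.leaf 0x108050003))) (.node 1102 (.node 1101 (.leaf 0x80001) (.leaf 0x70001)) (.node 1103 (.leaf 0x1080002) (.leaf 0x1070002)))) (.node 1108 (.node 1106 (.node 1105 (.leaf 0x8060002) (.leaf 0x8050002)) (.node 1107 (.leaf 0x108060003) (.leaf 0x108050003))) (.node 1110 (.node 1109 (.leaf 0x80001) (.leaf 0x70001)) (.node 1111 (.leaf 0x1080002) (.leaf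 0x1070002))))))

def nodeWS_69 : Store := (.node 1081 nodeWS_67 nodeWS_68)

def nodeWS_70 : Store := (.node 1050 nodeWS_66 nodeWS_69)

def nodeWS_71 : Store := (.node 1127 (.node 1119 (.node 1115 (.node 1113 (.leaf 0x8060002) (.node 1114 (.leaf 0x8050002) (.leaf 0x108060003))) (.node 1117 (.node 1116 (.leaf 0x108050003) (.leaf 0x80001)) (.node 1118 (.leaf 0x70001) (.leaf 0x1080002)))) (.node 1123 (.node 1121 (.node 1120 (.leaf 0x1070002) (.leaf 0x8060002)) (.node 1122 (.leaf 0x8050002) (.leaf 0x108060003))) (.node 1125 (.node 1124 (.leaf 0x108050003) (.leaf 0x80001)) (.node 1126 (.leaf 0x70001) (.leaf 0x1080002))))) (.node 1135 (.node 1131 (.node 1129 (.node 1128 (.leaf 0x1070002) (.leaf 0x8060002)) (.node 1130 (.leaf 0x108060003) (.leaf 0x80001))) (.node 1133 (.node 1132 (.leaf 0x70001) (.leaf 0x1080002)) (.node 1134 (.leaf 0x1070002) (.leaf 0x8060002)))) (.node 1139 (.node 1137 (.node 1136 (.leaf 0x8050002) (.leaf 0x108060003)) (.node 1138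 (.leaf 0x108050003) (.leaf 0x80001))) (.node 1141 (.node 1140 (.leaf 0x70001) (.leaf 0x1080002)) (.node 1142 (.leaf 0x1070002) (.leaf 0x8050002))))))

def nodeWS_72 : Store := (.node 1158 (.node 1150 (.node 1146 (.node 1144 (.leaf 0x108050003) (.node 1145 (.leaf 0x80001) (.leaf 0x70001))) (.node 1148 (.node 1147 (.leaf 0x1080002) (.leaf 0x1070002)) (.node 1149 (.leaf 0x8060002) (.leaf 0x8050002)))) (.node 1154 (.node 1152 (.node 1151 (.leaf 0x108060003) (.leaf 0x108050003)) (.node 1153 (.leaf 0x70001) (.leaf 0x1070002))) (.node 1156 (.node 1155 (.leaf 0x8060002) (.leaf 0x8050002)) (.node 1157 (.leaf 0x108060003) (.leaf 0x108050003))))) (.node 1166 (.node 1162 (.node 1160 (.node 1159 (.leaf 0x80001) (.leaf 0x70001)) (.node 1161 (.leaf 0x1080002) (.leaf 0x1070002))) (.node 1164 (.node 1163 (.leaf 0x8060002) (.leaf 0x8050002)) (.node 1165 (.leaf 0x108060003) (.leaf 0x108050003)))) (.node 1170 (.node 1168 (.node 1167 (.leaf 0x80001) (.leaf 0x70001))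 (.node 1169 (.leaf 0x1080002) (.leaf 0x1070002))) (.node 1172 (.node 1171 (.leaf 0x8060002) (.leaf 0x8050002)) (.node 1173 (.leaf 0x108060003) (.leaf 0x108050003))))))

def nodeWS_73 : Store := (.node 1143 nodeWS_71 nodeWS_72)

def nodeWS_74 : Store := (.node 1189 (.node 1181 (.node 1177 (.node 1175 (.leaf 0x80001) (.node 1176 (.leaf 0x70001) (.leaf 0x1080002))) (.node 1179 (.node 1178 (.leaf 0x1070002) (.leaf 0x8060002)) (.node 1180 (.leaf 0x8050002) (.leaf 0x108060003)))) (.node 1185 (.node 1183 (.node 1182 (.leaf 0x108050003) (.leaf 0x80001)) (.node 1184 (.leaf 0x70001) (.leaf 0x1080002))) (.node 1187 (.node 1186 (.leaf 0x1070002) (.leaf 0x8060002)) (.node 1188 (.leaf 0x8050002) (.leaf 0x108060003))))) (.node 1197 (.node 1193 (.node 1191 (.node 1190 (.leaf 0x108050003) (.leaf 0x70001)) (.node 1192 (.leaf 0x1070002) (.leaf 0x8060002))) (.node 1195 (.node 1194 (.leaf 0x8050002) (.leaf 0x108060003)) (.node 1196 (.leaf 0x108050003) (.leaf 0x80001))))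 (.node 1201 (.node 1199 (.node 1198 (.leaf 0x70001) (.leaf 0x1080002)) (.node 1200 (.leaf 0x1070002) (.leaf 0x8060002))) (.node 1203 (.node 1202 (.leaf 0x8050002) (.leaf 0x108060003)) (.node 1204 (.leaf 0x108050003) (.leaf 0x80001))))))

def nodeWS_75 : Store := (.node 1220 (.node 1212 (.node 1208 (.node 1206 (.leaf 0x70001) (.node 1207 (.leaf 0x1080002) (.leaf 0x1070002))) (.node 1210 (.node 1209 (.leaf 0x8060002) (.leaf 0x108060003)) (.node 1211 (.leaf 0x80001) (.leaf 0x70001)))) (.node 1216 (.node 1214 (.node 1213 (.leaf 0x1080002) (.leaf 0x1070002)) (.node 1215 (.leaf 0x8050002) (.leaf 0x108050003))) (.node 1218 (.node 1217 (.leaf 0x80001) (.leaf 0x1080002)) (.node 1219 (.leaf 0x8060002) (.leaf 0x108060003))))) (.node 1228 (.node 1224 (.node 1222 (.node 1221 (.leaf 0x70001) (.leaf 0x1070002)) (.node 1223 (.leaf 0x8060002) (.leaf 0x8050002))) (.node 1226 (.node 1225 (.leaf 0x108060003) (.leaf 0x108050003)) (.node 1227 (.leaf 0x80001) (.leaf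 0x70001)))) (.node 1232 (.node 1230 (.node 1229 (.leaf 0x1080002) (.leaf 0x1070002)) (.node 1231 (.leaf 0x8060002) (.leaf 0x8050002))) (.node 1234 (.node 1233 (.leaf 0x108060003) (.leaf 0x108050003)) (.node 1235 (.leaf 0x80001) (.leaf 0x70001))))))

def nodeWS_76 : Store := (.node 1205 nodeWS_74 nodeWS_75)

def nodeWS_77 : Store := (.node 1174 nodeWS_73 nodeWS_76)

def nodeWS_78 : Store := (.node 1112 nodeWS_70 nodeWS_77)

def nodeWS_79 : Store := (.node 1251 (.node 1243 (.node 1239 (.node 1237 (.leaf 0x1080002) (.node 1238 (.leaf 0x1070002) (.leaf 0x8060002))) (.node 1241 (.node 1240 (.leaf 0x8050002) (.leaf 0x108060003)) (.node 1242 (.leaf 0x108050003) (.leaf 0x80001)))) (.node 1247 (.node 1245 (.node 1244 (.leaf 0x70001) (.leaf 0x1080002)) (.node 1246 (.leaf 0x1070002) (.leaf 0x8060002))) (.node 1249 (.node 1248 (.leaf 0x8050002) (.leaf 0x108060003)) (.node 1250 (.leaf 0x108050003) (.leaf 0x80001))))) (.node 1258 (.node 1254 (.node 1252 (.leaf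 0x70001) (.node 1253 (.leaf 0x1080002) (.leaf 0x1070002))) (.node 1256 (.node 1255 (.leaf 0x8060002) (.leaf 0x8050002)) (.node 1257 (.leaf 0x108060003) (.leaf 0x108050003)))) (.node 1262 (.node 1260 (.node 1259 (.leaf 0x80001) (.leaf 0x70001)) (.node 1261 (.leaf 0x1080002) (.leaf 0x1070002))) (.node 1264 (.node 1263 (.leaf 0x8060002) (.leaf 0x8050002)) (.node 1265 (.leaf 0x108060003) (.leaf 0x108050003))))))

def nodeWS_80 : Store := (.node 1281 (.node 1273 (.node 1269 (.node 1267 (.leaf 0x80001) (.node 1268 (.leaf 0x70001) (.leaf 0x1080002))) (.node 1271 (.node 1270 (.leaf 0x1070002) (.leaf 0x80001)) (.node 1272 (.leaf 0x70001) (.leaf 0x1080002)))) (.node 1277 (.node 1275 (.node 1274 (.leaf 0x1070002) (.leaf 0x8060002)) (.node 1276 (.leaf 0x8050002) (.leaf 0x108060003))) (.node 1279 (.node 1278 (.leaf 0x108050003) (.leaf 0x80001)) (.node 1280 (.leaf 0x1080002) (.leaf 0x1070002))))) (.node 1289 (.node 1285 (.node 1283 (.node 1282 (.leaf 0x8060002)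 (.leaf 0x8050002)) (.node 1284 (.leaf 0x108060003) (.leaf 0x108050003))) (.node 1287 (.node 1286 (.leaf 0x80001) (.leaf 0x70001)) (.node 1288 (.leaf 0x1080002) (.leaf 0x1070002)))) (.node 1293 (.node 1291 (.node 1290 (.leaf 0x8060002) (.leaf 0x8050002)) (.node 1292 (.leaf 0x108060003) (.leaf 0x108050003))) (.node 1295 (.node 1294 (.leaf 0x80001) (.leaf 0x70001)) (.node 1296 (.leaf 0x1080002) (.leaf 0x1070002))))))

def nodeWS_81 : Store := (.node 1266 nodeWS_79 nodeWS_80)

def nodeWS_82 : Store := (.node 1312 (.node 1304 (.node 1300 (.node 1298 (.leaf 0x80001) (.node 1299 (.leaf 0x70001) (.leaf 0x1080002))) (.node 1302 (.node 1301 (.leaf 0x8060002) (.leaf 0x8050002)) (.node 1303 (.leaf 0x108060003) (.leaf 0x108050003)))) (.node 1308 (.node 1306 (.node 1305 (.leaf 0x80001) (.leaf 0x70001)) (.node 1307 (.leaf 0x1080002) (.leaf 0x1070002))) (.node 1310 (.node 1309 (.leaf 0x8060002) (.leaf 0x8050002)) (.node 1311 (.leaf 0x108060003) (.leaf 0x108050003)))))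 (.node 1320 (.node 1316 (.node 1314 (.node 1313 (.leaf 0x70001) (.leaf 0x1070002)) (.node 1315 (.leaf 0x8060002) (.leaf 0x8050002))) (.node 1318 (.node 1317 (.leaf 0x108060003) (.leaf 0x108050003)) (.node 1319 (.leaf 0x80001) (.leaf 0x70001)))) (.node 1324 (.node 1322 (.node 1321 (.leaf 0x1080002) (.leaf 0x1070002)) (.node 1323 (.leaf 0x8060002) (.leaf 0x8050002))) (.node 1326 (.node 1325 (.leaf 0x108060003) (.leaf 0x108050003)) (.node 1327 (.leaf 0x80001) (.leaf 0x70001))))))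

def nodeWS_83 : Store := (.node 1343 (.node 1335 (.node 1331 (.node 1329 (.leaf 0x1080002) (.node 1330 (.leaf 0x1070002) (.leaf 0x8050002))) (.node 1333 (.node 1332 (.leaf 0x108050003) (.leaf 0x80001)) (.node 1334 (.leaf 0x70001) (.leaf 0x1080002)))) (.node 1339 (.node 1337 (.node 1336 (.leaf 0x1070002) (.leaf 0x8060002)) (.node 1338 (.leaf 0x8050002) (.leaf 0x108060003))) (.node 1341 (.node 1340 (.leaf 0x108050003) (.leaf 0x80001)) (.node 1342 (.leaf 0x1080002) (.leaf 0x8060002))))) (.node 1351 (.node 1347 (.node 1345 (.node 1344 (.leaf 0x8050002) (.leaf 0x108060003)) (.node 1346 (.leaf 0x108050003) (.leaf 0x80001))) (.node 1349 (.node 1348 (.leaf 0x70001) (.leaf 0x1080002)) (.node 1350 (.leaf 0x1070002) (.leaf 0x8060002)))) (.node 1355 (.node 1353 (.node 1352 (.leaf 0x8050002) (.leaf 0x108060003)) (.node 1354 (.leaf 0x108050003) (.leaf 0x80001))) (.node 1357 (.node 1356 (.leaf 0x70001) (.leaf 0x1080002)) (.node 1358 (.leaf 0x1070002) (.leaf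 0x8060002))))))

def nodeWS_84 : Store := (.node 1328 nodeWS_82 nodeWS_83)

def nodeWS_85 : Store := (.node 1297 nodeWS_81 nodeWS_84)

def nodeWS_86 : Store := (.node 1374 (.node 1366 (.node 1362 (.node 1360 (.leaf 0x8050002) (.node 1361 (.leaf 0x108060003) (.leaf 0x108050003))) (.node 1364 (.node 1363 (.leaf 0x80001) (.leaf 0x70001)) (.node 1365 (.leaf 0x1080002) (.leaf 0x1070002)))) (.node 1370 (.node 1368 (.node 1367 (.leaf 0x8060002) (.leaf 0x8050002)) (.node 1369 (.leaf 0x108060003) (.leaf 0x108050003))) (.node 1372 (.node 1371 (.leaf 0x80001) (.leaf 0x70001)) (.node 1373 (.leaf 0x1080002) (.leaf 0x1070002))))) (.node 1382 (.node 1378 (.node 1376 (.node 1375 (.leaf 0x8060002) (.leaf 0x8050002)) (.node 1377 (.leaf 0x108060003) (.leaf 0x108050003))) (.node 1380 (.node 1379 (.leaf 0x70001) (.leaf 0x1070002)) (.node 1381 (.leaf 0x8060002) (.leaf 0x8050002)))) (.node 1386 (.node 1384 (.node 1383 (.leaf 0x108060003) (.leaf 0x108050003)) (.node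 1385 (.leaf 0x80001) (.leaf 0x70001))) (.node 1388 (.node 1387 (.leaf 0x1080002) (.leaf 0x1070002)) (.node 1389 (.leaf 0x8060002) (.leaf 0x8050002))))))

def nodeWS_87 : Store := (.node 1405 (.node 1397 (.node 1393 (.node 1391 (.leaf 0x108060003) (.node 1392 (.leaf 0x108050003) (.leaf 0x80001))) (.node 1395 (.node 1394 (.leaf 0x70001) (.leaf 0x1080002)) (.node 1396 (.leaf 0x8060002) (.leaf 0x8050002)))) (.node 1401 (.node 1399 (.node 1398 (.leaf 0x108060003) (.leaf 0x108050003)) (.node 1400 (.leaf 0x80001) (.leaf 0x70001))) (.node 1403 (.node 1402 (.leaf 0x1080002) (.leaf 0x1070002)) (.node 1404 (.leaf 0x8060002) (.leaf 0x8050002))))) (.node 1413 (.node 1409 (.node 1407 (.node 1406 (.leaf 0x108050003) (.leaf 0x80001)) (.node 1408 (.leaf 0x70001) (.leaf 0x1070002))) (.node 1411 (.node 1410 (.leaf 0x8060002) (.leaf 0x8050002)) (.node 1412 (.leaf 0x108060003) (.leaf 0x108050003)))) (.node 1417 (.node 1415 (.node 1414 (.leaf 0x80001) (.leaf 0x70001))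 (.node 1416 (.leaf 0x1080002) (.leaf 0x1070002))) (.node 1419 (.node 1418 (.leaf 0x8060002) (.leaf 0x8050002)) (.node 1420 (.leaf 0x108060003) (.leaf 0x108050003))))))

def nodeWS_88 : Store := (.node 1390 nodeWS_86 nodeWS_87)

def nodeWS_89 : Store := (.node 1436 (.node 1428 (.node 1424 (.node 1422 (.leaf 0x80001) (.node 1423 (.leaf 0x70001) (.leaf 0x1080002))) (.node 1426 (.node 1425 (.leaf 0x1070002) (.leaf 0x8060002)) (.node 1427 (.leaf 0x8050002) (.leaf 0x108060003)))) (.node 1432 (.node 1430 (.node 1429 (.leaf 0x108050003) (.leaf 0x80001)) (.node 1431 (.leaf 0x70001) (.leaf 0x1080002))) (.node 1434 (.node 1433 (.leaf 0x1070002) (.leaf 0x8060002)) (.node 1435 (.leaf 0x8050002) (.leaf 0x108060003))))) (.node 1444 (.node 1440 (.node 1438 (.node 1437 (.leaf 0x108050003) (.leaf 0x80001)) (.node 1439 (.leaf 0x70001) (.leaf 0x1080002))) (.node 1442 (.node 1441 (.leaf 0x1070002) (.leaf 0x8060002)) (.node 1443 (.leaf 0x8050002) (.leaf 0x108060003))))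 (.node 1448 (.node 1446 (.node 1445 (.leaf 0x108050003) (.leaf 0x80001)) (.node 1447 (.leaf 0x70001) (.leaf 0x1080002))) (.node 1450 (.node 1449 (.leaf 0x1070002) (.leaf 0x8060002)) (.node 1451 (.leaf 0x108060003) (.leaf 0x108050003))))))

def nodeWS_90 : Store := (.node 1467 (.node 1459 (.node 1455 (.node 1453 (.leaf 0x80001) (.node 1454 (.leaf 0x1080002) (.leaf 0x8060002))) (.node 1457 (.node 1456 (.leaf 0x8050002) (.leaf 0x108060003)) (.node 1458 (.leaf 0x108050003) (.leaf 0x80001)))) (.node 1463 (.node 1461 (.node 1460 (.leaf 0x70001) (.leaf 0x1080002)) (.node 1462 (.leaf 0x1070002) (.leaf 0x8060002))) (.node 1465 (.node 1464 (.leaf 0x8050002) (.leaf 0x108060003)) (.node 1466 (.leaf 0x80001) (.leaf 0x70001))))) (.node 1475 (.node 1471 (.node 1469 (.node 1468 (.leaf 0x1080002) (.leaf 0x1070002)) (.node 1470 (.leaf 0x8060002) (.leaf 0x108060003))) (.node 1473 (.node 1472 (.leaf 0x80001) (.leaf 0x70001)) (.node 1474 (.leaf 0x1080002) (.leaf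 0x1070002)))) (.node 1479 (.node 1477 (.node 1476 (.leaf 0x8060002) (.leaf 0x8050002)) (.node 1478 (.leaf 0x108060003) (.leaf 0x108050003))) (.node 1481 (.node 1480 (.leaf 0x80001) (.leaf 0x70001)) (.node 1482 (.leaf 0x1080002) (.leaf 0x1070002))))))

def nodeWS_91 : Store := (.node 1452 nodeWS_89 nodeWS_90)

def nodeWS_92 : Store := (.node 1421 nodeWS_88 nodeWS_91)

def nodeWS_93 : Store := (.node 1359 nodeWS_85 nodeWS_92)

def nodeWS_94 : Store := (.node 1236 nodeWS_78 nodeWS_93)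

def nodeWS_95 : Store := (.node 1498 (.node 1490 (.node 1486 (.node 1484 (.leaf 0x8060002) (.node 1485 (.leaf 0x8050002) (.leaf 0x108060003))) (.node 1488 (.node 1487 (.leaf 0x108050003) (.leaf 0x80001)) (.node 1489 (.leaf 0x70001) (.leaf 0x1080002)))) (.node 1494 (.node 1492 (.node 1491 (.leaf 0x1070002) (.leaf 0x8060002)) (.node 1493 (.leaf 0x8050002) (.leaf 0x108060003))) (.node 1496 (.node 1495 (.leaf 0x108050003) (.leaf 0x80001)) (.node 1497 (.leaf 0x70001) (.leaf 0x1080002))))) (.node 1505 (.node 1501 (.node 1499 (.leaf 0x1070002) (.node 1500 (.leaf 0x8060002) (.leaf 0x8050002))) (.node 1503 (.node 1502 (.leaf 0x108060003) (.leaf 0x108050003)) (.node 1504 (.leaf 0x70001) (.leaf 0x1070002)))) (.node 1509 (.node 1507 (.node 1506 (.leaf 0x8060002) (.leaf 0x8050002)) (.node 1508 (.leaf 0x108060003) (.leaf 0x108050003))) (.node 1511 (.node 1510 (.leaf 0x80001) (.leaf 0x70001)) (.node 1512 (.leaf 0x1080002) (.leaf 0x1070002))))))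

def nodeWS_96 : Store := (.node 1528 (.node 1520 (.node 1516 (.node 1514 (.leaf 0x8060002) (.node 1515 (.leaf 0x108060003) (.leaf 0x80001))) (.node 1518 (.node 1517 (.leaf 0x70001) (.leaf 0x1080002)) (.node 1519 (.leaf 0x1070002) (.leaf 0x8050002)))) (.node 1524 (.node 1522 (.node 1521 (.leaf 0x108050003) (.leaf 0x80001)) (.node 1523 (.leaf 0x70001) (.leaf 0x1080002))) (.node 1526 (.node 1525 (.leaf 0x1070002) (.leaf 0x8050002)) (.node 1527 (.leaf 0x108050003) (.leaf 0x70001))))) (.node 1536 (.node 1532 (.node 1530 (.node 1529 (.leaf 0x1080002) (.leaf 0x1070002)) (.node 1531 (.leaf 0x8060002) (.leaf 0x8050002))) (.node 1534 (.node 1533 (.leaf 0x108060003) (.leaf 0x108050003)) (.node 1535 (.leaf 0x80001) (.leaf 0x1080002)))) (.node 1540 (.node 1538 (.node 1537 (.leaf 0x8060002) (.leaf 0x8050002)) (.node 1539 (.leaf 0x108060003) (.leaf 0x108050003))) (.node 1542 (.node 1541 (.leaf 0x80001) (.leaf 0x70001)) (.node 1543 (.leaf 0x1080002) (.leaf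 0x1070002))))))

def nodeWS_97 : Store := (.node 1513 nodeWS_95 nodeWS_96)

def nodeWS_98 : Store := (.node 1559 (.node 1551 (.node 1547 (.node 1545 (.leaf 0x8060002) (.node 1546 (.leaf 0x8050002) (.leaf 0x108060003))) (.node 1549 (.node 1548 (.leaf 0x108050003) (.leaf 0x80001)) (.node 1550 (.leaf 0x70001) (.leaf 0x1080002)))) (.node 1555 (.node 1553 (.node 1552 (.leaf 0x1070002) (.leaf 0x8060002)) (.node 1554 (.leaf 0x8050002) (.leaf 0x108060003))) (.node 1557 (.node 1556 (.leaf 0x108050003) (.leaf 0x80001)) (.node 1558 (.leaf 0x70001) (.leaf 0x1080002))))) (.node 1567 (.node 1563 (.node 1561 (.node 1560 (.leaf 0x1070002) (.leaf 0x8060002)) (.node 1562 (.leaf 0x8050002) (.leaf 0x108060003))) (.node 1565 (.node 1564 (.leaf 0x108050003) (.leaf 0x70001)) (.node 1566 (.leaf 0x1080002) (.leaf 0x1070002)))) (.node 1571 (.node 1569 (.node 1568 (.leaf 0x8060002) (.leaf 0x8050002)) (.node 1570 (.leaf 0x108060003) (.leaf 0x108050003))) (.node 1573 (.node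 1572 (.leaf 0x80001) (.leaf 0x70001)) (.node 1574 (.leaf 0x1080002) (.leaf 0x1070002))))))

def nodeWS_99 : Store := (.node 1590 (.node 1582 (.node 1578 (.node 1576 (.leaf 0x8060002) (.node 1577 (.leaf 0x8050002) (.leaf 0x108060003))) (.node 1580 (.node 1579 (.leaf 0x108050003) (.leaf 0x80001)) (.node 1581 (.leaf 0x70001) (.leaf 0x1080002)))) (.node 1586 (.node 1584 (.node 1583 (.leaf 0x1070002) (.leaf 0x8060002)) (.node 1585 (.leaf 0x8050002) (.leaf 0x108060003))) (.node 1588 (.node 1587 (.leaf 0x108050003) (.leaf 0x70001)) (.node 1589 (.leaf 0x1080002) (.leaf 0x1070002))))) (.node 1598 (.node 1594 (.node 1592 (.node 1591 (.leaf 0x8060002) (.leaf 0x8050002)) (.node 1593 (.leaf 0x108060003) (.leaf 0x108050003))) (.node 1596 (.node 1595 (.leaf 0x80001) (.leaf 0x70001)) (.node 1597 (.leaf 0x1070002) (.leaf 0x8060002)))) (.node 1602 (.node 1600 (.node 1599 (.leaf 0x8050002) (.leaf 0x108060003)) (.node 1601 (.leaf 0x108050003) (.leaf 0x80001))) (.node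 1604 (.node 1603 (.leaf 0x70001) (.leaf 0x1070002)) (.node 1605 (.leaf 0x8060002) (.leaf 0x8050002))))))

def nodeWS_100 : Store := (.node 1575 nodeWS_98 nodeWS_99)

def nodeWS_101 : Store := (.node 1544 nodeWS_97 nodeWS_100)

def nodeWS_102 : Store := (.node 1621 (.node 1613 (.node 1609 (.node 1607 (.leaf 0x108060003) (.node 1608 (.leaf 0x108050003) (.leaf 0x80001))) (.node 1611 (.node 1610 (.leaf 0x70001) (.leaf 0x1080002)) (.node 1612 (.leaf 0x1070002) (.leaf 0x8060002)))) (.node 1617 (.node 1615 (.node 1614 (.leaf 0x8050002) (.leaf 0x108060003)) (.node 1616 (.leaf 0x108050003) (.leaf 0x80001))) (.node 1619 (.node 1618 (.leaf 0x70001) (.leaf 0x1080002)) (.node 1620 (.leaf 0x1070002) (.leaf 0x8060002))))) (.node 1629 (.node 1625 (.node 1623 (.node 1622 (.leaf 0x8050002) (.leaf 0x108060003)) (.node 1624 (.leaf 0x108050003) (.leaf 0x80001))) (.node 1627 (.node 1626 (.leaf 0x70001) (.leaf 0x1080002)) (.node 1628 (.leaf 0x1070002) (.leaf 0x8060002))))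 (.node 1633 (.node 1631 (.node 1630 (.leaf 0x8050002) (.leaf 0x108050003)) (.node 1632 (.leaf 0x80001) (.leaf 0x70001))) (.node 1635 (.node 1634 (.leaf 0x1080002) (.leaf 0x1070002)) (.node 1636 (.leaf 0x8060002) (.leaf 0x8050002))))))

def nodeWS_103 : Store := (.node 1652 (.node 1644 (.node 1640 (.node 1638 (.leaf 0x108060003) (.node 1639 (.leaf 0x108050003) (.leaf 0x80001))) (.node 1642 (.node 1641 (.leaf 0x1080002) (.leaf 0x1070002)) (.node 1643 (.leaf 0x8060002) (.leaf 0x8050002)))) (.node 1648 (.node 1646 (.node 1645 (.leaf 0x108060003) (.leaf 0x108050003)) (.node 1647 (.leaf 0x80001) (.leaf 0x70001))) (.node 1650 (.node 1649 (.leaf 0x1080002) (.leaf 0x1070002)) (.node 1651 (.leaf 0x8060002) (.leaf 0x8050002))))) (.node 1660 (.node 1656 (.node 1654 (.node 1653 (.leaf 0x108050003) (.leaf 0x80001)) (.node 1655 (.leaf 0x70001) (.leaf 0x1080002))) (.node 1658 (.node 1657 (.leaf 0x1070002) (.leaf 0x8050002)) (.node 1659 (.leaf 0x108050003) (.leaf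 0x70001)))) (.node 1664 (.node 1662 (.node 1661 (.leaf 0x1070002) (.leaf 0x8060002)) (.node 1663 (.leaf 0x8050002) (.leaf 0x108060003))) (.node 1666 (.node 1665 (.leaf 0x108050003) (.leaf 0x70001)) (.node 1667 (.leaf 0x1070002) (.leaf 0x8060002))))))

def nodeWS_104 : Store := (.node 1637 nodeWS_102 nodeWS_103)

def nodeWS_105 : Store := (.node 1683 (.node 1675 (.node 1671 (.node 1669 (.leaf 0x8050002) (.node 1670 (.leaf 0x108060003) (.leaf 0x108050003))) (.node 1673 (.node 1672 (.leaf 0x80001) (.leaf 0x70001)) (.node 1674 (.leaf 0x1080002) (.leaf 0x1070002)))) (.node 1679 (.node 1677 (.node 1676 (.leaf 0x8060002) (.leaf 0x8050002)) (.node 1678 (.leaf 0x108060003) (.leaf 0x108050003))) (.node 1681 (.node 1680 (.leaf 0x80001) (.leaf 0x70001)) (.node 1682 (.leaf 0x1080002) (.leaf 0x1070002))))) (.node 1691 (.node 1687 (.node 1685 (.node 1684 (.leaf 0x8060002) (.leaf 0x8050002)) (.node 1686 (.leaf 0x108060003) (.leaf 0x108050003))) (.node 1689 (.node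 1688 (.leaf 0x80001) (.leaf 0x70001)) (.node 1690 (.leaf 0x1080002) (.leaf 0x1070002)))) (.node 1695 (.node 1693 (.node 1692 (.leaf 0x8060002) (.leaf 0x8050002)) (.node 1694 (.leaf 0x108060003) (.leaf 0x108050003))) (.node 1697 (.node 1696 (.leaf 0x80001) (.leaf 0x70001)) (.node 1698 (.leaf 0x1070002) (.leaf 0x8060002))))))

def nodeWS_106 : Store := (.node 1714 (.node 1706 (.node 1702 (.node 1700 (.leaf 0x8050002) (.node 1701 (.leaf 0x108060003) (.leaf 0x108050003))) (.node 1704 (.node 1703 (.leaf 0x80001) (.leaf 0x70001)) (.node 1705 (.leaf 0x1080002) (.leaf 0x1070002)))) (.node 1710 (.node 1708 (.node 1707 (.leaf 0x8060002) (.leaf 0x8050002)) (.node 1709 (.leaf 0x108060003) (.leaf 0x108050003))) (.node 1712 (.node 1711 (.leaf 0x80001) (.leaf 0x70001)) (.node 1713 (.leaf 0x1080002) (.leaf 0x1070002))))) (.node 1722 (.node 1718 (.node 1716 (.node 1715 (.leaf 0x8060002) (.leaf 0x8050002)) (.node 1717 (.leaf 0x108060003) (.leaf 0x108050003)))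 (.node 1720 (.node 1719 (.leaf 0x80001) (.leaf 0x70001)) (.node 1721 (.leaf 0x1070002) (.leaf 0x8060002)))) (.node 1726 (.node 1724 (.node 1723 (.leaf 0x8050002) (.leaf 0x108060003)) (.node 1725 (.leaf 0x108050003) (.leaf 0x80001))) (.node 1728 (.node 1727 (.leaf 0x70001) (.leaf 0x1080002)) (.node 1729 (.leaf 0x1070002) (.leaf 0x8060002))))))

def nodeWS_107 : Store := (.node 1699 nodeWS_105 nodeWS_106)

def nodeWS_108 : Store := (.node 1668 nodeWS_104 nodeWS_107)

def nodeWS_109 : Store := (.node 1606 nodeWS_101 nodeWS_108)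

def nodeWS_110 : Store := (.node 1745 (.node 1737 (.node 1733 (.node 1731 (.leaf 0x8050002) (.node 1732 (.leaf 0x108060003) (.leaf 0x108050003))) (.node 1735 (.node 1734 (.leaf 0x80001) (.leaf 0x70001)) (.node 1736 (.leaf 0x1080002) (.leaf 0x1070002)))) (.node 1741 (.node 1739 (.node 1738 (.leaf 0x8060002) (.leaf 0x8050002)) (.node 1740 (.leaf 0x108060003) (.leaf 0x108050003))) (.node 1743 (.node 1742 (.leaf 0x80001) (.leaf 0x70001)) (.node 1744 (.leaf 0x1080002) (.leaf 0x1070002))))) (.node 1753 (.node 1749 (.node 1747 (.node 1746 (.leaf 0x8060002) (.leaf 0x8050002)) (.node 1748 (.leaf 0x108060003) (.leaf 0x108050003))) (.node 1751 (.node 1750 (.leaf 0x80001) (.leaf 0x70001)) (.node 1752 (.leaf 0x1080002) (.leaf 0x1070002)))) (.node 1757 (.node 1755 (.node 1754 (.leaf 0x8060002) (.leaf 0x108060003)) (.node 1756 (.leaf 0x80001) (.leaf 0x70001))) (.node 1759 (.node 1758 (.leaf 0x1080002) (.leaf 0x1070002)) (.node 1760 (.leaf 0x8060002) (.leaf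 0x8050002))))))

def nodeWS_111 : Store := (.node 1776 (.node 1768 (.node 1764 (.node 1762 (.leaf 0x108060003) (.node 1763 (.leaf 0x108050003) (.leaf 0x80001))) (.node 1766 (.node 1765 (.leaf 0x1080002) (.leaf 0x8060002)) (.node 1767 (.leaf 0x8050002) (.leaf 0x108060003)))) (.node 1772 (.node 1770 (.node 1769 (.leaf 0x108050003) (.leaf 0x80001)) (.node 1771 (.leaf 0x70001) (.leaf 0x1080002))) (.node 1774 (.node 1773 (.leaf 0x1070002) (.leaf 0x8060002)) (.node 1775 (.leaf 0x8050002) (.leaf 0x108060003))))) (.node 1784 (.node 1780 (.node 1778 (.node 1777 (.leaf 0x108050003) (.leaf 0x80001)) (.node 1779 (.leaf 0x70001) (.leaf 0x1080002))) (.node 1782 (.node 1781 (.leaf 0x1070002) (.leaf 0x8060002)) (.node 1783 (.leaf 0x8050002) (.leaf 0x108060003)))) (.node 1788 (.node 1786 (.node 1785 (.leaf 0x108050003) (.leaf 0x80001)) (.node 1787 (.leaf 0x70001) (.leaf 0x1080002))) (.node 1790 (.node 1789 (.leaf 0x1070002) (.leaf 0x8060002)) (.node 1791 (.leaf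 0x8050002) (.leaf 0x108060003))))))

def nodeWS_112 : Store := (.node 1761 nodeWS_110 nodeWS_111)

def nodeWS_113 : Store := (.node 1807 (.node 1799 (.node 1795 (.node 1793 (.leaf 0x108050003) (.node 1794 (.leaf 0x80001) (.leaf 0x70001))) (.node 1797 (.node 1796 (.leaf 0x1080002) (.leaf 0x1070002)) (.node 1798 (.leaf 0x8060002) (.leaf 0x8050002)))) (.node 1803 (.node 1801 (.node 1800 (.leaf 0x108060003) (.leaf 0x108050003)) (.node 1802 (.leaf 0x1070002) (.leaf 0x8060002))) (.node 1805 (.node 1804 (.leaf 0x8050002) (.leaf 0x108060003)) (.node 1806 (.leaf 0x108050003) (.leaf 0x80001))))) (.node 1815 (.node 1811 (.node 1809 (.node 1808 (.leaf 0x70001) (.leaf 0x1080002)) (.node 1810 (.leaf 0x1070002) (.leaf 0x8060002))) (.node 1813 (.node 1812 (.leaf 0x8050002) (.leaf 0x108060003)) (.node 1814 (.leaf 0x108050003) (.leaf 0x80001)))) (.node 1819 (.node 1817 (.node 1816 (.leaf 0x70001) (.leaf 0x1080002)) (.node 1818 (.leaf 0x1070002) (.leaf 0x8060002)))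 (.node 1821 (.node 1820 (.leaf 0x108060003) (.leaf 0x80001)) (.node 1822 (.leaf 0x70001) (.leaf 0x1080002))))))

def nodeWS_114 : Store := (.node 1838 (.node 1830 (.node 1826 (.node 1824 (.leaf 0x1070002) (.node 1825 (.leaf 0x8060002) (.leaf 0x8050002))) (.node 1828 (.node 1827 (.leaf 0x108060003) (.leaf 0x108050003)) (.node 1829 (.leaf 0x70001) (.leaf 0x1070002)))) (.node 1834 (.node 1832 (.node 1831 (.leaf 0x8060002) (.leaf 0x8050002)) (.node 1833 (.leaf 0x108060003) (.leaf 0x108050003))) (.node 1836 (.node 1835 (.leaf 0x80001) (.leaf 0x70001)) (.node 1837 (.leaf 0x1080002) (.leaf 0x1070002))))) (.node 1846 (.node 1842 (.node 1840 (.node 1839 (.leaf 0x8060002) (.leaf 0x8050002)) (.node 1841 (.leaf 0x108060003) (.leaf 0x80001))) (.node 1844 (.node 1843 (.leaf 0x70001) (.leaf 0x1080002)) (.node 1845 (.leaf 0x1070002) (.leaf 0x8060002)))) (.node 1850 (.node 1848 (.node 1847 (.leaf 0x108060003) (.leaf 0x80001)) (.node 1849 (.leaf 0x70001) (.leaf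 0x1070002))) (.node 1852 (.node 1851 (.leaf 0x8050002) (.leaf 0x108060003)) (.node 1853 (.leaf 0x108050003) (.leaf 0x80001))))))

def nodeWS_115 : Store := (.node 1823 nodeWS_113 nodeWS_114)

def nodeWS_116 : Store := (.node 1792 nodeWS_112 nodeWS_115)

def nodeWS_117 : Store := (.node 1869 (.node 1861 (.node 1857 (.node 1855 (.leaf 0x70001) (.node 1856 (.leaf 0x1080002) (.leaf 0x1070002))) (.node 1859 (.node 1858 (.leaf 0x8060002) (.leaf 0x8050002)) (.node 1860 (.leaf 0x108060003) (.leaf 0x108050003)))) (.node 1865 (.node 1863 (.node 1862 (.leaf 0x80001) (.leaf 0x70001)) (.node 1864 (.leaf 0x1080002) (.leaf 0x1070002))) (.node 1867 (.node 1866 (.leaf 0x8060002) (.leaf 0x8050002)) (.node 1868 (.leaf 0x108060003) (.leaf 0x108050003))))) (.node 1877 (.node 1873 (.node 1871 (.node 1870 (.leaf 0x80001) (.leaf 0x70001)) (.node 1872 (.leaf 0x1080002) (.leaf 0x1070002))) (.node 1875 (.node 1874 (.leaf 0x8060002) (.leaf 0x8050002)) (.node 1876 (.leaf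 0x108060003) (.leaf 0x108050003)))) (.node 1881 (.node 1879 (.node 1878 (.leaf 0x80001) (.leaf 0x1080002)) (.node 1880 (.leaf 0x1070002) (.leaf 0x8060002))) (.node 1883 (.node 1882 (.leaf 0x8050002) (.leaf 0x108060003)) (.node 1884 (.leaf 0x108050003) (.leaf 0x80001))))))

def nodeWS_118 : Store := (.node 1900 (.node 1892 (.node 1888 (.node 1886 (.leaf 0x70001) (.node 1887 (.leaf 0x1080002) (.leaf 0x1070002))) (.node 1890 (.node 1889 (.leaf 0x8060002) (.leaf 0x8050002)) (.node 1891 (.leaf 0x108060003) (.leaf 0x108050003)))) (.node 1896 (.node 1894 (.node 1893 (.leaf 0x80001) (.leaf 0x1070002)) (.node 1895 (.leaf 0x8050002) (.leaf 0x108050003))) (.node 1898 (.node 1897 (.leaf 0x80001) (.leaf 0x70001)) (.node 1899 (.leaf 0x1080002) (.leaf 0x1070002))))) (.node 1908 (.node 1904 (.node 1902 (.node 1901 (.leaf 0x8060002) (.leaf 0x8050002)) (.node 1903 (.leaf 0x108060003) (.leaf 0x108050003))) (.node 1906 (.node 1905 (.leaf 0x80001) (.leaf 0x70001))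 (.node 1907 (.leaf 0x1080002) (.leaf 0x1070002)))) (.node 1912 (.node 1910 (.node 1909 (.leaf 0x8050002) (.leaf 0x108050003)) (.node 1911 (.leaf 0x70001) (.leaf 0x1070002))) (.node 1914 (.node 1913 (.leaf 0x8060002) (.leaf 0x108060003)) (.node 1915 (.leaf 0x70001) (.leaf 0x1070002))))))

def nodeWS_119 : Store := (.node 1885 nodeWS_117 nodeWS_118)

def nodeWS_120 : Store := (.node 1931 (.node 1923 (.node 1919 (.node 1917 (.leaf 0x8060002) (.node 1918 (.leaf 0x8050002) (.leaf 0x80001))) (.node 1921 (.node 1920 (.leaf 0x70001) (.leaf 0x1080002)) (.node 1922 (.leaf 0x1070002) (.leaf 0x8060002)))) (.node 1927 (.node 1925 (.node 1924 (.leaf 0x8050002) (.leaf 0x108060003)) (.node 1926 (.leaf 0x108050003) (.leaf 0x80001))) (.node 1929 (.node 1928 (.leaf 0x70001) (.leaf 0x1080002)) (.node 1930 (.leaf 0x1070002) (.leaf 0x8050002))))) (.node 1939 (.node 1935 (.node 1933 (.node 1932 (.leaf 0x108050003) (.leaf 0x80001)) (.node 1934 (.leaf 0x70001) (.leaf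 0x1080002))) (.node 1937 (.node 1936 (.leaf 0x1070002) (.leaf 0x8060002)) (.node 1938 (.leaf 0x8050002) (.leaf 0x108060003)))) (.node 1943 (.node 1941 (.node 1940 (.leaf 0x108050003) (.leaf 0x80001)) (.node 1942 (.leaf 0x1080002) (.leaf 0x1070002))) (.node 1945 (.node 1944 (.leaf 0x8060002) (.leaf 0x8050002)) (.node 1946 (.leaf 0x108060003) (.leaf 0x108050003))))))

def nodeWS_121 : Store := (.node 1962 (.node 1954 (.node 1950 (.node 1948 (.leaf 0x80001) (.node 1949 (.leaf 0x70001) (.leaf 0x1080002))) (.node 1952 (.node 1951 (.leaf 0x1070002) (.leaf 0x8050002)) (.node 1953 (.leaf 0x108050003) (.leaf 0x80001)))) (.node 1958 (.node 1956 (.node 1955 (.leaf 0x70001) (.leaf 0x1080002)) (.node 1957 (.leaf 0x1070002) (.leaf 0x8060002))) (.node 1960 (.node 1959 (.leaf 0x8050002) (.leaf 0x108060003)) (.node 1961 (.leaf 0x108050003) (.leaf 0x70001))))) (.node 1970 (.node 1966 (.node 1964 (.node 1963 (.leaf 0x1070002) (.leaf 0x8060002)) (.node 1965 (.leaf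 0x8050002) (.leaf 0x108060003))) (.node 1968 (.node 1967 (.leaf 0x108050003) (.leaf 0x80001)) (.node 1969 (.leaf 0x70001) (.leaf 0x1080002)))) (.node 1974 (.node 1972 (.node 1971 (.leaf 0x1070002) (.leaf 0x8050002)) (.node 1973 (.leaf 0x108050003) (.leaf 0x80001))) (.node 1976 (.node 1975 (.leaf 0x70001) (.leaf 0x1080002)) (.node 1977 (.leaf 0x1070002) (.leaf 0x8050002))))))

def nodeWS_122 : Store := (.node 1947 nodeWS_120 nodeWS_121)

def nodeWS_123 : Store := (.node 1916 nodeWS_119 nodeWS_122)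

def nodeWS_124 : Store := (.node 1854 nodeWS_116 nodeWS_123)

def nodeWS_125 : Store := (.node 1730 nodeWS_109 nodeWS_124)

def nodeWS_126 : Store := (.node 1483 nodeWS_94 nodeWS_125)

def nodeWS : Store := (.node 989 nodeWS_63 nodeWS_126)

def nodeTS : Store := (.node 8 (.node 4 (.node 2 (.node 1 (.leaf 0x10001000100010001000100010001000100010001000100010001000100010001000100010001000100010001000100010001000100010001000100010001000100010001000100010001000100010001000100010001000100010001000100010001000100010001000100010001000100010001000100010001000100010001000100010001000100010001000100010001000100010001000100010001000100010001000100010001000100010001000100010001000100010001000100010001000100010001000100010001000100010001000100010001000100010001000100010001000100010001000100010001000100010001000100010000) (.leaf 0x10001000100010001000100010001000100010001000100010001000100010001000100010001000100010001000100010001000100010001000100010001000100010001000100010001000100010001000100010001000100010001000100010001000100010001000100010001000100010001000100010001000100010001000100010001000100010001000100010001000100010001000100010001000100010001000100010001000100010001000100010001000100010001000100010001000100010001000100010001000100010001000100010001000100010001000100010001000100010001000100010001000100010001000100010001))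 (.node 3 (.leaf 0x10001000100010001000100010001000100010001000100010001000100010001000100010001000100010001000100010001000100010001000100010001000100010001000100010001000100010001000100010001000100010001000100010001000100010001000100010001000100010001000100010001000100010001000100010001000100010001000100010001000100010001000100010001000100010001000100010001000100010001000100010001000100010001000100010001000100010001000100010001000100010001000100010001000100010001000100010001000100010001000100010001000100010001000100010001) (.leaf 0x10001000100010001000100010001000100010001000100010001000100010001000100010001000100010001000100010001000100010001000100010001000100010001000100010001000100010001000100010001000100010001000100010001000100010001000100010001000100010001000100010001000100010001000100010001000100010001000100010001000100010001000100010001000100010001000100010001000100010001000100010001000100010001000100010001000100010001000100010001000100010001000100010001000100010001000100010001000100010001000100010001000100010001000100010001)))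 (.node 6 (.node 5 (.leaf 0x10001000100010001000100010001000100010001000100010001000100010001000100010001000100010001000100010001000100010001000100010001000100010001000100010001000100010001000100010001000100010001000100010001000100010001000100010001000100010001000100010001000100010001000100010001000100010001000100010001000100010001000100010001000100010001000100010001000100010001000100010001000100010001000100010001000100010001000100010001000100010001000100010001000100010001000100010001000100010001000100010001000100010001000100010001) (.leaf 0x10001000100010001000100010001000100010001000100010001000100010001000100010001000100010001000100010001000100010001000100010001000100010001000100010001000100010001000100010001000100010001000100010001000100010001000100010001000100010001000100010001000100010001000100010001000100010001000100010001000100010001000100010001000100010001000100010001000100010001000100010001000100010001000100010001000100010001000100010001000100010001000100010001000100010001000100010001000100010001000100010001000100010001000100010001))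 (.node 7 (.leaf 0x10001000100010001000100010001000100010001000100010001000100010001000100010001000100010001000100010001000100010001000100010001000100010001000100010001000100010001000100010001000100010001000100010001000100010001000100010001000100010001000100010001000100010001000100010001000100010001000100010001000100010001000100010001000100010001000100010001000100010001000100010001000100010001000100010001000100010001000100010001000100010001000100010001000100010001000100010001000100010001000100010001000100010001000100010001) (.leaf 0x10001000100010001000100010001000100010001000100010001000100010001000100010001000100010001000100010001000100010001000100010001000100010001000100010001000100010001000100010001000100010001000100010001000100010001000100010001000100010001000100010001000100010001000100010001000100010001000100010001000100010001000100010001000100010001000100010001000100010001000100010001000100010001000100010001000100010001000100010001000100010001000100010001000100010001000100010001000100010001000100010001000100010001000100010001))))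 (.node 12 (.node 10 (.node 9 (.leaf 0x10001000100010001000100010001000100010001000100010001000100010001000100010001000100010001000100010001000100010001000100010001000100010001000100010001000100010001000100010001000100010001000100010001000100010001000100010001000100010001000100010001000100010001000100010001000100010001000100010001000100010001000100010001000100010001000100010001000100010001000100010001000100010001000100010001000100010001000100010001000100010001000100010001000100010001000100010001000100010001000100010001000100010001000100010001) (.leaf 0x10001000100010001000100010001000100010001000100010001000100010001000100010001000100010001000100010001000100010001000100010001000100010001000100010001000100010001000100010001000100010001000100010001000100010001000100010001000100010001000100010001000100010001000100010001000100010001000100010001000100010001000100010001000100010001000100010001000100010001000100010001000100010001000100010001000100010001000100010001000100010001000100010001000100010001000100010001000100010001000100010001000100010001000100010001))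 (.node 11 (.leaf 0x10001000100010001000100010001000100010001000100010001000100010001000100010001000100010001000100010001000100010001000100010001000100010001000100010001000100010001000100010001000100010001000100010001000100010001000100010001000100010001000100010001000100010001000100010001000100010001000100010001000100010001000100010001000100010001000100010001000100010001000100010001000100010001000100010001000100010001000100010001000100010001000100010001000100010001000100010001000100010001000100010001000100010001000100010001) (.leaf 0x10001000100010001000100010001000100010001000100010001000100010001000100010001000100010001000100010001000100010001000100010001000100010001000100010001000100010001000100010001000100010001000100010001000100010001000100010001000100010001000100010001000100010001000100010001000100010001000100010001000100010001000100010001000100010001000100010001000100010001000100010001000100010001000100010001000100010001000100010001000100010001000100010001000100010001000100010001000100010001000100010001000100010001000100010001)))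 (.node 14 (.node 13 (.leaf 0x10001000100010001000100010001000100010001000100010001000100010001000100010001000100010001000100010001000100010001000100010001000100010001000100010001000100010001000100010001000100010001000100010001000100010001000100010001000100010001000100010001000100010001000100010001000100010001000100010001000100010001000100010001000100010001000100010001000100010001000100010001000100010001000100010001000100010001000100010001000100010001000100010001000100010001000100010001000100010001000100010001000100010001000100010001) (.leaf 0x10001000100010001000100010001000100010001000100010001000100010001000100010001000100010001000100010001000100010001000100010001000100010001000100010001000100010001000100010001000100010001000100010001000100010001000100010001000100010001000100010001000100010001000100010001000100010001000100010001000100010001000100010001000100010001000100010001000100010001000100010001000100010001000100010001000100010001000100010001000100010001000100010001000100010001000100010001000100010001000100010001000100010001000100010001))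 (.node 15 (.leaf 0x10001000100010001000100010001000100010001000100010001000100010001000100010001000100010001000100010001000100010001000100010001000100010001000100010001000100010001000100010001000100010001000100010001000100010001000100010001000100010001000100010001000100010001000100010001000100010001000100010001000100010001000100010001000100010001000100010001000100010001000100010001000100010001000100010001000100010001000100010001000100010001000100010001000100010001000100010001000100010001000100010001000100010001000100010001) (.leaf 0x1000100010001000100010001000100010001000100010001000100010001000100010001000100010001000100010001000100010001000100010001000100010001000100010001000100010001000100010001000100010001000100010001000100010001000100010001000100010001)))))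

noncomputable def nodeT : Nat → Nat := get16 nodeTS


end Cfsg.Agent.JThreeUniq.Cert2
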